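import Cfsg.Agent.BlockPairing.Subsections

/-!
# The first row of a block; 2-blocks of defect one
-/

set_option autoImplicit false
set_option linter.unusedSectionVars false
set_option linter.style.haveILetI false

namespace CfsgLib.BlockPairing

open CfsgLib.Blocks Cfsg
open scoped ComplexConjugate

universe u

variable {G : Type u} [Group G] [Fintype G] {M : Ideal AlgInt} [M.IsPrime] {p : ℕ}

open Classical in
/-- The row of `p ^ d * [χ, ·]°` at a character of height zero. -/
theorem exists_row [hp : Fact p.Prime] (hM : Cfsg.IsPModular p M) {B : Set (IrrCharacter G)}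
    (hB : Cfsg.IsPBlock M B) {χ : IrrCharacter G} (hχ : χ ∈ B)
    (hmin : ∀ φ ∈ B, (Cfsg.charDegree (χ : G → ℂ)).factorization p ≤
      (Cfsg.charDegree (φ : G → ℂ)).factorization p) :
    ∃ c : IrrCharacter G → ℤ,
      (∀ ψ : IrrCharacter G,
        ((p ^ Cfsg.blockDefect p B : ℕ) : ℂ) * regInner p (χ : G → ℂ) (ψ : G → ℂ) = c ψ) ∧
      (∀ ψ ∈ B, c ψ ≠ 0) ∧
      (∑ ψ, c ψ ^ 2 = (p : ℤ) ^ Cfsg.blockDefect p B * c χ) ∧
      (((Nat.card B : ℤ) - 1) + c χ ^ 2 ≤ (p : ℤ) ^ Cfsg.blockDefect p B * c χ) := by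
  choose c hc using exists_int_pow_defect (p := p) hχ
  set d := Cfsg.blockDefect p B
  have hne : ∀ ψ ∈ B, c ψ ≠ 0 := by
    intro ψ hψ h0
    have h := hc ψ
    rw [h0, Int.cast_zero, mul_eq_zero] at h
    have h' := h.resolve_left (Nat.cast_ne_zero.2 (pow_ne_zero _ hp.out.ne_zero))
    refine regSum_not_mem_of_minimal hM hB hχ hmin hψ ?_
    rw [regSum_eq, regInner_symm p ψ χ, h', mul_zero]
    exact memLocalIdeal_zero
  have hsq : ∑ ψ, c ψ ^ 2 = (p : ℤ) ^ d * c χ := by
    have h := congrArg (fun t : ℂ => (((p ^ d : ℕ) : ℂ)) ^ 2 * t) (sum_regInner_sq (p := p) χ)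
    simp only [Finset.mul_sum] at h
    apply Int.cast_injective (α := ℂ)
    push_cast at h hc ⊢
    rw [← hc χ, ← mul_assoc, ← sq, ← h]
    refine Finset.sum_congr rfl fun ψ _ => ?_
    have hre := congrArg conj (hc ψ)
    simp only [map_mul, map_pow, map_natCast, map_intCast] at hre
    rw [sq ((c ψ : ℂ))]
    conv_lhs => arg 1; rw [← hc ψ]
    conv_lhs => arg 2; rw [← hre]
    ring
  refine ⟨c, hc, hne, hsq, ?_⟩
  have hle : ((B.toFinset.erase χ).card : ℤ) + c χ ^ 2 ≤ ∑ ψ, c ψ ^ 2 := by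
    refine le_trans ?_ (Finset.sum_le_sum_of_subset_of_nonneg (Finset.subset_univ B.toFinset)
      fun ψ _ _ => sq_nonneg (c ψ))
    rw [← Finset.sum_erase_add _ _ (Set.mem_toFinset.2 hχ)]
    refine add_le_add ?_ le_rfl
    rw [Finset.card_eq_sum_ones, Nat.cast_sum]
    refine Finset.sum_le_sum fun ψ hψ => ?_
    have := hne ψ (Set.mem_toFinset.1 (Finset.mem_of_mem_erase hψ))
    have := Int.add_one_le_iff.2 (sq_pos_iff.2 this)
    push_cast
    omega
  have hcard : Nat.card B = (B.toFinset.erase χ).card + 1 := by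
    rw [Finset.card_erase_add_one (Set.mem_toFinset.2 hχ), Set.toFinset_card,
      Nat.card_eq_fintype_card]
  rw [hcard]
  push_cast
  linarith

theorem regInner_self_eq (p : ℕ) (χ : IrrCharacter G) :
    regInner p (χ : G → ℂ) χ = (Nat.card G : ℂ)⁻¹ *
      ∑ g : G, if p ∣ orderOf g then 0 else (χ : G → ℂ) g * conj ((χ : G → ℂ) g) := rfl

/-- A nonempty set of irreducible characters has positive p-regular rank. -/
theorem one_le_blockRank [hp : Fact p.Prime] {A : Set (IrrCharacter G)} (hA : A.Nonempty) :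
    1 ≤ Cfsg.blockRank p A := by
  obtain ⟨ξ, hξ⟩ := hA
  rw [Cfsg.blockRank, Nat.one_le_iff_ne_zero, Ne, Submodule.finrank_eq_zero]
  intro h
  have hm : Cfsg.pRegularPart p (ξ : G → ℂ) ∈ Submodule.span ℂ
      ((fun χ : IrrCharacter G => Cfsg.pRegularPart p (χ : G → ℂ)) '' A) :=
    Submodule.subset_span ⟨ξ, hξ, rfl⟩
  rw [h, Submodule.mem_bot] at hm
  have h1 := congrFun hm 1
  rw [pRegularPart_apply, orderOf_one, if_neg hp.out.not_dvd_one] at h1
  exact Characters.irr_one_ne_zero ξ.2 h1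

open Classical in
/-- A 2-block of defect one has two members, agreeing on the elements of odd order. -/
theorem two_block_of_defect_one (hM : Cfsg.IsPModular 2 M) {B : Set (IrrCharacter G)}
    (hB : Cfsg.IsPBlock M B) (hd : Cfsg.blockDefect 2 B = 1) :
    Nat.card B = 2 ∧
      ∀ χ ∈ B, ∀ ψ ∈ B, ∀ g : G, ¬ 2 ∣ orderOf g → (χ : G → ℂ) g = (ψ : G → ℂ) g := by
  haveI : Fact (Nat.Prime 2) := ⟨Nat.prime_two⟩
  obtain ⟨χ, hχ, hmin, hdef⟩ := exists_minimal (p := 2) hB
  obtain ⟨c, hc, hne, hsq, hle⟩ := exists_row hM hB hχ hmin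
  rw [hd] at hc hsq hle hdef
  simp only [pow_one, Nat.cast_ofNat] at hc hsq hle
  have hk : 2 ≤ Nat.card B := by
    by_contra hlt
    have h1 : B = {χ} := by
      refine Set.eq_singleton_iff_unique_mem.2 ⟨hχ, fun ψ hψ => ?_⟩
      by_contra hne'
      have : 1 < Nat.card B := Finite.one_lt_card_iff_nontrivial.2
        ⟨⟨⟨ψ, hψ⟩, ⟨χ, hχ⟩, fun h => hne' (congrArg Subtype.val h)⟩⟩
      omega
    have h0 := (defect_zero_iff hM χ).2 (by rw [← eq_blockOf_of_mem hB hχ, h1])
    refine h0 ((Nat.prime_two.dvd_iff_one_le_factorization ?_).2 ?_)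
    · exact (Nat.div_pos (Nat.le_of_dvd Nat.card_pos (charDegree_dvd_card χ))
        (Nat.pos_of_ne_zero (charDegree_ne_zero χ))).ne'
    · rw [Nat.factorization_div (charDegree_dvd_card χ), Finsupp.tsub_apply]
      omega
  have hx : c χ = 1 ∧ Nat.card B = 2 := by
    have hkz : (2 : ℤ) ≤ Nat.card B := by exact_mod_cast hk
    have hlo : 0 < c χ := by nlinarith [sq_nonneg (c χ)]
    have hhi : c χ < 2 := by nlinarith [sq_nonneg (c χ)]
    have h1 : c χ = 1 := by omega
    rw [h1] at hle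
    exact ⟨h1, by omega⟩
  refine ⟨hx.2, ?_⟩
  obtain ⟨ψ, hψ, hψχ⟩ : ∃ ψ ∈ B, ψ ≠ χ := by
    by_contra hcon
    push Not at hcon
    have : Nat.card B ≤ 1 := by
      rw [show B = {χ} from Set.eq_singleton_iff_unique_mem.2 ⟨hχ, hcon⟩]; simp
    omega
  have hB2 : ∀ φ ∈ B, φ = χ ∨ φ = ψ := by
    intro φ hφ
    by_contra hcon
    push Not at hcon
    have h3 : ({χ, ψ, φ} : Finset (IrrCharacter G)).card = 3 := by
      rw [Finset.card_insert_of_notMem, Finset.card_insert_of_notMem, Finset.card_singleton]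
      · simpa using Ne.symm hcon.2
      · simp [Ne.symm hψχ, Ne.symm hcon.1]
    have h4 : ({χ, ψ, φ} : Finset (IrrCharacter G)) ⊆ B.toFinset := by
      intro a ha
      simp only [Finset.mem_insert, Finset.mem_singleton] at ha
      rcases ha with rfl | rfl | rfl <;> simpa
    have := Finset.card_le_card h4
    rw [Set.toFinset_card, ← Nat.card_eq_fintype_card] at this
    omega
  have hpair : ∀ φ, φ ≠ χ → φ ≠ ψ → c φ = 0 := by
    intro φ h1 h2
    have hle' := Finset.sum_le_sum_of_subset_of_nonneg (f := fun φ => c φ ^ 2)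
      (Finset.subset_univ ({χ, ψ, φ} : Finset (IrrCharacter G))) fun _ _ _ => sq_nonneg _
    rw [hsq, hx.1, Finset.sum_insert (by simp [Ne.symm hψχ, Ne.symm h1]),
      Finset.sum_insert (by simpa using Ne.symm h2), Finset.sum_singleton, hx.1] at hle'
    have h3 : (1 : ℤ) ≤ c ψ ^ 2 := by
      have := sq_pos_iff.2 (hne ψ hψ); omega
    by_contra h0
    have h4 : (1 : ℤ) ≤ c φ ^ 2 := by
      have := sq_pos_iff.2 h0; omega
    omega
  have hψ1 : c ψ = 1 ∨ c ψ = -1 := by
    have hle' := Finset.sum_le_sum_of_subset_of_nonneg (f := fun φ => c φ ^ 2)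
      (Finset.subset_univ ({χ, ψ} : Finset (IrrCharacter G))) fun _ _ _ => sq_nonneg _
    rw [hsq, Finset.sum_pair (Ne.symm hψχ), hx.1] at hle'
    have h3 := hne ψ hψ
    have : c ψ ^ 2 ≤ 1 := by linarith
    have h5 : -1 ≤ c ψ ∧ c ψ ≤ 1 := by constructor <;> nlinarith
    omega
  have hreg : ∀ g : G, ¬ 2 ∣ orderOf g →
      (χ : G → ℂ) g = (c ψ : ℂ) * (ψ : G → ℂ) g := by
    intro g hg
    have h := congrFun (Characters.classFunction_expansion
      (isClassFunction_pRegularPart 2 (Characters.isClassFunction_of_isIrr χ.2))) g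
    rw [pRegularPart_apply, if_neg hg, Finset.sum_apply] at h
    simp only [Pi.smul_apply, smul_eq_mul, classInner_pRegularPart] at h
    have h2 : (2 : ℂ) * (χ : G → ℂ) g = ∑ φ, (c φ : ℂ) * (φ : G → ℂ) g := by
      conv_lhs => rw [h]
      rw [Finset.mul_sum]
      refine Finset.sum_congr rfl fun φ _ => ?_
      rw [← hc φ]; push_cast; ring
    rw [← Finset.sum_subset (Finset.subset_univ ({χ, ψ} : Finset (IrrCharacter G)))
      (fun φ _ hφ => by
        simp only [Finset.mem_insert, Finset.mem_singleton, not_or] at hφ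
        rw [hpair φ hφ.1 hφ.2, Int.cast_zero, zero_mul]),
      Finset.sum_pair (Ne.symm hψχ), hx.1, Int.cast_one] at h2
    linear_combination h2
  have hone := hreg 1 (by rw [orderOf_one]; decide)
  rw [← charDegree_cast, ← charDegree_cast] at hone
  have hs : c ψ = 1 := by
    rcases hψ1 with h | h
    · exact h
    · rw [h] at hone
      push_cast at hone
      exfalso
      have : ((Cfsg.charDegree (χ : G → ℂ) + Cfsg.charDegree (ψ : G → ℂ) : ℕ) : ℂ) = 0 := by
        push_cast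
        linear_combination hone
      have := Nat.cast_eq_zero.1 this
      exact charDegree_ne_zero χ (by omega)
  intro a ha b hb g hg
  have hkey : (χ : G → ℂ) g = (ψ : G → ℂ) g := by rw [hreg g hg, hs, Int.cast_one, one_mul]
  rcases hB2 a ha with rfl | rfl <;> rcases hB2 b hb with rfl | rfl
  · rfl
  · exact hkey
  · exact hkey.symm
  · rfl

open Classical in
/-- Representatives of the classes of p-elements containing prescribed non-conjugate `1` and `x`. -/
theorem exists_reps [hp : Fact p.Prime] {x : G} (hx : ∃ k, orderOf x = p ^ k) (hx1 : x ≠ 1) :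
    ∃ X : Finset G, (∀ y ∈ X, ∃ k : ℕ, orderOf y = p ^ k) ∧
      (∀ g : G, (∃ k : ℕ, orderOf g = p ^ k) → ∃! y, y ∈ X ∧ IsConj g y) ∧ x ∈ X ∧ (1 : G) ∈ X := by
  haveI := Fintype.ofFinite (ConjClasses G)
  let rep : ConjClasses G → G := fun C =>
    if C = ConjClasses.mk x then x else if C = ConjClasses.mk 1 then 1 else Quotient.out C
  have hrep : ∀ C, ConjClasses.mk (rep C) = C := by
    intro C
    simp only [rep]
    split_ifs with h1 h2
    · exact h1.symm
    · exact h2.symm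
    · exact Quotient.out_eq C
  have hord : ∀ y : G, orderOf (rep (ConjClasses.mk y)) = orderOf y := fun y => by
    obtain ⟨c, hc⟩ := isConj_iff.1 (ConjClasses.mk_eq_mk_iff_isConj.1 (hrep (ConjClasses.mk y)))
    refine Eq.trans ?_ (congrArg orderOf hc)
    rw [show c * rep (ConjClasses.mk y) * c⁻¹ = MulAut.conj c (rep (ConjClasses.mk y)) from rfl,
      MulEquiv.orderOf_eq]
  refine ⟨(Finset.univ.filter fun g : G => ∃ k, orderOf g = p ^ k).image
    (fun g => rep (ConjClasses.mk g)), ?_, ?_, ?_, ?_⟩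
  · intro y hy
    obtain ⟨g, hg, rfl⟩ := Finset.mem_image.1 hy
    rw [hord]
    exact (Finset.mem_filter.1 hg).2
  · intro g hg
    refine ⟨rep (ConjClasses.mk g), ⟨Finset.mem_image.2 ⟨g, Finset.mem_filter.2
      ⟨Finset.mem_univ _, hg⟩, rfl⟩, ConjClasses.mk_eq_mk_iff_isConj.1 (hrep _).symm⟩, ?_⟩
    rintro y ⟨hy, hgy⟩
    obtain ⟨g', -, rfl⟩ := Finset.mem_image.1 hy
    rw [ConjClasses.mk_eq_mk_iff_isConj.2 hgy, hrep]
  · refine Finset.mem_image.2 ⟨x, Finset.mem_filter.2 ⟨Finset.mem_univ _, hx⟩, ?_⟩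
    simp [rep]
  · refine Finset.mem_image.2 ⟨1, Finset.mem_filter.2 ⟨Finset.mem_univ _, ⟨0, by simp⟩⟩, ?_⟩
    dsimp only [rep]
    rw [if_neg, if_pos rfl]
    intro h
    exact hx1 (isConj_one_right.1 (ConjClasses.mk_eq_mk_iff_isConj.1 h))

end CfsgLib.BlockPairing
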