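import Cfsg.Agent.Blocks.Height
import Cfsg.Agent.Characters.BrauerInduction
import Cfsg.Agent.CharactersDeep.Gallagher
import Cfsg.Agent.NilpotentCover.Basic

/-!
# The inner product on p-regular elements

`p ^ a` times the indicator of the p-regular elements is a generalized character; hence the
matrix `p ^ d * [χ, ψ]°` of a block of defect `d` is integral, and its row at a character of
height zero has no zero entry in the block.
-/

set_option autoImplicit false
set_option linter.unusedSectionVars false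
set_option linter.style.haveILetI false

namespace CfsgLib.BlockPairing

open CfsgLib.Blocks CfsgLib.OddOrderChar Cfsg
open scoped ComplexConjugate

universe u

variable {G : Type u} [Group G] [Fintype G]

/-- The p-regular elements of an elementary group form a normal subgroup of p-power index. -/
theorem exists_regular_subgroup {E : Type u} [Group E] [Finite E] {p q : ℕ} [hp : Fact p.Prime]
    (hq : q.Prime) (hE : Cfsg.IsElementary q E) :
    ∃ H : Subgroup E, H.Normal ∧ (∀ e, e ∈ H ↔ ¬ p ∣ orderOf e) ∧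
      ∃ c : ℕ, H.index = p ^ c := by
  obtain ⟨x, hxc, -, k, hk⟩ := hE
  haveI : Fact q.Prime := ⟨hq⟩
  haveI hnil : Group.IsNilpotent E := by
    apply Group.of_quotient_center_nilpotent
    have hp' : IsPGroup q (E ⧸ Subgroup.center E) := by
      obtain ⟨j, -, hj⟩ := (Nat.dvd_prime_pow hq).1
        (hk ▸ Subgroup.index_dvd_of_le (Subgroup.zpowers_le.2 hxc))
      exact IsPGroup.of_card (n := j) (by rw [← Subgroup.index_eq_card, hj])
    exact hp'.isNilpotent
  obtain ⟨P⟩ : Nonempty (Sylow p E) := inferInstance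
  haveI : (P : Subgroup E).Normal := Group.isNilpotent_of_finite_tfae.out 0 3 rfl rfl |>.mp hnil p hp P
  obtain ⟨H, hH⟩ := Subgroup.exists_right_complement'_of_coprime P.card_coprime_index
  have hHc : Nat.card H = (P : Subgroup E).index := hH.symm.index_eq_card.symm
  have hHp : ∀ e ∈ H, ¬ p ∣ orderOf e := fun e he hd =>
    P.not_dvd_index (hHc ▸ hd.trans (Subgroup.orderOf_dvd_natCard _ he))
  have hmem : ∀ e, e ∈ H ↔ ¬ p ∣ orderOf e := by
    refine fun e => ⟨hHp e, fun he => ?_⟩
    obtain ⟨⟨a, b⟩, hab⟩ := hH.surjective e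
    obtain ⟨j, hj⟩ := IsPGroup.iff_orderOf.1 P.isPGroup' a
    rw [← Subgroup.orderOf_coe] at hj
    have hcop : (orderOf (a : E)).Coprime (orderOf (b : E)) := by
      rw [hj]; exact Nat.Coprime.pow_left _ (hp.out.coprime_iff_not_dvd.2 (hHp b b.2))
    have hcomm := NilpotentCover.commute_of_coprime (a : E) (b : E) hcop
    rcases Nat.eq_zero_or_pos j with rfl | hj0
    · rw [pow_zero, orderOf_eq_one_iff] at hj
      rw [← hab]; show (a : E) * b ∈ H; rw [hj, one_mul]; exact b.2
    · refine absurd ?_ he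
      rw [← hab]; show p ∣ orderOf ((a : E) * b)
      rw [hcomm.orderOf_mul_eq_mul_orderOf_of_coprime hcop, hj]
      exact (dvd_pow_self p hj0.ne').mul_right _
  refine ⟨H, ⟨fun n hn g => ?_⟩, hmem, ?_⟩
  · rw [hmem] at hn ⊢
    rwa [show g * n * g⁻¹ = MulAut.conj g n from rfl, MulEquiv.orderOf_eq]
  · exact ⟨_, hH.index_eq_card.trans P.card_eq_multiplicity⟩

/-- `p ^ a` times the indicator of the p-regular elements. -/
noncomputable def regOne (p : ℕ) : G → ℂ :=
  fun g => if p ∣ orderOf g then 0 else ((p ^ (Nat.card G).factorization p : ℕ) : ℂ)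

theorem regOne_isClassFunction (p : ℕ) : Cfsg.IsClassFunction G (regOne p) := fun g h => by
  simp only [regOne]
  rw [show h * g * h⁻¹ = MulAut.conj h g from rfl, MulEquiv.orderOf_eq]

theorem isGen_regOne (p : ℕ) [hp : Fact p.Prime] :
    Cfsg.IsGeneralizedCharacter G (regOne (G := G) p) := by
  classical
  refine Characters.isGen_of_elementary (regOne_isClassFunction p) fun E q hq hE => ?_
  obtain ⟨H, hHn, hmem, c, hc⟩ := exists_regular_subgroup (p := p) hq hE
  haveI := Fintype.ofFinite E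
  haveI := Fintype.ofFinite H
  have hca : c ≤ (Nat.card G).factorization p := by
    refine (hp.out.pow_dvd_iff_le_factorization Nat.card_pos.ne').1 (hc ▸ ?_)
    exact (Subgroup.index_dvd_card H).trans (Subgroup.card_subgroup_dvd_card E)
  have hfun : (fun e : E => regOne p (e : G)) =
      ((p ^ ((Nat.card G).factorization p - c) : ℤ) : ℂ) • Cfsg.indFun H (fun _ => 1) := by
    funext e
    rw [Pi.smul_apply, smul_eq_mul, regOne, Subgroup.orderOf_coe]
    by_cases he : p ∣ orderOf e
    · rw [if_pos he, indFun_normal_eq_zero H _ fun h => (hmem e).1 h he, mul_zero]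
    · rw [if_neg he]
      have h := indFun_normal_apply H (fun _ => (1 : ℂ)) ⟨e, (hmem e).2 he⟩
      simp only [conjBy, Finset.sum_const, Finset.card_univ, ← Nat.card_eq_fintype_card,
        nsmul_eq_mul, mul_one] at h
      rw [h, ← Subgroup.index_mul_card H, hc]
      push_cast
      rw [mul_comm ((p : ℂ) ^ c) _, inv_mul_cancel_left₀ (Nat.cast_ne_zero.2 Nat.card_pos.ne'),
        ← pow_add, Nat.sub_add_cancel hca]
  rw [hfun]
  exact Characters.isGen_zsmul (Characters.isGen_indFun H Characters.isGen_one) _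

/-- The inner product over the p-regular elements. -/
noncomputable def regInner (p : ℕ) (φ ψ : G → ℂ) : ℂ :=
  (Nat.card G : ℂ)⁻¹ * ∑ g : G, if p ∣ orderOf g then 0 else φ g * conj (ψ g)

theorem pow_mul_regInner (p : ℕ) (φ ψ : G → ℂ) :
    ((p ^ (Nat.card G).factorization p : ℕ) : ℂ) * regInner p φ ψ =
      Cfsg.classInner (regOne p * φ) ψ := by
  simp only [regInner, Cfsg.classInner, Finset.mul_sum, Pi.mul_apply, regOne]
  refine Finset.sum_congr rfl fun g _ => ?_
  split_ifs <;> ring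

theorem exists_int_regInner (p : ℕ) [Fact p.Prime] (χ ψ : IrrCharacter G) :
    ∃ z : ℤ, ((p ^ (Nat.card G).factorization p : ℕ) : ℂ) * regInner p (χ : G → ℂ) ψ = z := by
  rw [pow_mul_regInner]
  exact Characters.classInner_gen (Characters.isGen_mul (isGen_regOne p)
    (Characters.isGen_of_isIrr χ.2)) (Characters.isGen_of_isIrr ψ.2)

theorem regInner_symm (p : ℕ) [hp : Fact p.Prime] (χ ψ : IrrCharacter G) :
    regInner p (χ : G → ℂ) ψ = regInner p (ψ : G → ℂ) χ := by
  obtain ⟨z, hz⟩ := exists_int_regInner p ψ χ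
  have hne : ((p ^ (Nat.card G).factorization p : ℕ) : ℂ) ≠ 0 :=
    Nat.cast_ne_zero.2 (pow_ne_zero _ hp.out.ne_zero)
  have h : regInner p (χ : G → ℂ) ψ = conj (regInner p (ψ : G → ℂ) χ) := by
    simp only [regInner, map_mul, map_inv₀, map_natCast, map_sum]
    congr 1
    refine Finset.sum_congr rfl fun g _ => ?_
    split_ifs <;> simp [mul_comm]
  rw [h, eq_div_of_mul_eq hne ((mul_comm _ _).trans hz), map_div₀, map_intCast, map_natCast]

variable {M : Ideal AlgInt} [M.IsPrime] {p : ℕ}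

/-- The integral form `|G| / χ 1 * [χ, ψ]°`. -/
noncomputable def regSum (p : ℕ) (χ ψ : G → ℂ) : ℂ :=
  ∑ g : G, if p ∣ orderOf g then 0 else χ g / χ 1 * conj (ψ g)

theorem regSum_eq (p : ℕ) (χ : IrrCharacter G) (ψ : G → ℂ) :
    regSum p (χ : G → ℂ) ψ = (Nat.card G : ℂ) / (χ : G → ℂ) 1 * regInner p (χ : G → ℂ) ψ := by
  have h1 : (Nat.card G : ℂ) ≠ 0 := Nat.cast_ne_zero.2 Nat.card_pos.ne'
  rw [regInner, div_mul_eq_mul_div, ← mul_assoc, mul_inv_cancel₀ h1, one_mul, regSum,
    Finset.sum_div]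
  refine Finset.sum_congr rfl fun g _ => ?_
  split_ifs <;> ring

open Classical in
theorem regSum_eq_classes (p : ℕ) (χ ψ : IrrCharacter G) [Fintype (ConjClasses G)] :
    regSum p (χ : G → ℂ) ψ = ∑ C : ConjClasses G, if p ∣ orderOf (Quotient.out C) then 0 else
      Cfsg.centralChar (χ : G → ℂ) (Quotient.out C) * conj ((ψ : G → ℂ) (Quotient.out C)) := by
  rw [regSum, ← Finset.sum_fiberwise Finset.univ ConjClasses.mk]
  refine Finset.sum_congr rfl fun C _ => ?_
  have hC : ConjClasses.mk (Quotient.out C) = C := Quotient.out_eq C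
  rw [Finset.sum_congr rfl (g := fun _ => if p ∣ orderOf (Quotient.out C) then 0 else
    (χ : G → ℂ) (Quotient.out C) / (χ : G → ℂ) 1 * conj ((ψ : G → ℂ) (Quotient.out C)))]
  · rw [Finset.sum_const, nsmul_eq_mul, ← Fintype.card_subtype, ← Nat.card_eq_fintype_card]
    conv_lhs => arg 1; rw [← hC, natCard_class]
    split_ifs
    · exact mul_zero _
    · rw [Cfsg.centralChar]; ring
  · intro g hg
    have hcj : IsConj (Quotient.out C) g :=
      ConjClasses.mk_eq_mk_iff_isConj.1 (hC.trans (Finset.mem_filter.1 hg).2.symm)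
    obtain ⟨c, hc⟩ := isConj_iff.1 hcj
    rw [← hc, Characters.isClassFunction_of_isIrr χ.2, Characters.isClassFunction_of_isIrr ψ.2,
      show c * Quotient.out C * c⁻¹ = MulAut.conj c (Quotient.out C) from rfl, MulEquiv.orderOf_eq]

theorem isIntegral_regSum (p : ℕ) (χ ψ : IrrCharacter G) :
    IsIntegral ℤ (regSum p (χ : G → ℂ) ψ) := by
  classical
  haveI := Fintype.ofFinite (ConjClasses G)
  rw [regSum_eq_classes]
  refine IsIntegral.sum _ fun C _ => ?_
  split_ifs
  · exact isIntegral_zero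
  · refine (isIntegral_centralChar χ _).mul ?_
    rw [← Characters.character_inv (Characters.isCharacter_of_isIrr ψ.2)]
    exact Characters.character_isIntegral (Characters.isCharacter_of_isIrr ψ.2) _

theorem memLocalIdeal_regSum_sub (p : ℕ) {χ φ : IrrCharacter G}
    (h : Cfsg.SameBlock M (χ : G → ℂ) (φ : G → ℂ)) (ψ : IrrCharacter G) :
    Cfsg.MemLocalIdeal M (regSum p (χ : G → ℂ) ψ - regSum p (φ : G → ℂ) ψ) := by
  classical
  haveI := Fintype.ofFinite (ConjClasses G)
  rw [regSum_eq_classes, regSum_eq_classes, ← Finset.sum_sub_distrib]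
  refine memLocalIdeal_sum _ fun C _ => ?_
  split_ifs
  · rw [sub_zero]; exact memLocalIdeal_zero
  · rw [← sub_mul, ← Characters.character_inv (Characters.isCharacter_of_isIrr ψ.2)]
    exact memLocalIdeal_mul_right (h _) (memLocalRing_char ψ _)

open Classical in
/-- Some entry of a row is a unit. -/
theorem exists_regSum_not_mem [Fact p.Prime] (hM : Cfsg.IsPModular p M) {B : Set (IrrCharacter G)}
    (hB : Cfsg.IsPBlock M B) {χ : IrrCharacter G} (hχ : χ ∈ B) :
    ∃ φ ∈ B, ¬ Cfsg.MemLocalIdeal M (regSum p (χ : G → ℂ) φ) := by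
  obtain ⟨b, hb, hb'⟩ := exists_union_comb hM (isBlockUnion_of_isPBlock hB)
  have h1 : ∑ g : G, Cfsg.blockCoeff B g * ((χ : G → ℂ) g / (χ : G → ℂ) 1) = 1 := by
    have h := omega_setIdemC B χ
    rw [omega_apply, if_pos hχ] at h
    rw [← h, Finset.sum_div]
    exact Finset.sum_congr rfl fun g _ => by simp [setIdemC, mul_div_assoc]
  have h2 : ∑ φ : IrrCharacter G, (if φ ∈ B then b φ * regSum p (χ : G → ℂ) φ else 0) = 1 := by
    rw [← h1]
    have hstep : ∀ φ : IrrCharacter G, (if φ ∈ B then b φ * regSum p (χ : G → ℂ) φ else 0) =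
        ∑ g : G, if p ∣ orderOf g then 0 else
          (if φ ∈ B then b φ * (φ : G → ℂ) g⁻¹ else 0) * ((χ : G → ℂ) g / (χ : G → ℂ) 1) := by
      intro φ
      by_cases hφ : φ ∈ B
      · simp only [if_pos hφ, regSum, Finset.mul_sum]
        refine Finset.sum_congr rfl fun g _ => ?_
        rw [Characters.character_inv (Characters.isCharacter_of_isIrr φ.2)]
        split_ifs <;> ring
      · simp [hφ]
    simp only [hstep]
    rw [Finset.sum_comm]
    refine Finset.sum_congr rfl fun g _ => ?_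
    by_cases hg : p ∣ orderOf g
    · simp [hg, blockCoeff_eq_zero_of_singular hM (isBlockUnion_of_isPBlock hB) hg]
    · have := hb' g⁻¹ (by rwa [orderOf_inv])
      rw [inv_inv] at this
      simp only [hg, if_false, ← Finset.sum_mul, this]
  by_contra hcon
  refine not_memLocalIdeal_one (M := M) (h2 ▸ memLocalIdeal_sum _ fun φ _ => ?_)
  split_ifs with h
  · refine memLocalIdeal_mul_left (hb φ) ?_
    by_contra hn; exact hcon ⟨φ, h, hn⟩
  · exact memLocalIdeal_zero

/-- The column at a character of height zero consists of units. -/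
theorem regSum_not_mem_of_minimal [Fact p.Prime] (hM : Cfsg.IsPModular p M)
    {B : Set (IrrCharacter G)} (hB : Cfsg.IsPBlock M B) {χ : IrrCharacter G} (hχ : χ ∈ B)
    (hmin : ∀ φ ∈ B, (Cfsg.charDegree (χ : G → ℂ)).factorization p ≤
      (Cfsg.charDegree (φ : G → ℂ)).factorization p)
    {ψ : IrrCharacter G} (hψ : ψ ∈ B) :
    ¬ Cfsg.MemLocalIdeal M (regSum p (ψ : G → ℂ) χ) := by
  obtain ⟨φ, hφ, hne⟩ := exists_regSum_not_mem hM hB hχ
  intro hI
  have hsame : Cfsg.SameBlock M (φ : G → ℂ) (ψ : G → ℂ) :=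
    mem_blockOf.1 (eq_blockOf_of_mem hB hφ ▸ hψ)
  have h2 : Cfsg.MemLocalIdeal M (regSum p (φ : G → ℂ) χ) := by
    have := memLocalIdeal_add (memLocalIdeal_regSum_sub p hsame χ) hI
    rwa [sub_add_cancel] at this
  refine hne ?_
  have hq : Cfsg.MemLocalRing M ((φ : G → ℂ) 1 / (χ : G → ℂ) 1) := by
    rw [← charDegree_cast, ← charDegree_cast]
    exact memLocalRing_div_of_eq hM (charDegree_ne_zero χ) (hmin φ hφ)
  have := memLocalIdeal_mul_left hq h2
  convert this using 1
  rw [regSum_eq, regSum_eq, regInner_symm p φ χ]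
  have h3 := Characters.irr_one_ne_zero φ.2
  have h4 := Characters.irr_one_ne_zero χ.2
  field_simp

theorem exists_minimal {B : Set (IrrCharacter G)} (hB : Cfsg.IsPBlock M B) :
    ∃ χ ∈ B, (∀ φ ∈ B, (Cfsg.charDegree (χ : G → ℂ)).factorization p ≤
        (Cfsg.charDegree (φ : G → ℂ)).factorization p) ∧
      Cfsg.blockDefect p B =
        (Nat.card G).factorization p - (Cfsg.charDegree (χ : G → ℂ)).factorization p := by
  obtain ⟨χ, hχ, he⟩ := Nat.sInf_mem ((isPBlock_nonempty hB).image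
    (fun χ : IrrCharacter G => (Cfsg.charDegree (χ : G → ℂ)).factorization p))
  refine ⟨χ, hχ, fun φ hφ => ?_, ?_⟩
  · exact he.trans_le (Nat.sInf_le ⟨φ, hφ, rfl⟩)
  · rw [Cfsg.blockDefect, ← he]

theorem factorization_sub_le_blockDefect {B : Set (IrrCharacter G)} {χ : IrrCharacter G}
    (hχ : χ ∈ B) : (Nat.card G).factorization p - (Cfsg.charDegree (χ : G → ℂ)).factorization p ≤
      Cfsg.blockDefect p B := by
  have : sInf ((fun χ : IrrCharacter G => (Cfsg.charDegree (χ : G → ℂ)).factorization p) '' B) ≤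
      (Cfsg.charDegree (χ : G → ℂ)).factorization p := Nat.sInf_le ⟨χ, hχ, rfl⟩
  rw [Cfsg.blockDefect]
  omega

/-- For a member of a block of defect `d`, `p ^ d * [χ, ψ]°` is an integer. -/
theorem exists_int_pow_defect [hp : Fact p.Prime] {B : Set (IrrCharacter G)} {χ : IrrCharacter G}
    (hχ : χ ∈ B) (ψ : IrrCharacter G) :
    ∃ z : ℤ, ((p ^ Cfsg.blockDefect p B : ℕ) : ℂ) * regInner p (χ : G → ℂ) ψ = z := by
  obtain ⟨z, hz⟩ := exists_int_regInner p χ ψ
  set a := (Nat.card G).factorization p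
  set N := Nat.card G / Cfsg.charDegree (χ : G → ℂ)
  have hd := charDegree_dvd_card χ
  have hN : (N : ℂ) * regInner p (χ : G → ℂ) ψ = regSum p (χ : G → ℂ) ψ := by
    rw [regSum_eq, Nat.cast_div hd (Nat.cast_ne_zero.2 (charDegree_ne_zero χ)), charDegree_cast]
  obtain ⟨n, hn⟩ : ∃ n : ℤ, (N : ℂ) * regInner p (χ : G → ℂ) ψ = n := by
    have hne : ((p ^ a : ℕ) : ℂ) ≠ 0 := Nat.cast_ne_zero.2 (pow_ne_zero _ hp.out.ne_zero)
    have hq : ((N * z / (p ^ a : ℕ) : ℚ) : ℂ) = (N : ℂ) * regInner p (χ : G → ℂ) ψ := by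
      rw [Rat.cast_div, Rat.cast_mul, Rat.cast_natCast, Rat.cast_intCast, Rat.cast_natCast,
        ← hz, div_eq_iff hne]
      ring
    have hint : IsIntegral ℤ ((N * z / (p ^ a : ℕ) : ℚ) : ℂ) := by
      rw [hq, hN]; exact isIntegral_regSum p χ ψ
    obtain ⟨n, hn⟩ := IsIntegrallyClosed.isIntegral_iff.1
      ((isIntegral_algHom_iff (Algebra.ofId ℚ ℂ |>.restrictScalars ℤ)
        (RingHom.injective _)).1 hint)
    refine ⟨n, ?_⟩
    rw [← hq, ← hn]
    simp
  obtain ⟨j, hja, hj⟩ := (Nat.dvd_prime_pow hp.out).1 (Nat.gcd_dvd_left (p ^ a) N)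
  have hjd : j ≤ Cfsg.blockDefect p B := by
    have hN0 : N ≠ 0 := (Nat.div_pos (Nat.le_of_dvd Nat.card_pos hd)
      (Nat.pos_of_ne_zero (charDegree_ne_zero χ))).ne'
    have h := (hp.out.pow_dvd_iff_le_factorization hN0).1 (hj ▸ Nat.gcd_dvd_right (p ^ a) N)
    rw [Nat.factorization_div hd, Finsupp.tsub_apply] at h
    exact h.trans (factorization_sub_le_blockDefect hχ)
  have hb := Nat.gcd_eq_gcd_ab (p ^ a) N
  rw [hj] at hb
  refine ⟨(p : ℤ) ^ (Cfsg.blockDefect p B - j) *
    ((Nat.gcdA (p ^ a) N) * z + (Nat.gcdB (p ^ a) N) * n), ?_⟩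
  have hb' := congrArg (fun t : ℤ => (t : ℂ)) hb
  simp only [Nat.cast_pow, Int.cast_add, Int.cast_mul, Int.cast_pow, Int.cast_natCast] at hb'
  push_cast at hz hn ⊢
  rw [← hz, ← hn]
  conv_lhs => rw [← Nat.sub_add_cancel hjd, pow_add, hb']
  ring

theorem sum_regInner_sq [Fact p.Prime] (χ : IrrCharacter G) :
    ∑ ψ : IrrCharacter G, regInner p (χ : G → ℂ) ψ * conj (regInner p (χ : G → ℂ) ψ) =
      regInner p (χ : G → ℂ) χ := by
  classical
  set θ : G → ℂ := fun g => if p ∣ orderOf g then 0 else (χ : G → ℂ) g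
  have hθ : ∀ η : G → ℂ, regInner p (χ : G → ℂ) η = Cfsg.classInner θ η := fun η => by
    simp only [regInner, Cfsg.classInner, θ]
    congr 1
    exact Finset.sum_congr rfl fun g _ => by split_ifs <;> simp
  have hc : Cfsg.IsClassFunction G θ := fun g h => by
    simp only [θ]
    rw [Characters.isClassFunction_of_isIrr χ.2,
      show h * g * h⁻¹ = MulAut.conj h g from rfl, MulEquiv.orderOf_eq]
  have hself : Cfsg.classInner θ θ = regInner p (χ : G → ℂ) χ := by
    simp only [regInner, Cfsg.classInner, θ]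
    congr 1
    exact Finset.sum_congr rfl fun g _ => by split_ifs <;> simp
  rw [← hself, Characters.classInner_eq_sum hc]
  exact Finset.sum_congr rfl fun ψ _ => by rw [hθ]

/-- The Brauer–Feit bound. -/
theorem card_block_le [hp : Fact p.Prime] (hM : Cfsg.IsPModular p M) {B : Set (IrrCharacter G)}
    (hB : Cfsg.IsPBlock M B) :
    4 * Nat.card B ≤ p ^ (2 * Cfsg.blockDefect p B) + 4 := by
  classical
  obtain ⟨χ, hχ, hmin, -⟩ := exists_minimal (p := p) hB
  choose c hc using exists_int_pow_defect (p := p) hχ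
  set d := Cfsg.blockDefect p B
  have hne : ∀ ψ ∈ B, c ψ ≠ 0 := by
    intro ψ hψ h0
    have h := hc ψ
    rw [h0, Int.cast_zero, mul_eq_zero] at h
    have h' := h.resolve_left (Nat.cast_ne_zero.2 (pow_ne_zero _ hp.out.ne_zero))
    refine regSum_not_mem_of_minimal hM hB hχ hmin hψ ?_
    rw [regSum_eq, regInner_symm p ψ χ, h', mul_zero]
    exact memLocalIdeal_zero
  have hsq : ∑ ψ, c ψ ^ 2 = (p : ℤ) ^ d * c χ := by
    have h := congrArg (fun t : ℂ => (((p ^ d : ℕ) : ℂ)) ^ 2 * t) (sum_regInner_sq (p := p) χ)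
    simp only [Finset.mul_sum] at h
    apply Int.cast_injective (α := ℂ)
    push_cast at h hc ⊢
    rw [← hc χ, ← mul_assoc, ← sq, ← h]
    refine Finset.sum_congr rfl fun ψ _ => ?_
    have hre := congrArg conj (hc ψ)
    simp only [map_mul, map_pow, map_natCast, map_intCast] at hre
    rw [sq ((c ψ : ℂ))]
    conv_lhs => arg 1; rw [← hc ψ]
    conv_lhs => arg 2; rw [← hre]
    ring
  have hle : ((B.toFinset.erase χ).card : ℤ) + c χ ^ 2 ≤ ∑ ψ, c ψ ^ 2 := by
    refine le_trans ?_ (Finset.sum_le_sum_of_subset_of_nonneg (Finset.subset_univ B.toFinset)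
      fun ψ _ _ => sq_nonneg (c ψ))
    rw [← Finset.sum_erase_add _ _ (Set.mem_toFinset.2 hχ)]
    refine add_le_add ?_ le_rfl
    rw [Finset.card_eq_sum_ones, Nat.cast_sum]
    refine Finset.sum_le_sum fun ψ hψ => ?_
    have := hne ψ (Set.mem_toFinset.1 (Finset.mem_of_mem_erase hψ))
    have := Int.add_one_le_iff.2 (sq_pos_iff.2 this)
    push_cast
    omega
  have hcard : Nat.card B = (B.toFinset.erase χ).card + 1 := by
    rw [Finset.card_erase_add_one (Set.mem_toFinset.2 hχ), Set.toFinset_card,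
      Nat.card_eq_fintype_card]
  have h4 := sq_nonneg (2 * c χ - (p : ℤ) ^ d)
  rw [hcard]
  zify
  rw [show (p : ℤ) ^ (2 * d) = ((p : ℤ) ^ d) ^ 2 by rw [← pow_mul, mul_comm]]
  nlinarith [hle, hsq, h4]

end CfsgLib.BlockPairing
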