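import Mathlib.RingTheory.Polynomial.Cyclotomic.Roots
import Mathlib.NumberTheory.Cyclotomic.Basic
import Mathlib.Analysis.Complex.Basic
import Mathlib.Algebra.Order.BigOperators.Ring.Finset

/-!
# Averages over the p-power cyclotomic field

The Galois average of `ζ ^ k`, for `ζ` of order `p ^ (e + 1)`, is `1`, `-1 / (p - 1)` or `0`; it
turns a Hermitian value of an integral semidefinite form into a sum of values at differences.
-/

set_option autoImplicit false
set_option linter.unusedSectionVars false

namespace CfsgLib.CycloAverage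

open Polynomial

/-- `(p - 1)` times the Galois average of `ζ ^ k`, for `ζ` of order `p ^ (e + 1)`. -/
def tau (p e k : ℕ) : ℤ :=
  if p ^ (e + 1) ∣ k then (p : ℤ) - 1 else if p ^ e ∣ k then -1 else 0

variable {p e : ℕ}

theorem sum_tau_shift (hp : p.Prime) (k : ℕ) :
    ∑ a ∈ Finset.range p, tau p e (k + a * p ^ e) = 0 := by
  by_cases hk : p ^ e ∣ k
  · obtain ⟨m, rfl⟩ := hk
    have hpe : 0 < p ^ e := pow_pos hp.pos e
    have htau : ∀ a, tau p e (p ^ e * m + a * p ^ e) =
        (if p ∣ m + a then (p : ℤ) else 0) - 1 := by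
      intro a
      have e1 : p ^ (e + 1) ∣ p ^ e * (m + a) ↔ p ∣ m + a := by
        rw [pow_succ]; exact Nat.mul_dvd_mul_iff_left hpe
      rw [show p ^ e * m + a * p ^ e = p ^ e * (m + a) by ring]
      simp only [tau, e1]
      split_ifs with h h2
      · ring
      · ring
      · exact absurd (dvd_mul_right _ _) h2
    simp only [htau, Finset.sum_sub_distrib, Finset.sum_const, Finset.card_range]
    have hone : (Finset.range p).filter (fun a => p ∣ m + a) = {(p - m % p) % p} := by
      ext a
      simp only [Finset.mem_filter, Finset.mem_range, Finset.mem_singleton]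
      have hp0 := hp.pos
      have hm := Nat.mod_lt m hp0
      constructor
      · rintro ⟨ha, hd⟩
        have h2 : (m % p + a) % p = 0 := by
          rw [Nat.mod_add_mod]; exact Nat.mod_eq_zero_of_dvd hd
        rcases Nat.lt_or_ge (m % p + a) p with h3 | h3
        · rw [Nat.mod_eq_of_lt h3] at h2
          rw [show m % p = 0 by omega, Nat.sub_zero, Nat.mod_self]; omega
        · rw [Nat.mod_eq_sub_mod h3, Nat.mod_eq_of_lt (by omega)] at h2
          rw [Nat.mod_eq_of_lt (by omega)]; omega
      · rintro rfl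
        refine ⟨Nat.mod_lt _ hp0, Nat.dvd_of_mod_eq_zero ?_⟩
        rw [Nat.add_mod_mod, ← Nat.mod_add_mod, Nat.add_sub_cancel' hm.le, Nat.mod_self]
    rw [← Finset.sum_filter, hone, Finset.sum_singleton]
    simp
  · refine Finset.sum_eq_zero fun a _ => ?_
    have h1 : ¬ p ^ e ∣ k + a * p ^ e := fun h =>
      hk ((Nat.dvd_add_left (dvd_mul_left _ _)).1 h)
    rw [tau, if_neg fun h => h1 (dvd_trans (pow_dvd_pow p (Nat.le_succ e)) h), if_neg h1]

/-- A rational linear relation among the powers of a primitive root passes to the averages. -/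
theorem sum_tau_eq (hp : p.Prime) {ζ : ℂ} (hζ : IsPrimitiveRoot ζ (p ^ (e + 1))) {ι : Type*}
    (s : Finset ι) (a : ι → ℤ) (k : ι → ℕ) (N : ℤ)
    (h : ∑ x ∈ s, (a x : ℂ) * ζ ^ k x = (N : ℂ)) :
    ∑ x ∈ s, a x * tau p e (k x) = ((p : ℤ) - 1) * N := by
  haveI : Fact p.Prime := ⟨hp⟩
  let φ : ℚ[X] →ₗ[ℚ] ℚ := Polynomial.lsum fun n => (tau p e n : ℚ) • (LinearMap.id : ℚ →ₗ[ℚ] ℚ)
  have hφ : ∀ n (c : ℚ), φ (C c * X ^ n) = c * (tau p e n : ℚ) := by
    intro n c
    rw [C_mul_X_pow_eq_monomial]
    show (monomial n c).sum (fun k t => ((tau p e k : ℚ) • (LinearMap.id : ℚ →ₗ[ℚ] ℚ)) t) = _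
    rw [sum_monomial_index c _ (by simp), LinearMap.smul_apply, LinearMap.id_apply, smul_eq_mul,
      mul_comm]
  have hcyc : ∀ R : ℚ[X], φ (cyclotomic (p ^ (e + 1)) ℚ * R) = 0 := by
    intro R
    induction R using Polynomial.induction_on' with
    | add u v hu hv => rw [mul_add, map_add, hu, hv, add_zero]
    | monomial n c =>
      rw [cyclotomic_prime_pow_eq_geom_sum hp, Finset.sum_mul, map_sum]
      have : ∀ i, φ ((X ^ p ^ e) ^ i * monomial n c) = c * (tau p e (n + i * p ^ e) : ℚ) := by
        intro i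
        rw [← C_mul_X_pow_eq_monomial, ← pow_mul, mul_left_comm, ← pow_add, hφ,
          add_comm, mul_comm (p ^ e)]
      simp only [this, ← Finset.mul_sum]
      rw [← Int.cast_sum, sum_tau_shift hp, Int.cast_zero, mul_zero]
  set A : ℚ[X] := (∑ x ∈ s, C (a x : ℚ) * X ^ k x) - C (N : ℚ)
  have hA : aeval ζ A = 0 := by simp [A, h]
  have hdvd : cyclotomic (p ^ (e + 1)) ℚ ∣ A := by
    rw [cyclotomic_eq_minpoly_rat hζ (pow_pos hp.pos _)]
    exact minpoly.dvd ℚ ζ hA
  obtain ⟨R, hR⟩ := hdvd
  have h0 := hcyc R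
  rw [← hR, map_sub, map_sum, show C (N : ℚ) = C (N : ℚ) * X ^ 0 by rw [pow_zero, mul_one], hφ]
    at h0
  simp only [hφ, sub_eq_zero] at h0
  have h1 : tau p e 0 = (p : ℤ) - 1 := by simp [tau]
  rw [h1] at h0
  have h2 : ((∑ x ∈ s, a x * tau p e (k x) : ℤ) : ℚ) = ((((p : ℤ) - 1) * N : ℤ) : ℚ) := by
    push_cast at h0 ⊢
    rw [h0]; ring
  exact_mod_cast h2

variable {ι : Type*} [Fintype ι]

/-- An integral bilinear form. -/
def form (C : ι → ι → ℤ) (u w : ι → ℤ) : ℤ := ∑ x, ∑ y, u x * w y * C x y

theorem form_add_smul (C : ι → ι → ℤ) (hC : ∀ x y, C x y = C y x) (u w : ι → ℤ) (t : ℤ) :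
    form C (fun x => u x + t * w x) (fun x => u x + t * w x) =
      form C u u + 2 * t * form C u w + t ^ 2 * form C w w := by
  have hsymm : form C w u = form C u w := by
    rw [form, Finset.sum_comm]
    exact Finset.sum_congr rfl fun x _ => Finset.sum_congr rfl fun y _ => by rw [hC]; ring
  have : form C (fun x => u x + t * w x) (fun x => u x + t * w x) =
      form C u u + t * form C u w + t * form C w u + t ^ 2 * form C w w := by
    simp only [form, Finset.mul_sum, ← Finset.sum_add_distrib]
    exact Finset.sum_congr rfl fun x _ => Finset.sum_congr rfl fun y _ => by ring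
  rw [this, hsymm]; ring

theorem form_eq_zero_of_self_eq_zero (C : ι → ι → ℤ) (hC : ∀ x y, C x y = C y x)
    (hpos : ∀ w, 0 ≤ form C w w) {u : ι → ℤ} (hu : form C u u = 0) (w : ι → ℤ) :
    form C u w = 0 := by
  by_contra hne
  have h1 := hpos fun x => w x + (-(form C w w + 1) * form C u w) * u x
  rw [form_add_smul C hC, hu] at h1
  have hs : form C w u = form C u w := by
    rw [form, Finset.sum_comm]
    exact Finset.sum_congr rfl fun x _ => Finset.sum_congr rfl fun y _ => by rw [hC]; ring
  rw [hs] at h1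
  have hd : 1 ≤ form C u w ^ 2 := Int.add_one_le_iff.2 (sq_pos_of_ne_zero hne)
  nlinarith [hpos w]

/-- The shifted exponent representing `j - j'`. -/
def shift (p e j j' : ℕ) : ℕ := j + (p ^ (e + 1) - j')

theorem tau_shift_eq {j j' : ℕ} (hj : j < p ^ (e + 1)) (hj' : j' < p ^ (e + 1)) :
    tau p e (shift p e j j') = (p : ℤ) * (if j = j' then 1 else 0) -
      (if j % p ^ e = j' % p ^ e then 1 else 0) := by
  have hmod : ∀ m, m ∣ p ^ (e + 1) → ((m ∣ shift p e j j') ↔ j % m = j' % m) := by
    intro m hm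
    rw [shift, ← ZMod.natCast_eq_zero_iff, ← ZMod.natCast_eq_natCast_iff', Nat.cast_add,
      Nat.cast_sub hj'.le, (ZMod.natCast_eq_zero_iff (p ^ (e + 1)) m).2 hm, zero_sub,
      add_neg_eq_zero]
  have h1 := hmod (p ^ (e + 1)) dvd_rfl
  rw [Nat.mod_eq_of_lt hj, Nat.mod_eq_of_lt hj'] at h1
  have h2 := hmod (p ^ e) (pow_dvd_pow p (Nat.le_succ e))
  simp only [tau, h1, h2]
  split_ifs with a b c
  · ring
  · exact absurd (by rw [a]) b
  · ring
  · ring

open Classical in
/-- The average of the Hermitian value as a sum over differences of the components. -/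
theorem sum_tau_form (hp : p.Prime) (C : ι → ι → ℤ) (n : ι → ℤ) (j : ι → ℕ)
    (hj : ∀ x, j x < p ^ (e + 1)) :
    2 * ∑ x, ∑ y, n x * n y * C x y * tau p e (shift p e (j x) (j y)) =
      ∑ r ∈ Finset.range (p ^ e), ∑ a ∈ Finset.range p, ∑ b ∈ Finset.range p,
        form C (fun x => n x * ((if j x = r + a * p ^ e then 1 else 0) -
            (if j x = r + b * p ^ e then 1 else 0)))
          (fun x => n x * ((if j x = r + a * p ^ e then 1 else 0) -
            (if j x = r + b * p ^ e then 1 else 0))) := by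
  set q := p ^ e with hq
  have hq0 : 0 < q := pow_pos hp.pos e
  let I : ι → ℕ → ℕ → ℤ := fun x r a => if j x = r + a * q then 1 else 0
  have hI : ∀ x y, ∑ r ∈ Finset.range q, ∑ a ∈ Finset.range p, ∑ b ∈ Finset.range p,
      (I x r a - I x r b) * (I y r a - I y r b) = 2 * tau p e (shift p e (j x) (j y)) := by
    intro x y
    have hsum : ∀ x r, r < q → ∑ a ∈ Finset.range p, I x r a = if j x % q = r then 1 else 0 := by
      intro x r hr
      simp only [I]
      split_ifs with h
      · rw [Finset.sum_eq_single (j x / q)]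
        · rw [if_pos (by rw [← h, Nat.mul_comm, Nat.mod_add_div])]
        · intro a _ ha
          rw [if_neg]
          intro e1
          apply ha
          rw [e1, Nat.add_mul_div_right _ _ hq0, Nat.div_eq_of_lt hr, zero_add]
        · intro hh
          exfalso
          apply hh
          rw [Finset.mem_range, Nat.div_lt_iff_lt_mul hq0, hq, ← pow_succ']
          exact hj x
      · refine Finset.sum_eq_zero fun a _ => if_neg fun e1 => h ?_
        rw [e1, Nat.add_mul_mod_self_right, Nat.mod_eq_of_lt hr]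
    have hexp : ∀ r ∈ Finset.range q, ∑ a ∈ Finset.range p, ∑ b ∈ Finset.range p,
        (I x r a - I x r b) * (I y r a - I y r b) =
        2 * ((p : ℤ) * (∑ a ∈ Finset.range p, I x r a * I y r a)) -
          2 * ((if j x % q = r then 1 else 0) * (if j y % q = r then 1 else 0)) := by
      intro r hr
      rw [← hsum x r (Finset.mem_range.1 hr), ← hsum y r (Finset.mem_range.1 hr)]
      simp only [sub_mul, mul_sub, Finset.sum_sub_distrib, Finset.sum_const, Finset.card_range,
        nsmul_eq_mul, ← Finset.mul_sum, ← Finset.sum_mul]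
      ring
    rw [Finset.sum_congr rfl hexp, Finset.sum_sub_distrib, ← Finset.mul_sum, ← Finset.mul_sum,
      ← Finset.mul_sum, tau_shift_eq (hj x) (hj y)]
    have h1 : ∑ r ∈ Finset.range q, ∑ a ∈ Finset.range p, I x r a * I y r a =
        if j x = j y then 1 else 0 := by
      split_ifs with hxy
      · calc ∑ r ∈ Finset.range q, ∑ a ∈ Finset.range p, I x r a * I y r a
            = ∑ r ∈ Finset.range q, ∑ a ∈ Finset.range p, I x r a := by
              refine Finset.sum_congr rfl fun r _ => Finset.sum_congr rfl fun a _ => ?_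
              simp only [I, hxy]; split_ifs <;> simp
          _ = ∑ r ∈ Finset.range q, if j x % q = r then 1 else 0 :=
              Finset.sum_congr rfl fun r hr => hsum x r (Finset.mem_range.1 hr)
          _ = 1 := by
              rw [Finset.sum_ite_eq, if_pos (Finset.mem_range.2 (Nat.mod_lt _ hq0))]
      · refine Finset.sum_eq_zero fun r _ => Finset.sum_eq_zero fun a _ => ?_
        simp only [I]
        split_ifs with u v
        · exact absurd (u.trans v.symm) hxy
        all_goals simp
    have h2 : (∑ r ∈ Finset.range q, (if j x % q = r then (1 : ℤ) else 0) *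
        (if j y % q = r then 1 else 0)) = if j x % q = j y % q then 1 else 0 := by
      simp only [ite_mul, one_mul, zero_mul]
      rw [Finset.sum_ite_eq, if_pos (Finset.mem_range.2 (Nat.mod_lt _ hq0))]
      exact if_congr eq_comm rfl rfl
    rw [h1, h2]; ring
  calc 2 * ∑ x, ∑ y, n x * n y * C x y * tau p e (shift p e (j x) (j y))
      = ∑ x, ∑ y, n x * n y * C x y * ∑ r ∈ Finset.range q, ∑ a ∈ Finset.range p,
          ∑ b ∈ Finset.range p, (I x r a - I x r b) * (I y r a - I y r b) := by
        rw [Finset.mul_sum]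
        refine Finset.sum_congr rfl fun x _ => ?_
        rw [Finset.mul_sum]
        refine Finset.sum_congr rfl fun y _ => ?_
        rw [hI]; ring
    _ = ∑ r ∈ Finset.range q, ∑ a ∈ Finset.range p, ∑ b ∈ Finset.range p, ∑ x, ∑ y,
          n x * n y * C x y * ((I x r a - I x r b) * (I y r a - I y r b)) := by
        simp only [Finset.mul_sum]
        rw [Finset.sum_congr rfl fun x _ => Finset.sum_comm, Finset.sum_comm]
        refine Finset.sum_congr rfl fun r _ => ?_
        rw [Finset.sum_congr rfl fun x _ => Finset.sum_comm, Finset.sum_comm]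
        refine Finset.sum_congr rfl fun a _ => ?_
        rw [Finset.sum_congr rfl fun x _ => Finset.sum_comm, Finset.sum_comm]
    _ = _ := by
        refine Finset.sum_congr rfl fun r _ => Finset.sum_congr rfl fun a _ =>
          Finset.sum_congr rfl fun b _ => ?_
        simp only [form, I]
        exact Finset.sum_congr rfl fun x _ => Finset.sum_congr rfl fun y _ => by ring

open Classical in
/-- A lower bound for the average of a nonzero Hermitian value. -/
theorem le_sum_tau_form (hp : p.Prime) {ζ : ℂ} (hζ : IsPrimitiveRoot ζ (p ^ (e + 1)))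
    (C : ι → ι → ℤ) (hC : ∀ x y, C x y = C y x) (hpos : ∀ w, 0 ≤ form C w w) (m : ℤ)
    (hm : ∀ w, form C w w = 0 ∨ m ≤ form C w w) (n : ι → ℤ) (j : ι → ℕ)
    (hj : ∀ x, j x < p ^ (e + 1))
    (hne : ∃ y, ∑ x, (n x : ℂ) * (C x y : ℂ) * ζ ^ j x ≠ 0) :
    ((p : ℤ) - 1) * m ≤ ∑ x, ∑ y, n x * n y * C x y * tau p e (shift p e (j x) (j y)) := by
  set q := p ^ e with hq
  have hq0 : 0 < q := pow_pos hp.pos e
  let W : ℕ → ℕ → ℕ → ι → ℤ := fun r a b x => n x * ((if j x = r + a * q then 1 else 0) -
    (if j x = r + b * q then 1 else 0))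
  let G : ℕ → ℕ → ℕ → ℤ := fun r a b => form C (W r a b) (W r a b)
  -- some difference has nonzero value
  obtain ⟨r₀, hr₀, a₀, ha₀, b₀, hb₀, h0⟩ : ∃ r ∈ Finset.range q, ∃ a ∈ Finset.range p,
      ∃ b ∈ Finset.range p, G r a b ≠ 0 := by
    by_contra hcon
    push Not at hcon
    obtain ⟨y, hy⟩ := hne
    apply hy
    let δ : ι → ℤ := fun x => if x = y then 1 else 0
    have hcoef : ∀ r ∈ Finset.range q, ∀ a ∈ Finset.range p,
        (∑ x, n x * (if j x = r + a * q then 1 else 0) * C x y) =
        ∑ x, n x * (if j x = r + 0 * q then 1 else 0) * C x y := by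
      intro r hr a ha
      have h := form_eq_zero_of_self_eq_zero C hC hpos
        (hcon r hr a ha 0 (Finset.mem_range.2 hp.pos)) δ
      rw [form] at h
      simp only [δ, mul_ite, mul_one, mul_zero, ite_mul, zero_mul, Finset.sum_ite_eq',
        Finset.mem_univ, if_true] at h
      rw [← sub_eq_zero, ← Finset.sum_sub_distrib]
      refine Eq.trans ?_ h
      exact Finset.sum_congr rfl fun x _ => by simp only [W]; ring
    have hsplit : ∀ x, ζ ^ j x = ∑ r ∈ Finset.range q, ∑ a ∈ Finset.range p,
        (if j x = r + a * q then ζ ^ (r + a * q) else 0) := by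
      intro x
      rw [Finset.sum_eq_single (j x % q)]
      · rw [Finset.sum_eq_single (j x / q)]
        · rw [if_pos (by rw [Nat.mul_comm, Nat.mod_add_div]),
            Nat.mul_comm, Nat.mod_add_div]
        · intro a _ ha
          rw [if_neg]
          intro e1
          apply ha
          conv_rhs => rw [e1, Nat.add_mul_div_right _ _ hq0, Nat.div_eq_of_lt (Nat.mod_lt _ hq0),
            zero_add]
        · intro hh
          exfalso
          apply hh
          rw [Finset.mem_range, Nat.div_lt_iff_lt_mul hq0, hq, ← pow_succ']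
          exact hj x
      · intro r hr hne'
        refine Finset.sum_eq_zero fun a _ => if_neg fun e1 => hne' ?_
        rw [e1, Nat.add_mul_mod_self_right, Nat.mod_eq_of_lt (Finset.mem_range.1 hr)]
      · intro h; exact absurd (Finset.mem_range.2 (Nat.mod_lt _ hq0)) h
    have hgeo : ∑ a ∈ Finset.range p, ζ ^ (a * q) = 0 := by
      have h1 : IsPrimitiveRoot (ζ ^ q) p :=
        hζ.pow (pow_pos hp.pos _) (by rw [hq, pow_succ])
      have := h1.geom_sum_eq_zero hp.one_lt
      simpa only [← pow_mul, mul_comm q] using this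
    calc ∑ x, (n x : ℂ) * (C x y : ℂ) * ζ ^ j x
        = ∑ r ∈ Finset.range q, ∑ a ∈ Finset.range p,
            ((∑ x, n x * (if j x = r + a * q then 1 else 0) * C x y : ℤ) : ℂ) * ζ ^ (r + a * q) := by
          push_cast
          simp only [hsplit, Finset.mul_sum, Finset.sum_mul]
          rw [Finset.sum_comm]
          refine Finset.sum_congr rfl fun r _ => ?_
          rw [Finset.sum_comm]
          exact Finset.sum_congr rfl fun a _ => Finset.sum_congr rfl fun x _ => by
            split_ifs <;> simp <;> ring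
      _ = ∑ r ∈ Finset.range q, ((∑ x, n x * (if j x = r + 0 * q then 1 else 0) * C x y : ℤ) : ℂ)
            * ζ ^ r * ∑ a ∈ Finset.range p, ζ ^ (a * q) := by
          refine Finset.sum_congr rfl fun r hr => ?_
          rw [Finset.mul_sum]
          refine Finset.sum_congr rfl fun a ha => ?_
          rw [hcoef r hr a ha, pow_add]; ring
      _ = 0 := by simp [hgeo]
  have hsymm : ∀ r a b, G r b a = G r a b := by
    intro r a b
    simp only [G, form, W]
    exact Finset.sum_congr rfl fun x _ => Finset.sum_congr rfl fun y _ => by ring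
  have hab : a₀ ≠ b₀ := by
    rintro rfl
    exact h0 (by simp [G, W, form])
  -- every third index differs from one of the two
  have hthird : ∀ c ∈ Finset.range p, G r₀ a₀ c ≠ 0 ∨ G r₀ c b₀ ≠ 0 := by
    intro c _
    by_contra hcon
    push Not at hcon
    apply h0
    have h1 := form_eq_zero_of_self_eq_zero C hC hpos hcon.1
    have e1 : (fun x => W r₀ a₀ c x + 1 * W r₀ c b₀ x) = W r₀ a₀ b₀ := by
      funext x; simp only [W]; ring
    show form C (W r₀ a₀ b₀) (W r₀ a₀ b₀) = 0
    simp only [G] at hcon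
    rw [← e1, form_add_smul C hC, hcon.1, hcon.2, h1 _]; ring
  have hG0 : ∀ r a b, 0 ≤ G r a b := fun r a b => hpos _
  have hGm : ∀ r a b, G r a b ≠ 0 → m ≤ G r a b := fun r a b h => (hm _).resolve_left h
  have hkey : 2 * (((p : ℤ) - 1) * m) ≤ ∑ r ∈ Finset.range q, ∑ a ∈ Finset.range p,
      ∑ b ∈ Finset.range p, G r a b := by
    refine le_trans ?_ (Finset.single_le_sum
      (f := fun r => ∑ a ∈ Finset.range p, ∑ b ∈ Finset.range p, G r a b)
      (fun r _ => Finset.sum_nonneg fun a _ => Finset.sum_nonneg fun b _ => hG0 r a b) hr₀)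
    rcases le_or_gt m 0 with hm0 | hm0
    · have h1 : (0 : ℤ) ≤ (p : ℤ) - 1 := by have := hp.one_le; omega
      exact le_trans (by nlinarith) (Finset.sum_nonneg fun a _ =>
        Finset.sum_nonneg fun b _ => hG0 r₀ a b)
    have hrow : ∑ a ∈ Finset.range p, ∑ b ∈ Finset.range p, G r₀ a b ≥
        ∑ c ∈ (Finset.range p).erase a₀, G r₀ a₀ c + ∑ c ∈ (Finset.range p).erase b₀, G r₀ b₀ c +
        ∑ c ∈ ((Finset.range p).erase a₀).erase b₀, (G r₀ c a₀ + G r₀ c b₀) := by
      rw [← Finset.add_sum_erase _ _ ha₀, ← Finset.add_sum_erase _ _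
        (Finset.mem_erase.2 ⟨hab.symm, hb₀⟩)]
      have e1 : ∀ a, ∀ s : Finset ℕ, s ⊆ Finset.range p →
          ∑ c ∈ s, G r₀ a c ≤ ∑ b ∈ Finset.range p, G r₀ a b := fun a s hs =>
        Finset.sum_le_sum_of_subset_of_nonneg hs fun c _ _ => hG0 _ _ _
      have e2 : ∑ c ∈ ((Finset.range p).erase a₀).erase b₀, (G r₀ c a₀ + G r₀ c b₀) ≤
          ∑ x ∈ ((Finset.range p).erase a₀).erase b₀, ∑ b ∈ Finset.range p, G r₀ x b := by
        refine Finset.sum_le_sum fun c _ => ?_
        rw [← Finset.sum_pair hab (f := fun b => G r₀ c b)]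
        refine e1 c _ ?_
        intro t ht
        rcases Finset.mem_insert.1 ht with rfl | ht
        · exact ha₀
        · rw [Finset.mem_singleton.1 ht]; exact hb₀
      have := e1 a₀ _ (Finset.erase_subset a₀ _)
      have := e1 b₀ _ (Finset.erase_subset b₀ _)
      linarith
    refine le_trans ?_ hrow
    rw [← Finset.add_sum_erase ((Finset.range p).erase a₀) _ (Finset.mem_erase.2 ⟨hab.symm, hb₀⟩),
      ← Finset.add_sum_erase ((Finset.range p).erase b₀) _ (Finset.mem_erase.2 ⟨hab, ha₀⟩),
      Finset.erase_right_comm (a := b₀) (b := a₀), hsymm r₀ a₀ b₀]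
    have hcard : ((((Finset.range p).erase a₀).erase b₀).card : ℤ) = (p : ℤ) - 2 := by
      rw [Finset.card_erase_of_mem (Finset.mem_erase.2 ⟨hab.symm, hb₀⟩),
        Finset.card_erase_of_mem ha₀, Finset.card_range]
      have := hp.two_le
      omega
    have hterms : ∀ c ∈ ((Finset.range p).erase a₀).erase b₀,
        2 * m ≤ G r₀ a₀ c + G r₀ b₀ c + (G r₀ c a₀ + G r₀ c b₀) := by
      intro c hc
      have hcr : c ∈ Finset.range p := Finset.mem_of_mem_erase (Finset.mem_of_mem_erase hc)
      rw [hsymm r₀ a₀ c, hsymm r₀ c b₀]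
      rcases hthird c hcr with h | h
      · linarith [hGm _ _ _ h, hG0 r₀ c b₀]
      · linarith [hGm _ _ _ h, hG0 r₀ a₀ c]
    have := Finset.sum_le_sum hterms
    rw [Finset.sum_const, nsmul_eq_mul, Finset.sum_add_distrib, Finset.sum_add_distrib,
      hcard] at this
    have := hGm _ _ _ h0
    linarith
  have h := sum_tau_form hp C n j hj
  simp only [← hq] at h
  have hG : (∑ r ∈ Finset.range q, ∑ a ∈ Finset.range p, ∑ b ∈ Finset.range p, G r a b) =
      2 * ∑ x, ∑ y, n x * n y * C x y * tau p e (shift p e (j x) (j y)) := h.symm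
  linarith

end CfsgLib.CycloAverage
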