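import Cfsg.Agent.BlockPairing.RegularInner

/-!
# Degrees in a block

Defect at most one is detected by one character, the p-part of the sum of the squares of the
degrees in a block, and the number of blocks of given defect.
-/

set_option autoImplicit false
set_option linter.unusedSectionVars false
set_option linter.style.haveILetI false

namespace CfsgLib.BlockPairing

open CfsgLib.Blocks Cfsg
open scoped ComplexConjugate

universe u

variable {G : Type u} [Group G] [Fintype G] {M : Ideal AlgInt} [M.IsPrime] {p : ℕ}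

theorem blockDefect_singleton (p : ℕ) (χ : IrrCharacter G) :
    Cfsg.blockDefect p ({χ} : Set (IrrCharacter G)) =
      (Nat.card G).factorization p - (Cfsg.charDegree (χ : G → ℂ)).factorization p := by
  rw [Cfsg.blockDefect, Set.image_singleton, csInf_singleton]

open Classical in
/-- A character of defect at most one forces defect at most one on its block. -/
theorem defect_le_of_defect_le_one [hp : Fact p.Prime] (hM : Cfsg.IsPModular p M)
    {B : Set (IrrCharacter G)} (hB : Cfsg.IsPBlock M B) {χ : IrrCharacter G} (hχ : χ ∈ B)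
    (hv : (Nat.card G).factorization p ≤ (Cfsg.charDegree (χ : G → ℂ)).factorization p + 1) :
    ∀ ψ ∈ B, (Cfsg.charDegree (χ : G → ℂ)).factorization p ≤
      (Cfsg.charDegree (ψ : G → ℂ)).factorization p := by
  obtain ⟨χ₀, hχ₀, hmin, -⟩ := exists_minimal (p := p) hB
  intro ψ hψ
  by_contra hlt
  have hlt' : (Cfsg.charDegree (χ₀ : G → ℂ)).factorization p <
      (Cfsg.charDegree (χ : G → ℂ)).factorization p :=
    (hmin ψ hψ).trans_lt (Nat.lt_of_not_le hlt)
  set v := (Nat.card G).factorization p - (Cfsg.charDegree (χ : G → ℂ)).factorization p with hvdef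
  have hv1 : v ≤ 1 := by omega
  choose c hc using exists_int_pow_defect (p := p) (Set.mem_singleton χ)
  simp only [blockDefect_singleton, ← hvdef] at hc
  have hp0 : ((p ^ v : ℕ) : ℂ) ≠ 0 := Nat.cast_ne_zero.2 (pow_ne_zero _ hp.out.ne_zero)
  -- the column at `χ` consists of non-units
  have hcol : Cfsg.MemLocalIdeal M (regSum p (χ₀ : G → ℂ) χ) := by
    have h := hc χ₀
    rw [regInner_symm p χ χ₀] at h
    have e : regSum p (χ₀ : G → ℂ) χ = ((Nat.card G : ℕ) : ℂ) * (c χ₀ : ℂ) /
        ((p ^ v * Cfsg.charDegree (χ₀ : G → ℂ) : ℕ) : ℂ) := by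
      rw [regSum_eq, ← h, Nat.cast_mul, charDegree_cast]
      have := Characters.irr_one_ne_zero χ₀.2
      field_simp
    rw [e]
    refine memLocalIdeal_mul_div_of_lt hM (mul_ne_zero (pow_ne_zero _ hp.out.ne_zero)
      (charDegree_ne_zero χ₀)) ?_ ?_
    · rw [Nat.factorization_mul (pow_ne_zero _ hp.out.ne_zero) (charDegree_ne_zero χ₀),
        Finsupp.add_apply, hp.out.factorization_pow, Finsupp.single_eq_same]
      have := charDegree_factorization_le (p := p) χ
      omega
    · exact memLocalRing_of_isIntegral isIntegral_algebraMap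
  have hsame : Cfsg.SameBlock M (χ : G → ℂ) (χ₀ : G → ℂ) :=
    mem_blockOf.1 (eq_blockOf_of_mem hB hχ ▸ hχ₀)
  have hdiag : Cfsg.MemLocalIdeal M (regSum p (χ : G → ℂ) χ) := by
    have := memLocalIdeal_add (memLocalIdeal_regSum_sub p hsame χ) hcol
    rwa [sub_add_cancel] at this
  have hnd : ¬ p ∣ Nat.card G / (p ^ v * Cfsg.charDegree (χ : G → ℂ)) ∧
      p ^ v * Cfsg.charDegree (χ : G → ℂ) ∣ Nat.card G := by
    have hne : p ^ v * Cfsg.charDegree (χ : G → ℂ) ≠ 0 :=
      mul_ne_zero (pow_ne_zero _ hp.out.ne_zero) (charDegree_ne_zero χ)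
    have hd : p ^ v * Cfsg.charDegree (χ : G → ℂ) ∣ Nat.card G := by
      rw [mul_comm, ← Nat.dvd_div_iff_mul_dvd (charDegree_dvd_card χ)]
      have h0 : Nat.card G / Cfsg.charDegree (χ : G → ℂ) ≠ 0 :=
        (Nat.div_pos (Nat.le_of_dvd Nat.card_pos (charDegree_dvd_card χ))
          (Nat.pos_of_ne_zero (charDegree_ne_zero χ))).ne'
      rw [hp.out.pow_dvd_iff_le_factorization h0, Nat.factorization_div (charDegree_dvd_card χ),
        Finsupp.tsub_apply]
    refine ⟨fun hdvd => ?_, hd⟩
    have h1 := hp.out.factorization_pos_of_dvd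
      (Nat.div_pos (Nat.le_of_dvd Nat.card_pos hd) (Nat.pos_of_ne_zero hne)).ne' hdvd
    rw [Nat.factorization_div hd, Finsupp.tsub_apply,
      Nat.factorization_mul (pow_ne_zero _ hp.out.ne_zero) (charDegree_ne_zero χ),
      Finsupp.add_apply, hp.out.factorization_pow, Finsupp.single_eq_same] at h1
    have := charDegree_factorization_le (p := p) χ
    omega
  have hx : (p : ℤ) ∣ c χ := by
    have e : (c χ : ℂ) =
        ((Nat.card G / (p ^ v * Cfsg.charDegree (χ : G → ℂ)) : ℕ) : ℂ)⁻¹ *
          regSum p (χ : G → ℂ) χ := by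
      rw [regSum_eq, ← hc χ, Nat.cast_div hnd.2 (by
        exact_mod_cast mul_ne_zero (pow_ne_zero _ hp.out.ne_zero) (charDegree_ne_zero χ)),
        Nat.cast_mul, charDegree_cast]
      have := Characters.irr_one_ne_zero χ.2
      have hG : (Nat.card G : ℂ) ≠ 0 := Nat.cast_ne_zero.2 Nat.card_pos.ne'
      field_simp
    have hI : Cfsg.MemLocalIdeal M ((c χ : ℂ)) :=
      e ▸ memLocalIdeal_mul_left (memLocalRing_natCast_inv hM hnd.1) hdiag
    rcases Int.natAbs_eq (c χ) with h | h <;> rw [h] at hI ⊢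
    · rw [Int.cast_natCast, memLocalIdeal_natCast_iff hM] at hI
      exact Int.natCast_dvd_natCast.2 hI
    · rw [Int.cast_neg, Int.cast_natCast] at hI
      have := memLocalIdeal_neg hI
      rw [neg_neg, memLocalIdeal_natCast_iff hM] at this
      exact (Int.natCast_dvd_natCast.2 this).neg_right
  -- the unit entry
  have hc0 : c χ₀ ≠ 0 := by
    intro h0
    have h := hc χ₀
    rw [h0, Int.cast_zero, mul_eq_zero] at h
    refine regSum_not_mem_of_minimal hM hB hχ₀ hmin hχ ?_
    rw [regSum_eq, h.resolve_left hp0, mul_zero]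
    exact memLocalIdeal_zero
  have hsq : ∑ φ, c φ ^ 2 = (p : ℤ) ^ v * c χ := by
    have h := congrArg (fun t : ℂ => (((p ^ v : ℕ) : ℂ)) ^ 2 * t) (sum_regInner_sq (p := p) χ)
    simp only [Finset.mul_sum] at h
    apply Int.cast_injective (α := ℂ)
    push_cast at h hc ⊢
    rw [← hc χ, ← mul_assoc, ← sq, ← h]
    refine Finset.sum_congr rfl fun φ _ => ?_
    have hre := congrArg conj (hc φ)
    simp only [map_mul, map_pow, map_natCast, map_intCast] at hre
    rw [sq ((c φ : ℂ))]
    conv_lhs => arg 1; rw [← hc φ]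
    conv_lhs => arg 2; rw [← hre]
    ring
  have hne : χ ≠ χ₀ := fun h => (h ▸ hlt').false
  have hle := Finset.sum_le_sum_of_subset_of_nonneg (f := fun φ => c φ ^ 2)
    (Finset.subset_univ ({χ, χ₀} : Finset (IrrCharacter G))) fun _ _ _ => sq_nonneg _
  rw [Finset.sum_pair hne, hsq] at hle
  have hpos : 0 < c χ₀ ^ 2 := sq_pos_of_ne_zero hc0
  have hpv : (p : ℤ) ^ v ≤ p := by
    calc (p : ℤ) ^ v ≤ (p : ℤ) ^ 1 :=
          pow_le_pow_right₀ (by exact_mod_cast hp.out.one_le) hv1
      _ = p := pow_one _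
  have hxpos : 0 < c χ := by
    rcases le_or_gt (c χ) 0 with h | h
    · nlinarith [sq_nonneg (c χ), pow_nonneg (Int.natCast_nonneg p) v]
    · exact h
  have hxp : (p : ℤ) ≤ c χ := Int.le_of_dvd hxpos hx
  nlinarith

open Classical in
/-- The p-part of the sum of the squares of the degrees in a block. -/
theorem sum_degree_sq_factorization [Fact p.Prime] (hM : Cfsg.IsPModular p M)
    {B : Set (IrrCharacter G)} (hB : Cfsg.IsPBlock M B) :
    (∑ χ : IrrCharacter G, if χ ∈ B then Cfsg.charDegree (χ : G → ℂ) ^ 2 else 0).factorization p =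
      2 * (Nat.card G).factorization p - Cfsg.blockDefect p B := by
  obtain ⟨D, hD⟩ := exists_isDefectGroup (p := p) hB
  obtain ⟨g, hg, hS⟩ := isDefectGroup_iff.1 hD
  have hidx := index_centralizer_factorization hS
  have hd := blockDefect_eq hM hB hD
  set k := (Subgroup.centralizer ({g} : Set G)).index with hk
  set S := ∑ χ : IrrCharacter G, if χ ∈ B then Cfsg.charDegree (χ : G → ℂ) ^ 2 else 0
  obtain ⟨χ₀, hχ₀⟩ := isPBlock_nonempty hB
  have hS0 : S ≠ 0 := by
    intro h0
    have := (Finset.sum_eq_zero_iff.1 h0) χ₀ (Finset.mem_univ _)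
    rw [if_pos hχ₀] at this
    exact charDegree_ne_zero χ₀ (pow_eq_zero_iff two_ne_zero |>.1 this)
  obtain ⟨b, hb, hb'⟩ := exists_union_comb hM (isBlockUnion_of_isPBlock hB)
  have hreg1 : ¬ p ∣ orderOf (1 : G) := by rw [orderOf_one]; exact hM.1.not_dvd_one
  have hreg : ¬ p ∣ orderOf g⁻¹ := by rw [orderOf_inv]; exact regular_of_isDefectClass hM hB hg
  have he1 : ∑ φ : IrrCharacter G, (if φ ∈ B then b φ * (φ : G → ℂ) 1 else 0) =
      ((S : ℕ) : ℂ) / ((Nat.card G : ℕ) : ℂ) := by
    rw [hb' 1 hreg1, inv_one, blockCoeff_eq_sum, inv_mul_eq_div, Nat.cast_sum]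
    congr 1
    refine Finset.sum_congr rfl fun φ _ => ?_
    split_ifs
    · rw [conj_one_irr, ← charDegree_cast, Nat.cast_pow, sq]
    · rw [Nat.cast_zero]
  have hk0 : k ≠ 0 := Subgroup.index_ne_zero_of_finite
  have hk0' : (k : ℂ) ≠ 0 := Nat.cast_ne_zero.2 hk0
  have hq : ∀ φ ∈ B, Cfsg.MemLocalRing M ((φ : G → ℂ) 1 / (k : ℂ)) := by
    intro φ hφ
    rw [← charDegree_cast]
    refine memLocalRing_div_of_eq hM hk0 ?_
    have := defect_add_degree_ge hM hB hD hφ
    omega
  set w := Cfsg.centralChar (χ₀ : G → ℂ) g⁻¹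
  have hterm : ∀ φ ∈ B, (φ : G → ℂ) g⁻¹ =
      Cfsg.centralChar (φ : G → ℂ) g⁻¹ * ((φ : G → ℂ) 1 / (k : ℂ)) := by
    intro φ _
    rw [Cfsg.centralChar, centralizer_inv_singleton, ← hk]
    have := Characters.irr_one_ne_zero φ.2
    field_simp
  -- the two evaluations agree modulo the ideal
  have hdiff : Cfsg.MemLocalIdeal M (Cfsg.blockCoeff B g -
      w * (((S : ℕ) : ℂ) / ((Nat.card G : ℕ) : ℂ) / (k : ℂ))) := by
    have hbg := hb' g⁻¹ hreg
    rw [inv_inv] at hbg
    rw [← hbg, ← he1, Finset.sum_div, Finset.mul_sum, ← Finset.sum_sub_distrib]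
    refine memLocalIdeal_sum _ fun φ _ => ?_
    split_ifs with hφ
    · rw [hterm φ hφ, show b φ * (Cfsg.centralChar (φ : G → ℂ) g⁻¹ * ((φ : G → ℂ) 1 / (k : ℂ))) -
        w * (b φ * (φ : G → ℂ) 1 / (k : ℂ)) =
        (b φ * ((φ : G → ℂ) 1 / (k : ℂ))) * (Cfsg.centralChar (φ : G → ℂ) g⁻¹ - w) by ring]
      exact memLocalIdeal_mul_left (Subring.mul_mem (localRing M) (hb φ) (hq φ hφ))
        (sameBlock_symm (mem_blockOf.1 (eq_blockOf_of_mem hB hφ ▸ hχ₀)) g⁻¹ |> fun h => by
          have := memLocalIdeal_neg h; rwa [neg_sub] at this)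
    · simp [memLocalIdeal_zero]
  have hloc : Cfsg.MemLocalRing M (((S : ℕ) : ℂ) / ((Nat.card G : ℕ) : ℂ) / (k : ℂ)) := by
    rw [← he1, Finset.sum_div]
    refine Subring.sum_mem (localRing M) fun φ _ => ?_
    split_ifs with hφ
    · rw [mul_div_assoc]; exact Subring.mul_mem (localRing M) (hb φ) (hq φ hφ)
    · rw [zero_div]; exact Subring.zero_mem _
  rw [div_div, ← Nat.cast_mul] at hdiff hloc
  have hne : Nat.card G * k ≠ 0 := mul_ne_zero Nat.card_pos.ne' hk0
  have hlow := factorization_le_of_div_mem hM hS0 hne hloc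
  have hup : ¬ (Nat.card G * k).factorization p < S.factorization p := by
    intro hlt
    refine hg.2.1 ?_
    have hI := memLocalIdeal_mul_div_of_lt hM hne hlt (z := w) (memLocalRing_centralChar χ₀ _)
    rw [mul_div_assoc, mul_comm] at hI
    have hS' : Cfsg.MemLocalIdeal M (w * (((S : ℕ) : ℂ) / ((Nat.card G * k : ℕ) : ℂ))) := by
      refine memLocalIdeal_mul_left (memLocalRing_centralChar χ₀ _) ?_
      have := memLocalIdeal_mul_div_of_lt hM hne hlt (z := 1) (Subring.one_mem (localRing M))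
      rwa [mul_one] at this
    have := memLocalIdeal_add hdiff hS'
    rwa [sub_add_cancel] at this
  rw [Nat.factorization_mul Nat.card_pos.ne' hk0, Finsupp.add_apply] at hlow hup
  omega

open Classical in
/-- Blocks of defect `σ` are at most as many as the p-regular classes of defect `σ`. -/
theorem card_blocks_le [Fact p.Prime] (hM : Cfsg.IsPModular p M) (σ : ℕ) :
    Nat.card {B : Set (IrrCharacter G) // Cfsg.IsPBlock M B ∧ Cfsg.blockDefect p B = σ} ≤
      Nat.card {C : ConjClasses G // ∃ g : G, ConjClasses.mk g = C ∧ ¬ p ∣ orderOf g ∧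
        (Nat.card (Subgroup.centralizer ({g} : Set G))).factorization p = σ} := by
  haveI := Fintype.ofFinite (ConjClasses G)
  set X := {B : Set (IrrCharacter G) // Cfsg.IsPBlock M B ∧ Cfsg.blockDefect p B = σ}
  set P : ConjClasses G → Prop := fun C => ∃ g : G, ConjClasses.mk g = C ∧ ¬ p ∣ orderOf g ∧
    (Nat.card (Subgroup.centralizer ({g} : Set G))).factorization p = σ
  choose χ hχ hmin hdef using fun B : X => exists_minimal (p := p) B.2.1
  have key : ∀ B B' : X, ∀ C : ConjClasses G, ¬ P C →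
      classCoeff (idemBar M B'.1 (isBlockUnion_of_isPBlock B'.2.1)) C *
        omegaBar M (χ B) (classSum _ C) = 0 := by
    intro B B' C hC
    obtain ⟨g, rfl⟩ := ConjClasses.mk_surjective C
    by_contra hne
    obtain ⟨h1, h2⟩ := mul_ne_zero_iff.1 hne
    rw [classCoeff_mk, coeff_idemBar] at h1
    have hI : ¬ Cfsg.MemLocalIdeal M (Cfsg.blockCoeff B'.1 g) :=
      (not_memLocalIdeal_blockCoeff_iff (isBlockUnion_of_isPBlock B'.2.1) g).2
        (by rwa [coeff_idemBar])
    have hreg : ¬ p ∣ orderOf g := fun hd => hI (by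
      rw [blockCoeff_eq_zero_of_singular hM (isBlockUnion_of_isPBlock B'.2.1) hd]
      exact memLocalIdeal_zero)
    refine hC ⟨g, rfl, hreg, ?_⟩
    have hlo := index_factorization_le hM (χ B) h2
    obtain ⟨b, hb, hb'⟩ := exists_union_comb hM (isBlockUnion_of_isPBlock B'.2.1)
    have he := hb' g⁻¹ (by rwa [orderOf_inv])
    rw [inv_inv] at he
    obtain ⟨φ, hφ, hu⟩ : ∃ φ ∈ B'.1, ¬ Cfsg.MemLocalIdeal M ((φ : G → ℂ) g⁻¹) := by
      by_contra hcon
      refine hI (he ▸ memLocalIdeal_sum _ fun φ _ => ?_)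
      split_ifs with h
      · refine memLocalIdeal_mul_left (hb φ) ?_
        by_contra hn; exact hcon ⟨φ, h, hn⟩
      · exact memLocalIdeal_zero
    have hhi := degree_factorization_le hM φ hu
    rw [centralizer_inv_singleton] at hhi
    have h3 := factorization_sub_le_blockDefect (p := p) hφ
    have h4 := hdef B
    have h5 := charDegree_factorization_le (p := p) (χ B)
    rw [B.2.2] at h4
    rw [B'.2.2] at h3
    have h6 : (Subgroup.centralizer ({g} : Set G)).index.factorization p +
        (Nat.card (Subgroup.centralizer ({g} : Set G))).factorization p =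
        (Nat.card G).factorization p := by
      rw [← Finsupp.add_apply, ← Nat.factorization_mul Subgroup.index_ne_zero_of_finite
        Nat.card_pos.ne', Subgroup.index_mul_card]
    omega
  let E : Matrix X {C : ConjClasses G // P C} (Res M) := fun B' C =>
    classCoeff (idemBar M B'.1 (isBlockUnion_of_isPBlock B'.2.1)) C.1
  let W : Matrix {C : ConjClasses G // P C} X (Res M) := fun C B =>
    omegaBar M (χ B) (classSum _ C.1)
  have hEW : E * W = 1 := by
    ext B' B
    rw [Matrix.mul_apply, Matrix.one_apply]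
    have h := omegaBar_idemBar B'.1 (isBlockUnion_of_isPBlock B'.2.1) (χ B) (M := M)
    conv_lhs at h => rw [eq_sum_classSum (idemBar M B'.1 (isBlockUnion_of_isPBlock B'.2.1))]
    rw [map_sum] at h
    simp only [map_mul, omegaBar_scalar] at h
    rw [← Finset.sum_subtype (Finset.univ.filter P) (fun C => by simp)
      (fun C => classCoeff (idemBar M B'.1 (isBlockUnion_of_isPBlock B'.2.1)) C *
        omegaBar M (χ B) (classSum _ C)),
      Finset.sum_subset (Finset.subset_univ _) (fun C _ hC => key B B' C (by simpa using hC)), h]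
    refine if_congr ⟨fun hm => ?_, fun he => he ▸ hχ B⟩ rfl rfl
    exact Subtype.ext (isPBlock_eq_of_mem B'.2.1 B.2.1 hm (hχ B))
  rw [Nat.card_eq_fintype_card, Nat.card_eq_fintype_card]
  calc Fintype.card X = (1 : Matrix X X (Res M)).rank := (Matrix.rank_one).symm
    _ = (E * W).rank := by rw [hEW]
    _ ≤ E.rank := Matrix.rank_mul_le_left _ _
    _ ≤ Fintype.card {C : ConjClasses G // P C} := Matrix.rank_le_card_width _

end CfsgLib.BlockPairing

namespace CfsgLib.BlockPairing

open CfsgLib.Blocks Cfsg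

universe v

variable {G : Type v} [Group G] [Fintype G] {M : Ideal AlgInt} [M.IsPrime] {p : ℕ}

open Classical in
/-- Between blocks of defect `d`, only the p-regular classes of defect `d` meet. -/
theorem coeff_mul_omegaBar_eq_zero [Fact p.Prime] (hM : Cfsg.IsPModular p M) {d : ℕ}
    {B : Set (IrrCharacter G)} (hB : Cfsg.IsPBlock M B) (hd : Cfsg.blockDefect p B = d)
    {B' : Set (IrrCharacter G)} (hB' : Cfsg.IsPBlock M B') (hd' : Cfsg.blockDefect p B' = d)
    {χ : IrrCharacter G} (hχ : χ ∈ B) {g : G}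
    (hC : ¬ (¬ p ∣ orderOf g ∧
      (Nat.card (Subgroup.centralizer ({g} : Set G))).factorization p = d)) :
    red M ⟨Cfsg.blockCoeff B' g, memLocalRing_blockCoeff (isBlockUnion_of_isPBlock hB') g⟩ *
      omegaBar M χ (classSum _ (ConjClasses.mk g)) = 0 := by
  by_contra hne
  obtain ⟨h1, h2⟩ := mul_ne_zero_iff.1 hne
  have hI : ¬ Cfsg.MemLocalIdeal M (Cfsg.blockCoeff B' g) := fun h => h1 (red_eq_zero_iff.2 h)
  have hreg : ¬ p ∣ orderOf g := fun hd => hI (by
    rw [blockCoeff_eq_zero_of_singular hM (isBlockUnion_of_isPBlock hB') hd]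
    exact memLocalIdeal_zero)
  refine hC ⟨hreg, ?_⟩
  obtain ⟨χ₀, hχ₀, -, hdef⟩ := exists_minimal (p := p) hB
  rw [eq_blockOf_of_mem hB hχ, mem_blockOf] at hχ₀
  rw [(sameBlock_iff χ χ₀).1 hχ₀] at h2
  have hlo := index_factorization_le hM χ₀ h2
  obtain ⟨b, hb, hb'⟩ := exists_union_comb hM (isBlockUnion_of_isPBlock hB')
  have he := hb' g⁻¹ (by rwa [orderOf_inv])
  rw [inv_inv] at he
  obtain ⟨φ, hφ, hu⟩ : ∃ φ ∈ B', ¬ Cfsg.MemLocalIdeal M ((φ : G → ℂ) g⁻¹) := by
    by_contra hcon
    refine hI (he ▸ memLocalIdeal_sum _ fun φ _ => ?_)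
    split_ifs with h
    · refine memLocalIdeal_mul_left (hb φ) ?_
      by_contra hn; exact hcon ⟨φ, h, hn⟩
    · exact memLocalIdeal_zero
  have hhi := degree_factorization_le hM φ hu
  rw [centralizer_inv_singleton] at hhi
  have h3 := factorization_sub_le_blockDefect (p := p) hφ
  have h5 := charDegree_factorization_le (p := p) χ₀
  rw [hd] at hdef
  rw [hd'] at h3
  have h6 : (Subgroup.centralizer ({g} : Set G)).index.factorization p +
      (Nat.card (Subgroup.centralizer ({g} : Set G))).factorization p =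
      (Nat.card G).factorization p := by
    rw [← Finsupp.add_apply, ← Nat.factorization_mul Subgroup.index_ne_zero_of_finite
      Nat.card_pos.ne', Subgroup.index_mul_card]
  omega

end CfsgLib.BlockPairing
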