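import Cfsg.Agent.CharactersDeep.PrimePowerDegrees
import Cfsg.Agent.Blocks.Height
import Mathlib.GroupTheory.Solvable

/-!
# Itô's criterion for an abelian normal Sylow subgroup of a solvable group
-/

set_option autoImplicit false
set_option linter.unusedSectionVars false
set_option linter.style.haveILetI false

namespace CfsgLib.ItoSolvable

open Cfsg CfsgLib.Characters CfsgLib.CharactersDeep
open scoped commutatorElement

universe u

theorem mem_of_normal_pGroup {K : Type u} [Group K] [Finite K] {p : ℕ} (hp : p.Prime)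
    {Q : Subgroup K} [Q.Normal] (hQ : ¬ p ∣ Q.index) {x : K} {k : ℕ} (hx : x ^ p ^ k = 1) :
    x ∈ Q := by
  have h1 : (QuotientGroup.mk' Q x) ^ p ^ k = 1 := by rw [← map_pow, hx, map_one]
  have h2 : orderOf (QuotientGroup.mk' Q x) ∣ Q.index := by
    rw [Subgroup.index_eq_card]; exact orderOf_dvd_natCard _
  obtain ⟨j, -, hj⟩ := (Nat.dvd_prime_pow hp).1 (orderOf_dvd_of_pow_eq_one h1)
  rcases Nat.eq_zero_or_pos j with rfl | hj0
  · rw [pow_zero, orderOf_eq_one_iff, QuotientGroup.mk'_apply, QuotientGroup.eq_one_iff] at hj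
    exact hj
  · exact absurd (dvd_trans (hj ▸ dvd_pow_self p hj0.ne') h2) hQ

/-- A normal Sylow subgroup of a normal subgroup of index prime to `p`. -/
theorem exists_normal_sylow_of_normal {G : Type u} [Group G] [Finite G] {p : ℕ} (hp : p.Prime)
    (K : Subgroup G) [K.Normal] (hK : ¬ p ∣ K.index) {Q : Subgroup K} (hQn : Q.Normal)
    (hQ : IsPGroup p Q) (hQi : ¬ p ∣ Q.index) :
    ∃ P : Subgroup G, P.Normal ∧ IsPGroup p P ∧ ¬ p ∣ P.index := by
  refine ⟨Q.map K.subtype, ⟨?_⟩, hQ.map _, ?_⟩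
  · rintro _ ⟨q, hq, rfl⟩ g
    obtain ⟨k, hk⟩ := hQ ⟨q, hq⟩
    have hk' : q ^ p ^ k = 1 := congrArg Subtype.val hk
    refine ⟨⟨g * q * g⁻¹, ‹K.Normal›.conj_mem _ q.2 g⟩, mem_of_normal_pGroup hp hQi (k := k) ?_,
      rfl⟩
    refine Subtype.ext ?_
    rw [SubgroupClass.coe_pow, conj_pow, ← SubgroupClass.coe_pow, hk']
    simp
  · rw [Subgroup.index_map_subtype]
    exact hp.prime.not_dvd_mul hQi hK

theorem degrees_normal {G : Type u} [Group G] [Fintype G] {p : ℕ}
    (h : ∀ χ : IrrCharacter G, ¬ p ∣ Cfsg.charDegree (χ : G → ℂ)) (N : Subgroup G)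
    [N.Normal] [Fintype N] (θ : IrrCharacter N) : ¬ p ∣ Cfsg.charDegree (θ : N → ℂ) := by
  classical
  obtain ⟨χ, hχ, hne⟩ := Clifford.exists_over N θ.2
  obtain ⟨e, he⟩ := classInner_character_irr
    (isCharacter_restrict N (isCharacter_of_isIrr hχ)) θ.2
  have h1 := congrFun (Clifford.restrict_eq_orbit_sum N hχ θ.2 hne) 1
  simp only [OneMemClass.coe_one, Pi.smul_apply, Finset.sum_apply, smul_eq_mul, he] at h1
  rw [Finset.sum_congr rfl (g := fun _ => (θ : N → ℂ) 1) fun φ hφ => ?_, Finset.sum_const,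
    nsmul_eq_mul, ← Blocks.charDegree_cast] at h1
  swap
  · obtain ⟨g, rfl⟩ := (Clifford.mem_orbit N).1 hφ
    exact congrArg (θ : N → ℂ) (Subtype.ext (by simp))
  rw [show χ 1 = ((Cfsg.charDegree χ : ℕ) : ℂ) from
    (Blocks.charDegree_cast (⟨χ, hχ⟩ : IrrCharacter G)).symm] at h1
  have h2 : Cfsg.charDegree χ =
      e * ((Clifford.orbit N (θ : N → ℂ)).card * Cfsg.charDegree (θ : N → ℂ)) := by
    apply Nat.cast_injective (R := ℂ)
    push_cast
    exact h1
  exact fun hd => h ⟨χ, hχ⟩ (h2 ▸ Dvd.dvd.mul_left (hd.mul_left _) _)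

theorem degree_eq_one_of_not_dvd {G : Type u} [Group G] [Fintype G] {p : ℕ} (hp : p.Prime)
    (h : ∀ χ : IrrCharacter G, ¬ p ∣ Cfsg.charDegree (χ : G → ℂ)) (A : Subgroup G) [A.Normal]
    (hA : ∀ a ∈ A, ∀ b ∈ A, a * b = b * a) {k : ℕ} (hk : A.index ∣ p ^ k) (χ : IrrCharacter G) :
    (χ : G → ℂ) 1 = 1 := by
  obtain ⟨d, hd, hdvd⟩ := GaloisAverage.exists_degree_dvd_index χ.2 A hA
  obtain ⟨j, -, rfl⟩ := (Nat.dvd_prime_pow hp).1 (hdvd.trans hk)
  rcases Nat.eq_zero_or_pos j with rfl | hj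
  · simpa using hd
  · refine absurd ?_ (h χ)
    rw [← Blocks.charDegree_cast] at hd
    rw [Nat.cast_injective (R := ℂ) hd]
    exact dvd_pow_self p hj.ne'

theorem exists_normal_abelian_ne_bot {G : Type u} [Group G] [Finite G] [Nontrivial G]
    (hsolv : Group.IsSolvable G) :
    ∃ A : Subgroup G, A.Normal ∧ A ≠ ⊥ ∧ ∀ a ∈ A, ∀ b ∈ A, a * b = b * a := by
  obtain ⟨n, hn⟩ := hsolv.solvable
  induction n with
  | zero => exact absurd hn (by simp)
  | succ n ih =>
    by_cases h0 : derivedSeries G n = ⊥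
    · exact ih h0
    · refine ⟨derivedSeries G n, derivedSeries_normal G n, h0, fun a ha b hb => ?_⟩
      have h1 : ⁅a, b⁆ ∈ derivedSeries G (n + 1) := Subgroup.commutator_mem_commutator ha hb
      rw [hn, Subgroup.mem_bot] at h1
      exact commutatorElement_eq_one_iff_mul_comm.1 h1

theorem exists_normal_sylow {p : ℕ} (hp : p.Prime) (n : ℕ) :
    ∀ (G : Type u) [Group G] [Fintype G], Nat.card G = n → Group.IsSolvable G →
      (∀ χ : IrrCharacter G, ¬ p ∣ Cfsg.charDegree (χ : G → ℂ)) →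
      ∃ P : Subgroup G, P.Normal ∧ IsPGroup p P ∧ ¬ p ∣ P.index := by
  induction n using Nat.strong_induction_on with
  | _ n ih =>
  intro G _ _ hn hsolv h
  classical
  haveI := Fact.mk hp
  rcases subsingleton_or_nontrivial G with hG | hG
  · refine ⟨⊥, inferInstance, IsPGroup.of_bot, ?_⟩
    rw [Subgroup.index_bot, Nat.card_unique]
    exact hp.not_dvd_one
  obtain ⟨A, hAn, hA0, hA⟩ := exists_normal_abelian_ne_bot hsolv
  haveI := hAn
  haveI := Fintype.ofFinite (G ⧸ A)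
  have hlt : Nat.card (G ⧸ A) < n := by
    rw [← hn, ← Subgroup.index_eq_card, ← A.index_mul_card]
    exact lt_mul_of_one_lt_right (Nat.pos_of_ne_zero Subgroup.index_ne_zero_of_finite)
      ((Subgroup.one_lt_card_iff_ne_bot A).2 hA0)
  have hsurj := QuotientGroup.mk'_surjective A
  obtain ⟨Q, hQn, hQ, hQi⟩ := ih _ hlt (G ⧸ A) rfl (Group.isSolvable_of_surjective hsurj)
    fun χ => by
      have h1 := h ⟨_, isIrr_comp (QuotientGroup.mk' A) hsurj χ.2⟩
      have h2 : Cfsg.charDegree (fun g : G => (χ : G ⧸ A → ℂ) (QuotientGroup.mk' A g)) =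
          Cfsg.charDegree (χ : G ⧸ A → ℂ) := by
        simp only [Cfsg.charDegree, map_one]
      exact h2 ▸ h1
  haveI := hQn
  set K := Q.comap (QuotientGroup.mk' A)
  have hKi : K.index = Q.index := Subgroup.index_comap_of_surjective _ hsurj
  by_cases hK : K = ⊤
  · have hind : ∃ k, A.index ∣ p ^ k := by
      obtain ⟨k, hk⟩ := IsPGroup.iff_card.1 hQ
      refine ⟨k, ?_⟩
      have : Q = ⊤ := by
        have := congrArg (Subgroup.map (QuotientGroup.mk' A)) hK
        rwa [Subgroup.map_comap_eq_self_of_surjective hsurj,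
          Subgroup.map_top_of_surjective _ hsurj] at this
      rw [Subgroup.index_eq_card, ← hk, this, Subgroup.card_top]
    obtain ⟨k, hk⟩ := hind
    have hcomm := PrimePowerDegrees.comm_of_linear (degree_eq_one_of_not_dvd hp h A hA hk)
    obtain ⟨P⟩ := (inferInstance : Nonempty (Sylow p G))
    refine ⟨P, ⟨fun a ha g => ?_⟩, P.2, P.not_dvd_index⟩
    rwa [hcomm g a, mul_inv_cancel_right]
  · haveI := Fintype.ofFinite K
    have hltK : Nat.card K < n := by
      rw [← hn]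
      exact lt_of_le_of_ne (Subgroup.card_le_card_group K) (Subgroup.card_eq_iff_eq_top K |>.not.2 hK)
    haveI : Group.IsSolvable K := Group.isSolvable_of_isSolvable_injective (f := K.subtype)
      K.subtype_injective
    obtain ⟨R, hRn, hR, hRi⟩ := ih _ hltK K rfl ‹_› (degrees_normal h K)
    exact exists_normal_sylow_of_normal hp K (hKi ▸ hQi) hRn hR hRi

/-- Itô's criterion. -/
theorem iff_degrees {G : Type u} [Group G] [Fintype G] (hsolv : Group.IsSolvable G) {p : ℕ}
    (hp : p.Prime) :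
    (∃ P : Subgroup G, P.Normal ∧ (∀ x ∈ P, ∀ y ∈ P, x * y = y * x) ∧ IsPGroup p P ∧
      ¬ p ∣ P.index) ↔ ∀ χ : IrrCharacter G, ¬ p ∣ Cfsg.charDegree (χ : G → ℂ) := by
  constructor
  · rintro ⟨P, hn, hc, -, hi⟩ χ hd
    haveI := hn
    obtain ⟨d, hd1, hdvd⟩ := GaloisAverage.exists_degree_dvd_index χ.2 P hc
    rw [← Blocks.charDegree_cast] at hd1
    rw [Nat.cast_injective (R := ℂ) hd1] at hd
    exact hi (hd.trans hdvd)
  · intro h
    obtain ⟨P, hn, hP, hi⟩ := exists_normal_sylow hp _ G rfl hsolv h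
    refine ⟨P, hn, ?_, hP, hi⟩
    classical
    haveI := hn
    obtain ⟨k, hk⟩ := (haveI := Fact.mk hp; IsPGroup.iff_card.1 hP)
    have hcomm := PrimePowerDegrees.comm_of_linear (G := P)
      (degree_eq_one_of_not_dvd hp (degrees_normal h P) ⊥
        (fun a ha b hb => by rw [Subgroup.mem_bot.1 ha, Subgroup.mem_bot.1 hb])
        (k := k) (by rw [Subgroup.index_bot, hk]))
    intro x hx y hy
    exact congrArg Subtype.val (hcomm ⟨x, hx⟩ ⟨y, hy⟩)

end CfsgLib.ItoSolvable
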