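import Cfsg.Agent.BlockPairing.MajorSubsection
import Cfsg.Agent.BlocksLocal.RegularForm

/-!
# Bounds from a major subsection

The contributions of a major subsection are units after scaling by the height, and their Galois
averages bound the number of characters of the block.
-/

set_option autoImplicit false
set_option linter.unusedSectionVars false
set_option linter.style.haveILetI false

namespace CfsgLib.MajorSubsection

open CfsgLib.Blocks CfsgLib.BlockPairing CfsgLib.CycloAverage Cfsg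
open scoped ComplexConjugate

universe u

variable {G : Type u} [Group G] [Fintype G]

section Arith

variable {M : Ideal AlgInt} [M.IsPrime] {p : ℕ}

theorem memLocalRing_intCast (k : ℤ) : Cfsg.MemLocalRing M (k : ℂ) :=
  memLocalRing_of_isIntegral (by simpa using isIntegral_algebraMap (R := ℤ) (A := ℂ) (x := k))

theorem memLocalIdeal_intCast_iff (hM : Cfsg.IsPModular p M) (k : ℤ) :
    Cfsg.MemLocalIdeal M (k : ℂ) ↔ (p : ℤ) ∣ k := by
  rw [Int.natCast_dvd]
  rcases Int.natAbs_eq k with h | h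
  · conv_lhs => rw [h, Int.cast_natCast]
    exact memLocalIdeal_natCast_iff hM _
  · conv_lhs => rw [h, Int.cast_neg, Int.cast_natCast]
    refine ⟨fun h' => (memLocalIdeal_natCast_iff hM _).1 ?_,
      fun h' => memLocalIdeal_neg ((memLocalIdeal_natCast_iff hM _).2 h')⟩
    simpa using memLocalIdeal_neg h'

/-- A degree of height `k` leaves a `p'`-number after removing `p ^ (d - k)`. -/
theorem exists_cofactor [hp : Fact p.Prime] {H : Type u} [Group H] [Fintype H]
    {B : Set (IrrCharacter H)} {χ : IrrCharacter H} (hχ : χ ∈ B) :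
    ∃ U : ℕ, ¬ p ∣ U ∧ Cfsg.blockHeight p B (χ : H → ℂ) ≤ Cfsg.blockDefect p B ∧
      (Nat.card H : ℂ) / (χ : H → ℂ) 1 =
        (U : ℂ) * (p : ℂ) ^ (Cfsg.blockDefect p B - Cfsg.blockHeight p B (χ : H → ℂ)) := by
  have hd := charDegree_dvd_card χ
  set N := Nat.card H / Cfsg.charDegree (χ : H → ℂ)
  have hN0 : N ≠ 0 := (Nat.div_pos (Nat.le_of_dvd Nat.card_pos hd)
    (Nat.pos_of_ne_zero (charDegree_ne_zero χ))).ne'
  have hv : N.factorization p =
      (Nat.card H).factorization p - (Cfsg.charDegree (χ : H → ℂ)).factorization p := by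
    rw [Nat.factorization_div hd, Finsupp.tsub_apply]
  have hle : sInf ((fun χ : IrrCharacter H => (Cfsg.charDegree (χ : H → ℂ)).factorization p) '' B) ≤
      (Cfsg.charDegree (χ : H → ℂ)).factorization p := Nat.sInf_le ⟨χ, hχ, rfl⟩
  have hup := charDegree_factorization_le (p := p) χ
  have hv' : N.factorization p =
      Cfsg.blockDefect p B - Cfsg.blockHeight p B (χ : H → ℂ) := by
    rw [hv, Cfsg.blockDefect, Cfsg.blockHeight]; omega
  refine ⟨N / p ^ N.factorization p, Nat.not_dvd_ordCompl hp.out hN0, ?_, ?_⟩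
  · rw [Cfsg.blockDefect, Cfsg.blockHeight]; omega
  · rw [← hv', ← charDegree_cast, ← Nat.cast_div hd (Nat.cast_ne_zero.2 (charDegree_ne_zero χ))]
    rw [← Nat.cast_pow, ← Nat.cast_mul, mul_comm, Nat.ordProj_mul_ordCompl_eq_self N p]

theorem form_sum_right {ι : Type*} [Fintype ι] (C : ι → ι → ℤ) (u : ι → ℤ) {κ : Type*}
    (s : Finset κ) (W : κ → ι → ℤ) :
    form C u (fun x => ∑ r ∈ s, W r x) = ∑ r ∈ s, form C u (W r) := by
  simp only [form, Finset.mul_sum, Finset.sum_mul]
  rw [Finset.sum_congr rfl fun x _ => Finset.sum_comm, Finset.sum_comm]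

theorem form_comm {ι : Type*} [Fintype ι] (C : ι → ι → ℤ) (hC : ∀ x y, C x y = C y x)
    (u w : ι → ℤ) : form C u w = form C w u := by
  rw [form, form, Finset.sum_comm]
  exact Finset.sum_congr rfl fun x _ => Finset.sum_congr rfl fun y _ => by rw [hC]; ring

end Arith

variable {M : Ideal AlgInt} [M.IsPrime] {p : ℕ} [hp : Fact p.Prime] {z : G}
  {B : Set (IrrCharacter G)} {b : Set (IrrCharacter ↥(Subgroup.centralizer ({z} : Set G)))}
  [Fintype ↥(Subgroup.centralizer ({z} : Set G))] (D : Data M p z B b)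

local notation "Irrz" => IrrCharacter (Subgroup.centralizer (Singleton.singleton z : Set G))

theorem Data.T_of_not_mem (χ : IrrCharacter G)
    {φ : IrrCharacter ↥(Subgroup.centralizer ({z} : Set G))} (hφ : φ ∉ b) : D.T χ φ = 0 :=
  Finset.sum_eq_zero fun η _ => by simp [D.C_zero η φ fun h => hφ h.2]

theorem Data.T_eq_zero' (hM : Cfsg.IsPModular p M) (hz : ∃ k, orderOf z = p ^ k)
    (hind : Cfsg.IsInducedBlock M (Subgroup.centralizer ({z} : Set G)) b B) {χ : IrrCharacter G}
    (hχ : χ ∉ B) (φ : IrrCharacter ↥(Subgroup.centralizer ({z} : Set G))) : D.T χ φ = 0 := by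
  by_cases hφ : φ ∈ b
  · exact D.T_eq_zero hM hz hind.2.1 hind hχ hφ
  · exact D.T_of_not_mem χ hφ

theorem Data.sum_T' (hM : Cfsg.IsPModular p M) (hb : Cfsg.IsPBlock M b)
    (hz : ∃ k, orderOf z = p ^ k) (φ φ' : IrrCharacter ↥(Subgroup.centralizer ({z} : Set G))) :
    ∑ χ : IrrCharacter G, D.T χ φ * conj (D.T χ φ') = ((p ^ D.d : ℕ) : ℂ) * (D.C φ φ' : ℂ) := by
  by_cases h : φ ∈ b ∧ φ' ∈ b
  · exact D.sum_T hM hb hz h.1 h.2
  · rw [D.C_zero φ φ' h, Int.cast_zero, mul_zero]
    refine Finset.sum_eq_zero fun χ _ => ?_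
    rcases not_and_or.1 h with h' | h'
    · rw [D.T_of_not_mem χ h', zero_mul]
    · rw [D.T_of_not_mem χ h', map_zero, mul_zero]

open Classical in
theorem Data.form_nonneg (w : IrrCharacter ↥(Subgroup.centralizer ({z} : Set G)) → ℤ) :
    0 ≤ form D.C w w := by
  let f : ↥(Subgroup.centralizer ({z} : Set G)) → ℂ := fun h => ∑ x,
    (if x ∈ b then (w x : ℂ) else 0) * (x : ↥(Subgroup.centralizer ({z} : Set G)) → ℂ) h
  have hval : ((form D.C w w : ℤ) : ℂ) = ((p ^ D.d : ℕ) : ℂ) * regInner p f f := by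
    have hr : ∀ x : IrrCharacter ↥(Subgroup.centralizer ({z} : Set G)),
        regInner p (x : ↥(Subgroup.centralizer ({z} : Set G)) → ℂ) f =
        ∑ y : IrrCharacter ↥(Subgroup.centralizer ({z} : Set G)), (if y ∈ b then (w y : ℂ) else 0) *
          regInner p (x : ↥(Subgroup.centralizer ({z} : Set G)) → ℂ)
            (y : ↥(Subgroup.centralizer ({z} : Set G)) → ℂ) := by
      intro x
      simp only [regInner, f, map_sum, map_mul, Finset.mul_sum]
      rw [Finset.sum_comm]
      refine Finset.sum_congr rfl fun h _ => ?_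
      split_ifs
      · simp
      · rw [Finset.mul_sum]
        exact Finset.sum_congr rfl fun y _ => by split_ifs <;> simp; ring
    rw [regInner_sum_left, Finset.mul_sum, form, Int.cast_sum]
    refine Finset.sum_congr rfl fun x _ => ?_
    rw [hr, Finset.mul_sum, Finset.mul_sum, Int.cast_sum]
    refine Finset.sum_congr rfl fun y _ => ?_
    by_cases hxy : x ∈ b ∧ y ∈ b
    · rw [if_pos hxy.1, if_pos hxy.2, Int.cast_mul, Int.cast_mul, D.C_eq x y hxy.1 hxy.2]; ring
    · rw [D.C_zero x y hxy]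
      rcases not_and_or.1 hxy with h | h <;> simp [h]
  have hre : 0 ≤ (((form D.C w w : ℤ) : ℂ)).re := by
    rw [hval, regInner, ← mul_assoc, Finset.mul_sum, Complex.re_sum]
    refine Finset.sum_nonneg fun h _ => ?_
    split_ifs
    · simp
    · rw [Complex.mul_conj, ← Complex.ofReal_natCast, ← Complex.ofReal_natCast,
        ← Complex.ofReal_inv, ← Complex.ofReal_mul, ← Complex.ofReal_mul, Complex.ofReal_re]
      exact mul_nonneg (by positivity) (Complex.normSq_nonneg _)
  rw [Complex.intCast_re] at hre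
  exact_mod_cast hre

/-- The normalized contribution. -/
noncomputable def Data.nS (χ : IrrCharacter G)
    (φ : IrrCharacter ↥(Subgroup.centralizer ({z} : Set G))) : ℂ :=
  (Nat.card G : ℂ) / (((p ^ D.d : ℕ) : ℂ) * (χ : G → ℂ) 1) * D.T χ φ

theorem Data.memLocalRing_nS (hM : Cfsg.IsPModular p M) (hb : Cfsg.IsPBlock M b)
    (hz : ∃ k, orderOf z = p ^ k) (χ : IrrCharacter G)
    (φ : IrrCharacter ↥(Subgroup.centralizer ({z} : Set G))) :
    Cfsg.MemLocalRing M (D.nS χ φ) := by
  classical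
  by_cases hφ : φ ∈ b
  · haveI := Fintype.ofFinite (ConjClasses ↥(Subgroup.centralizer ({z} : Set G)))
    rw [Data.nS, D.sum_classes hM hb hz χ hφ]
    refine Subring.sum_mem (localRing M) fun c _ => ?_
    split_ifs
    · exact Subring.zero_mem _
    · refine Subring.mul_mem (localRing M) (memLocalRing_centralChar χ _) ?_
      rw [← Characters.character_inv (Characters.isCharacter_of_isIrr φ.2)]
      exact memLocalRing_char φ _
  · rw [Data.nS, D.T_of_not_mem χ hφ, mul_zero]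
    exact Subring.zero_mem (localRing M)

theorem Data.nS_congr (hM : Cfsg.IsPModular p M) (hb : Cfsg.IsPBlock M b)
    (hz : ∃ k, orderOf z = p ^ k) (hB : Cfsg.IsPBlock M B) {χ χ' : IrrCharacter G} (hχ : χ ∈ B)
    (hχ' : χ' ∈ B) (φ : IrrCharacter ↥(Subgroup.centralizer ({z} : Set G))) :
    Cfsg.MemLocalIdeal M (D.nS χ φ - D.nS χ' φ) := by
  classical
  by_cases hφ : φ ∈ b
  · have hsame : Cfsg.SameBlock M (χ : G → ℂ) (χ' : G → ℂ) := by
      rw [eq_blockOf_of_mem hB hχ] at hχ'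
      exact hχ'
    haveI := Fintype.ofFinite (ConjClasses ↥(Subgroup.centralizer ({z} : Set G)))
    rw [Data.nS, Data.nS, D.sum_classes hM hb hz χ hφ, D.sum_classes hM hb hz χ' hφ,
      ← Finset.sum_sub_distrib]
    refine memLocalIdeal_sum _ fun c _ => ?_
    split_ifs
    · rw [sub_zero]; exact memLocalIdeal_zero
    · rw [← sub_mul, ← Characters.character_inv (Characters.isCharacter_of_isIrr φ.2)]
      exact memLocalIdeal_mul_right (hsame _) (memLocalRing_char φ _)
  · rw [Data.nS, Data.nS, D.T_of_not_mem χ hφ, D.T_of_not_mem χ' hφ, mul_zero, mul_zero, sub_zero]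
    exact memLocalIdeal_zero

theorem Data.exists_unit (hd : D.d = Cfsg.blockDefect p B) {χ : IrrCharacter G} (hχ : χ ∈ B) :
    ∃ U : ℕ, ¬ p ∣ U ∧ ∀ φ : IrrCharacter ↥(Subgroup.centralizer ({z} : Set G)),
      (p : ℂ) ^ Cfsg.blockHeight p B (χ : G → ℂ) * D.nS χ φ = (U : ℂ) * D.T χ φ := by
  obtain ⟨U, hU, hle, he⟩ := exists_cofactor (p := p) hχ
  refine ⟨U, hU, fun φ => ?_⟩
  have hpc : (p : ℂ) ≠ 0 := Nat.cast_ne_zero.2 hp.out.ne_zero
  have hsplit : (p : ℂ) ^ D.d = (p : ℂ) ^ (D.d - Cfsg.blockHeight p B (χ : G → ℂ)) *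
      (p : ℂ) ^ Cfsg.blockHeight p B (χ : G → ℂ) := by
    rw [← pow_add, Nat.sub_add_cancel (hd ▸ hle)]
  rw [← hd] at he
  rw [Data.nS, Nat.cast_pow, mul_comm ((p : ℂ) ^ D.d), ← div_div, he, hsplit]
  field_simp

theorem Data.memLocalIdeal_zeta_sub (hM : Cfsg.IsPModular p M) (k : ℕ) :
    Cfsg.MemLocalIdeal M (D.ζ ^ k - 1) := by
  have hi : IsIntegral ℤ D.ζ := D.isRoot.isIntegral (pow_pos hp.out.pos _)
  let x : localRing M := ⟨D.ζ ^ k, memLocalRing_of_isIntegral (hi.pow k)⟩
  have hx : x ^ (p ^ (D.e + 1)) = 1 := by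
    refine Subtype.ext ?_
    show (D.ζ ^ k) ^ (p ^ (D.e + 1)) = 1
    rw [← pow_mul, mul_comm, pow_mul, D.isRoot.pow_eq_one, one_pow]
  have hr := red_eq_one_of_pow_eq_one hM hx
  rw [← map_one (red M), red_eq_red_iff] at hr
  simpa [x] using hr

/-- The combination of the contributions along `u`. -/
noncomputable def Data.Tu (χ : IrrCharacter G)
    (u : IrrCharacter ↥(Subgroup.centralizer ({z} : Set G)) → ℤ) : ℂ :=
  ∑ φ : IrrCharacter ↥(Subgroup.centralizer ({z} : Set G)), (u φ : ℂ) * D.T χ φ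

theorem Data.Tu_congr (hM : Cfsg.IsPModular p M) (χ : IrrCharacter G)
    (u : IrrCharacter ↥(Subgroup.centralizer ({z} : Set G)) → ℤ) :
    Cfsg.MemLocalIdeal M (D.Tu χ u - ((form D.C (D.n χ) u : ℤ) : ℂ)) := by
  have e : D.Tu χ u - ((form D.C (D.n χ) u : ℤ) : ℂ) =
      ∑ y, ∑ x, (((u y * D.n χ x * D.C x y : ℤ)) : ℂ) * (D.ζ ^ D.j x - 1) := by
    rw [form, Finset.sum_comm, Int.cast_sum, Data.Tu, ← Finset.sum_sub_distrib]
    refine Finset.sum_congr rfl fun y _ => ?_
    rw [Data.T, Finset.mul_sum, Int.cast_sum, ← Finset.sum_sub_distrib]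
    exact Finset.sum_congr rfl fun x _ => by push_cast; ring
  rw [e]
  exact memLocalIdeal_sum _ fun y _ => memLocalIdeal_sum _ fun x _ =>
    memLocalIdeal_mul_left (memLocalRing_intCast _) (D.memLocalIdeal_zeta_sub hM _)

open Classical in
/-- The indicator vector. -/
noncomputable def single (ξ : IrrCharacter ↥(Subgroup.centralizer ({z} : Set G))) :
    IrrCharacter ↥(Subgroup.centralizer ({z} : Set G)) → ℤ := fun x => if x = ξ then 1 else 0

theorem Data.Tu_single (χ : IrrCharacter G)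
    (ξ : IrrCharacter ↥(Subgroup.centralizer ({z} : Set G))) :
    D.Tu χ (single ξ) = D.T χ ξ := by
  classical
  simp [Data.Tu, single]

theorem form_single (C : IrrCharacter ↥(Subgroup.centralizer ({z} : Set G)) →
    IrrCharacter ↥(Subgroup.centralizer ({z} : Set G)) → ℤ)
    (u : IrrCharacter ↥(Subgroup.centralizer ({z} : Set G)) → ℤ)
    (ξ : IrrCharacter ↥(Subgroup.centralizer ({z} : Set G))) :
    form C u (single ξ) = ∑ x, u x * C x ξ := by
  classical
  simp [form, single]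

open Classical in
/-- Base characters: the form has rank one modulo `p` and its value at a height zero character is
a unit. -/
theorem Data.exists_base (hM : Cfsg.IsPModular p M)
    (hind : Cfsg.IsInducedBlock M (Subgroup.centralizer ({z} : Set G)) b B)
    (hdb : D.d = Cfsg.blockDefect p b) :
    ∃ ξ : IrrCharacter ↥(Subgroup.centralizer ({z} : Set G)), ξ ∈ b ∧ ¬ (p : ℤ) ∣ D.C ξ ξ ∧
      (∀ u w, (p : ℤ) ∣ form D.C u w * D.C ξ ξ -
        form D.C u (single ξ) * form D.C w (single ξ)) ∧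
      ∀ χ ∈ B, Cfsg.blockHeight p B (χ : G → ℂ) = 0 →
        ¬ (p : ℤ) ∣ form D.C (D.n χ) (single ξ) := by
  have hb := hind.1
  obtain ⟨ξ, hξ, hmin, hdef⟩ := exists_minimal (p := p) hb
  refine ⟨ξ, hξ, ?_⟩
  -- the scaling of the rows
  have hrow : ∀ x ∈ b, ∃ U : ℕ, ¬ p ∣ U ∧
      ∀ y ∈ b, (p : ℂ) ^ Cfsg.blockHeight p b (x : _ → ℂ) *
        regSum p (x : ↥(Subgroup.centralizer ({z} : Set G)) → ℂ)
          (y : ↥(Subgroup.centralizer ({z} : Set G)) → ℂ) = (U : ℂ) * (D.C x y : ℂ) := by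
    intro x hx
    obtain ⟨U, hU, hle, he⟩ := exists_cofactor (p := p) hx
    refine ⟨U, hU, fun y hy => ?_⟩
    rw [regSum_eq, D.C_eq x y hx hy, hdb, he, Nat.cast_pow]
    have hsplit : (p : ℂ) ^ Cfsg.blockDefect p b =
        (p : ℂ) ^ (Cfsg.blockDefect p b - Cfsg.blockHeight p b (x : _ → ℂ)) *
          (p : ℂ) ^ Cfsg.blockHeight p b (x : _ → ℂ) := by
      rw [← pow_add, Nat.sub_add_cancel hle]
    rw [hsplit]; ring
  have hh0 : Cfsg.blockHeight p b (ξ : _ → ℂ) = 0 := by
    rw [Cfsg.blockHeight, Nat.sub_eq_zero_iff_le]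
    obtain ⟨φ, hφ, he⟩ := Nat.sInf_mem ((isPBlock_nonempty hb).image
      (fun χ : IrrCharacter ↥(Subgroup.centralizer ({z} : Set G)) =>
        (Cfsg.charDegree (χ : ↥(Subgroup.centralizer ({z} : Set G)) → ℂ)).factorization p))
    rw [← he]
    exact hmin φ hφ
  obtain ⟨U₀, hU₀, hU₀e⟩ := hrow ξ hξ
  simp only [hh0, pow_zero, one_mul] at hU₀e
  have h00 : ¬ (p : ℤ) ∣ D.C ξ ξ := by
    intro h
    refine regSum_not_mem_of_minimal hM hb hξ hmin hξ ?_
    rw [hU₀e ξ hξ]
    exact memLocalIdeal_mul_left (memLocalRing_natCast _) ((memLocalIdeal_intCast_iff hM _).2 h)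
  have hrank : ∀ x y, (p : ℤ) ∣ D.C x y * D.C ξ ξ - D.C x ξ * D.C y ξ := by
    intro x y
    by_cases hxy : x ∈ b ∧ y ∈ b
    swap
    · rw [D.C_zero x y hxy, zero_mul]
      rcases not_and_or.1 hxy with h | h
      · rw [D.C_zero x ξ fun h' => h h'.1]; simp
      · rw [D.C_zero y ξ fun h' => h h'.1]; simp
    obtain ⟨U, hU, hUe⟩ := hrow x hxy.1
    have hsame : Cfsg.SameBlock M (x : ↥(Subgroup.centralizer ({z} : Set G)) → ℂ)
        (ξ : ↥(Subgroup.centralizer ({z} : Set G)) → ℂ) := by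
      have := hξ
      rw [eq_blockOf_of_mem hb hxy.1] at this
      exact this
    set P := (p : ℂ) ^ Cfsg.blockHeight p b (x : _ → ℂ)
    have hP : Cfsg.MemLocalRing M P := Subring.pow_mem (localRing M) (memLocalRing_natCast p) _
    have key : ∀ t ∈ b, Cfsg.MemLocalIdeal M
        ((U : ℂ) * (D.C x t : ℂ) - P * ((U₀ : ℂ) * (D.C ξ t : ℂ))) := fun t ht => by
      rw [← hUe t ht, ← hU₀e t ht, ← mul_sub]
      exact memLocalIdeal_mul_left hP (memLocalIdeal_regSum_sub p hsame t)
    have h1 := memLocalIdeal_sub (memLocalIdeal_mul_right (key y hxy.2)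
      (memLocalRing_intCast (M := M) (D.C ξ ξ))) (memLocalIdeal_mul_right (key ξ hξ)
      (memLocalRing_intCast (M := M) (D.C y ξ)))
    have h2 := memLocalIdeal_mul_left (memLocalRing_natCast_inv hM hU) h1
    rw [← memLocalIdeal_intCast_iff hM]
    convert h2 using 1
    rw [D.C_symm y ξ]
    have : (U : ℂ) ≠ 0 := Nat.cast_ne_zero.2 fun h => hU (h ▸ dvd_zero p)
    push_cast
    field_simp
    ring
  refine ⟨h00, fun u w => ?_, fun χ hχ h0 => ?_⟩
  · have e : form D.C u w * D.C ξ ξ - form D.C u (single ξ) * form D.C w (single ξ) =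
        ∑ x, ∑ y, u x * w y * (D.C x y * D.C ξ ξ - D.C x ξ * D.C y ξ) := by
      rw [form_single, form_single, form, Finset.sum_mul, Finset.sum_mul, ← Finset.sum_sub_distrib]
      refine Finset.sum_congr rfl fun x _ => ?_
      rw [Finset.sum_mul, Finset.mul_sum, ← Finset.sum_sub_distrib]
      exact Finset.sum_congr rfl fun y _ => by ring
    rw [e]
    exact Finset.dvd_sum fun x _ => Finset.dvd_sum fun y _ => (hrank x y).mul_left _
  · intro hdvd
    refine BlocksLocal.regForm_not_mem_of_height_zero hM hind.2.1 hχ hχ h0 ?_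
    have h1 := BlocksLocal.regForm_indFun_congr (p := p) hind hξ hχ χ
    have h2 : BlocksLocal.regForm p
        (Cfsg.indFun (Subgroup.centralizer ({z} : Set G))
          (ξ : ↥(Subgroup.centralizer ({z} : Set G)) → ℂ)) (χ : G → ℂ) =
        (U₀ : ℂ) * ((form D.C (D.n χ) (single ξ) : ℤ) : ℂ) := by
      rw [BlocksLocal.regForm_indFun, form_single, Int.cast_sum, Finset.mul_sum]
      refine Finset.sum_congr rfl fun η _ => ?_
      by_cases hη : η ∈ b
      · have hrs : BlocksLocal.regForm p (ξ : ↥(Subgroup.centralizer ({z} : Set G)) → ℂ)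
            (η : ↥(Subgroup.centralizer ({z} : Set G)) → ℂ) =
            regSum p (ξ : ↥(Subgroup.centralizer ({z} : Set G)) → ℂ)
              (η : ↥(Subgroup.centralizer ({z} : Set G)) → ℂ) := by
          rw [BlocksLocal.regForm, regSum, Finset.sum_div]
          refine Finset.sum_congr rfl fun g _ => ?_
          rw [Characters.character_inv (Characters.isCharacter_of_isIrr η.2), BlocksLocal.regPart]
          split_ifs <;> ring
        rw [hrs, hU₀e η hη, D.n_eq χ η hη, D.C_symm η ξ]; push_cast; ring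
      · rw [D.C_zero η ξ fun h => hη h.1, BlocksLocal.regForm_eq_zero hM fun h => hη ?_]
        · simp
        · rw [eq_blockOf_of_mem hb hξ]; exact h
    have h3 : Cfsg.MemLocalIdeal M ((U₀ : ℂ) * ((form D.C (D.n χ) (single ξ) : ℤ) : ℂ)) :=
      memLocalIdeal_mul_left (memLocalRing_natCast _) ((memLocalIdeal_intCast_iff hM _).2 hdvd)
    rw [← h2] at h3
    have := memLocalIdeal_sub h3 h1
    simpa using this

/-- A unit contribution at a height zero character gives units at every character of the block. -/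
theorem Data.nSu_not_mem (hM : Cfsg.IsPModular p M) (hb : Cfsg.IsPBlock M b)
    (hz : ∃ k, orderOf z = p ^ k) (hB : Cfsg.IsPBlock M B) (hd : D.d = Cfsg.blockDefect p B)
    {χ₀ : IrrCharacter G} (hχ₀ : χ₀ ∈ B) (h0 : Cfsg.blockHeight p B (χ₀ : G → ℂ) = 0)
    {u : IrrCharacter ↥(Subgroup.centralizer ({z} : Set G)) → ℤ}
    (hu : ¬ (p : ℤ) ∣ form D.C (D.n χ₀) u) {χ : IrrCharacter G} (hχ : χ ∈ B) :
    ¬ Cfsg.MemLocalIdeal M (∑ φ, (u φ : ℂ) * D.nS χ φ) := by
  intro h
  refine hu ((memLocalIdeal_intCast_iff hM _).1 ?_)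
  have h1 : Cfsg.MemLocalIdeal M (∑ φ, (u φ : ℂ) * D.nS χ₀ φ) := by
    have h2 : Cfsg.MemLocalIdeal M
        (∑ φ, ((u φ : ℂ) * D.nS χ₀ φ - (u φ : ℂ) * D.nS χ φ)) :=
      memLocalIdeal_sum _ fun φ _ => by
        rw [← mul_sub]
        exact memLocalIdeal_mul_left (memLocalRing_intCast _) (D.nS_congr hM hb hz hB hχ₀ hχ φ)
    rw [Finset.sum_sub_distrib] at h2
    have h3 := memLocalIdeal_add h2 h
    rwa [sub_add_cancel] at h3
  obtain ⟨U, hU, hUe⟩ := D.exists_unit hd hχ₀
  rw [h0] at hUe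
  simp only [pow_zero, one_mul] at hUe
  have h2 : Cfsg.MemLocalIdeal M (D.Tu χ₀ u) := by
    have h3 := memLocalIdeal_mul_left (memLocalRing_natCast_inv hM hU) h1
    simp only [hUe, Finset.mul_sum] at h3
    convert h3 using 1
    refine Finset.sum_congr rfl fun φ _ => ?_
    have : (U : ℂ) ≠ 0 := Nat.cast_ne_zero.2 fun h => hU (h ▸ dvd_zero p)
    field_simp
  have h4 := memLocalIdeal_sub h2 (D.Tu_congr hM χ₀ u)
  simpa using h4

theorem Data.Tu_ne_zero (hM : Cfsg.IsPModular p M) (hb : Cfsg.IsPBlock M b)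
    (hz : ∃ k, orderOf z = p ^ k) (hB : Cfsg.IsPBlock M B) (hd : D.d = Cfsg.blockDefect p B)
    {χ₀ : IrrCharacter G} (hχ₀ : χ₀ ∈ B) (h0 : Cfsg.blockHeight p B (χ₀ : G → ℂ) = 0)
    {u : IrrCharacter ↥(Subgroup.centralizer ({z} : Set G)) → ℤ}
    (hu : ¬ (p : ℤ) ∣ form D.C (D.n χ₀) u) {χ : IrrCharacter G} (hχ : χ ∈ B) :
    D.Tu χ u ≠ 0 := by
  intro hT
  refine D.nSu_not_mem hM hb hz hB hd hχ₀ h0 hu hχ ?_
  obtain ⟨U, -, hUe⟩ := D.exists_unit hd hχ
  have : (p : ℂ) ^ Cfsg.blockHeight p B (χ : G → ℂ) * ∑ φ, (u φ : ℂ) * D.nS χ φ = 0 := by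
    rw [Finset.mul_sum, ← mul_zero (U : ℂ), ← hT, Data.Tu, Finset.mul_sum]
    exact Finset.sum_congr rfl fun φ _ => by rw [mul_left_comm, hUe]; ring
  rcases mul_eq_zero.1 this with h | h
  · exact absurd h (pow_ne_zero _ (Nat.cast_ne_zero.2 hp.out.ne_zero))
  · rw [h]; exact memLocalIdeal_zero

/-- The averaged value of an integral form at a character. -/
noncomputable def Data.avg (C' : IrrCharacter ↥(Subgroup.centralizer ({z} : Set G)) →
    IrrCharacter ↥(Subgroup.centralizer ({z} : Set G)) → ℤ) (χ : IrrCharacter G) : ℤ :=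
  ∑ x, ∑ y, D.n χ x * D.n χ y * C' x y * tau p D.e (shift p D.e (D.j x) (D.j y))

theorem Data.zeta_shift (x y : IrrCharacter ↥(Subgroup.centralizer ({z} : Set G))) :
    D.ζ ^ shift p D.e (D.j x) (D.j y) = D.ζ ^ D.j x * conj (D.ζ ^ D.j y) := by
  rw [D.conj_zeta_pow _ (D.j_lt y).le, shift, pow_add]

open Classical in
theorem Data.sum_avg (C' : IrrCharacter ↥(Subgroup.centralizer ({z} : Set G)) →
    IrrCharacter ↥(Subgroup.centralizer ({z} : Set G)) → ℤ) (N : ℤ)
    (h : ∑ χ ∈ B.toFinset, ∑ x, ∑ y, ((D.n χ x * D.n χ y * C' x y : ℤ) : ℂ) *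
      (D.ζ ^ D.j x * conj (D.ζ ^ D.j y)) = (N : ℂ)) :
    ∑ χ ∈ B.toFinset, D.avg C' χ = ((p : ℤ) - 1) * N := by
  let S := B.toFinset ×ˢ ((Finset.univ :
    Finset (IrrCharacter ↥(Subgroup.centralizer ({z} : Set G)))) ×ˢ (Finset.univ :
    Finset (IrrCharacter ↥(Subgroup.centralizer ({z} : Set G)))))
  let a : IrrCharacter G × IrrCharacter ↥(Subgroup.centralizer ({z} : Set G)) ×
      IrrCharacter ↥(Subgroup.centralizer ({z} : Set G)) → ℤ := fun t =>
    D.n t.1 t.2.1 * D.n t.1 t.2.2 * C' t.2.1 t.2.2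
  let k : IrrCharacter G × IrrCharacter ↥(Subgroup.centralizer ({z} : Set G)) ×
      IrrCharacter ↥(Subgroup.centralizer ({z} : Set G)) → ℕ := fun t =>
    shift p D.e (D.j t.2.1) (D.j t.2.2)
  have h1 : ∑ t ∈ S, (a t : ℂ) * D.ζ ^ k t = (N : ℂ) := by
    rw [← h, Finset.sum_product]
    refine Finset.sum_congr rfl fun χ _ => ?_
    rw [Finset.sum_product]
    exact Finset.sum_congr rfl fun x _ => Finset.sum_congr rfl fun y _ => by
      simp only [a, k, D.zeta_shift]
  have h2 := sum_tau_eq hp.out D.isRoot S a k N h1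
  rw [Finset.sum_product] at h2
  rw [← h2]
  refine Finset.sum_congr rfl fun χ _ => ?_
  rw [Finset.sum_product]
  rfl

open Classical in
/-- The averages of the form itself add up to the rank. -/
theorem Data.sum_avg_C (hM : Cfsg.IsPModular p M) (hz : ∃ k, orderOf z = p ^ k)
    (hind : Cfsg.IsInducedBlock M (Subgroup.centralizer ({z} : Set G)) b B) :
    ∑ χ ∈ B.toFinset, D.avg D.C χ =
      ((p : ℤ) - 1) * ((p : ℤ) ^ D.d * (Cfsg.blockRank p b : ℤ)) := by
  refine D.sum_avg D.C _ ?_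
  rw [show (((p : ℤ) ^ D.d * (Cfsg.blockRank p b : ℤ) : ℤ) : ℂ) =
    ((p ^ D.d : ℕ) : ℂ) * (Cfsg.blockRank p b : ℂ) by push_cast; ring,
    ← D.sum_diag hM hind.1 hz]
  refine (Finset.sum_congr rfl fun χ _ => ?_).trans
    (Finset.sum_subset (Finset.subset_univ _) fun χ _ hχ => ?_)
  · rw [Finset.sum_comm]
    refine Finset.sum_congr rfl fun y _ => ?_
    rw [Data.T, Finset.mul_sum]
    exact Finset.sum_congr rfl fun x _ => by
      rw [map_mul, map_intCast]; push_cast; ring
  · refine Finset.sum_eq_zero fun φ _ => ?_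
    rw [D.T_eq_zero' hM hz hind (fun h => hχ (Set.mem_toFinset.2 h)), mul_zero]

/-- The rank one form through `u`. -/
noncomputable def Data.proj (u : IrrCharacter ↥(Subgroup.centralizer ({z} : Set G)) → ℤ) :
    IrrCharacter ↥(Subgroup.centralizer ({z} : Set G)) →
      IrrCharacter ↥(Subgroup.centralizer ({z} : Set G)) → ℤ :=
  fun x y => (∑ t, D.C x t * u t) * (∑ t, D.C y t * u t)

theorem Data.Tu_eq (χ : IrrCharacter G)
    (u : IrrCharacter ↥(Subgroup.centralizer ({z} : Set G)) → ℤ) :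
    D.Tu χ u = ∑ x, ((D.n χ x * ∑ t, D.C x t * u t : ℤ) : ℂ) * D.ζ ^ D.j x := by
  simp only [Data.Tu, Data.T, Finset.mul_sum, Int.cast_sum, Finset.sum_mul]
  rw [Finset.sum_comm]
  exact Finset.sum_congr rfl fun x _ => Finset.sum_congr rfl fun y _ => by push_cast; ring

open Classical in
theorem Data.sum_avg_proj (hM : Cfsg.IsPModular p M) (hz : ∃ k, orderOf z = p ^ k)
    (hind : Cfsg.IsInducedBlock M (Subgroup.centralizer ({z} : Set G)) b B)
    (u : IrrCharacter ↥(Subgroup.centralizer ({z} : Set G)) → ℤ) :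
    ∑ χ ∈ B.toFinset, D.avg (D.proj u) χ =
      ((p : ℤ) - 1) * ((p : ℤ) ^ D.d * form D.C u u) := by
  refine D.sum_avg _ _ ?_
  have h1 : ∑ χ ∈ B.toFinset, D.Tu χ u * conj (D.Tu χ u) =
      ((p ^ D.d : ℕ) : ℂ) * ((form D.C u u : ℤ) : ℂ) := by
    have h2 : ∑ χ : IrrCharacter G, D.Tu χ u * conj (D.Tu χ u) =
        ((p ^ D.d : ℕ) : ℂ) * ((form D.C u u : ℤ) : ℂ) := by
      simp only [Data.Tu, map_sum, map_mul, map_intCast, form, Int.cast_sum, Finset.sum_mul]
      simp only [Finset.mul_sum]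
      rw [Finset.sum_comm]
      refine Finset.sum_congr rfl fun x _ => ?_
      rw [Finset.sum_comm]
      refine Finset.sum_congr rfl fun y _ => ?_
      calc ∑ χ : IrrCharacter G, (u x : ℂ) * D.T χ x * ((u y : ℂ) * conj (D.T χ y))
          = (u x : ℂ) * (u y : ℂ) * ∑ χ : IrrCharacter G, D.T χ x * conj (D.T χ y) := by
            rw [Finset.mul_sum]; exact Finset.sum_congr rfl fun χ _ => by ring
        _ = _ := by rw [D.sum_T' hM hind.1 hz]; push_cast; ring
    rw [← h2]
    refine Finset.sum_subset (Finset.subset_univ _) fun χ _ hχ => ?_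
    rw [Data.Tu, Finset.sum_eq_zero fun φ _ => by
      rw [D.T_eq_zero' hM hz hind (fun h => hχ (Set.mem_toFinset.2 h)), mul_zero], zero_mul]
  rw [show (((p : ℤ) ^ D.d * form D.C u u : ℤ) : ℂ) =
    ((p ^ D.d : ℕ) : ℂ) * ((form D.C u u : ℤ) : ℂ) by push_cast; ring, ← h1]
  refine Finset.sum_congr rfl fun χ _ => ?_
  rw [D.Tu_eq, map_sum, Finset.sum_mul_sum]
  refine Finset.sum_congr rfl fun x _ => Finset.sum_congr rfl fun y _ => ?_
  rw [Data.proj, map_mul, map_intCast]
  push_cast; ring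

theorem form_proj (u w : IrrCharacter ↥(Subgroup.centralizer ({z} : Set G)) → ℤ) :
    form (D.proj u) w w = form D.C w u ^ 2 := by
  have e : form D.C w u = ∑ x, w x * ∑ t, D.C x t * u t := by
    simp only [form, Finset.mul_sum]
    exact Finset.sum_congr rfl fun x _ => Finset.sum_congr rfl fun y _ => by ring
  rw [sq, e, form, Finset.sum_mul_sum]
  exact Finset.sum_congr rfl fun x _ => Finset.sum_congr rfl fun y _ => by
    simp only [Data.proj]; ring

open Classical in
/-- The number of characters in a block with a major subsection of rank at most two. -/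
theorem card_le_of_rank_le_two (hM : Cfsg.IsPModular p M) (hz : ∃ k, orderOf z = p ^ k)
    (hind : Cfsg.IsInducedBlock M (Subgroup.centralizer ({z} : Set G)) b B)
    (hd : Cfsg.blockDefect p b = Cfsg.blockDefect p B) (hl : Cfsg.blockRank p b ≤ 2) :
    Nat.card B ≤ p ^ Cfsg.blockDefect p B := by
  obtain ⟨D, hD⟩ := exists_data (M := M) (B := B) hz hd
  have hB := hind.2.1
  obtain ⟨ξ, hξ, h00, hrank, hK⟩ := D.exists_base hM hind (hD.trans hd.symm)
  obtain ⟨χ₀, hχ₀, h0⟩ := Blocks.exists_height_zero (p := p) hM hB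
  have hp1 : (0 : ℤ) < (p : ℤ) - 1 := by have := hp.out.two_le; omega
  have hcard : (Nat.card B : ℤ) = (B.toFinset.card : ℤ) := by
    rw [Set.toFinset_card, Nat.card_eq_fintype_card]
  rw [← hD]
  zify
  rw [hcard]
  by_cases h1 : ∃ u, form D.C u u = 1
  · obtain ⟨u, hu⟩ := h1
    have hu' : ¬ (p : ℤ) ∣ form D.C (D.n χ₀) u := by
      intro h
      have hpp : Prime (p : ℤ) := Nat.prime_iff_prime_int.1 hp.out
      have hfu : ¬ (p : ℤ) ∣ form D.C u (single ξ) := by
        intro h'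
        have := dvd_add (hrank u u) (dvd_mul_of_dvd_left h' (form D.C u (single ξ)))
        rw [sub_add_cancel, hu, one_mul] at this
        exact h00 this
      have := dvd_sub (dvd_mul_of_dvd_left h (D.C ξ ξ)) (hrank (D.n χ₀) u)
      rw [sub_sub_cancel] at this
      rcases hpp.dvd_or_dvd this with h' | h'
      · exact hK χ₀ hχ₀ h0 h'
      · exact hfu h'
    have hb1 : ∀ χ ∈ B.toFinset, ((p : ℤ) - 1) * 1 ≤ D.avg (D.proj u) χ := by
      intro χ hχ
      refine le_sum_tau_form hp.out D.isRoot (D.proj u) (fun x y => mul_comm _ _) (fun w => ?_) 1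
        (fun w => ?_) _ _ D.j_lt ?_
      · rw [form_proj]; exact sq_nonneg _
      · rw [form_proj]
        by_cases hw : form D.C w u = 0
        · exact Or.inl (by rw [hw]; rfl)
        · exact Or.inr (Int.add_one_le_iff.2 (sq_pos_iff.2 hw))
      · have hne := D.Tu_ne_zero hM hind.1 hz hB hD hχ₀ h0 hu' (Set.mem_toFinset.1 hχ)
        obtain ⟨y, hy⟩ : ∃ y, (∑ t, D.C y t * u t) ≠ 0 := by
          by_contra hcon
          push Not at hcon
          have : form D.C u u = 0 := by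
            rw [form]
            refine Finset.sum_eq_zero fun x _ => ?_
            rw [← mul_zero (u x), ← hcon x, Finset.mul_sum]
            exact Finset.sum_congr rfl fun y _ => by ring
          omega
        refine ⟨y, fun hsum => hne ?_⟩
        have h2 : D.Tu χ u * ((∑ t, D.C y t * u t : ℤ) : ℂ) = 0 := by
          rw [← hsum, D.Tu_eq, Finset.sum_mul]
          exact Finset.sum_congr rfl fun x _ => by simp only [Data.proj]; push_cast; ring
        exact (mul_eq_zero.1 h2).resolve_right (Int.cast_ne_zero.2 hy)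
    have h2 := Finset.card_nsmul_le_sum _ _ _ hb1
    rw [D.sum_avg_proj hM hz hind u, hu, nsmul_eq_mul] at h2
    nlinarith
  · push Not at h1
    have hb1 : ∀ χ ∈ B.toFinset, ((p : ℤ) - 1) * 2 ≤ D.avg D.C χ := by
      intro χ hχ
      refine le_sum_tau_form hp.out D.isRoot _ D.C_symm D.form_nonneg 2 (fun w => ?_) _ _ D.j_lt ?_
      · have := D.form_nonneg w
        have := h1 w
        omega
      · refine ⟨ξ, ?_⟩
        have := D.Tu_ne_zero hM hind.1 hz hB hD hχ₀ h0 (hK χ₀ hχ₀ h0) (Set.mem_toFinset.1 hχ)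
        rwa [D.Tu_single] at this
    have h2 := Finset.card_nsmul_le_sum _ _ _ hb1
    rw [D.sum_avg_C hM hz hind, nsmul_eq_mul] at h2
    have h3 : ((p : ℤ) ^ D.d) * (Cfsg.blockRank p b : ℤ) ≤ (p : ℤ) ^ D.d * 2 :=
      mul_le_mul_of_nonneg_left (by exact_mod_cast hl) (by positivity)
    nlinarith

end CfsgLib.MajorSubsection
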