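import Cfsg.Agent.BlockPairing.Subsections
import Cfsg.Agent.BlockPairing.CycloAverage
import Cfsg.Agent.BlocksLocal.RegularForm
import Cfsg.Agent.Blocks.HeightZero
import Mathlib.RingTheory.RootsOfUnity.Complex

/-!
# Major subsections

For a block `b` of `C(z)` inducing `B` with the same defect, the contributions of `(z, b)` are
Hermitian values of the integral form `p ^ d [η, φ]°` of `b`; none of them vanishes, which bounds
the number of characters of `B`.
-/

set_option autoImplicit false
set_option linter.unusedSectionVars false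
set_option linter.style.haveILetI false

namespace CfsgLib.MajorSubsection

open CfsgLib.Blocks CfsgLib.BlockPairing CfsgLib.CycloAverage Cfsg
open scoped ComplexConjugate

universe u

variable {G : Type u} [Group G] [Fintype G]

/-- The data attached to a subsection. -/
structure Data (M : Ideal AlgInt) (p : ℕ) (z : G) (B : Set (IrrCharacter G))
    (b : Set (IrrCharacter ↥(Subgroup.centralizer ({z} : Set G))))
    [Fintype ↥(Subgroup.centralizer ({z} : Set G))] where
  /-- the defect -/
  d : ℕ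
  /-- `p ^ (e + 1)` is a multiple of the order of `z` -/
  e : ℕ
  /-- the root of unity -/
  ζ : ℂ
  isRoot : IsPrimitiveRoot ζ (p ^ (e + 1))
  /-- multiplicities -/
  n : IrrCharacter G → IrrCharacter ↥(Subgroup.centralizer ({z} : Set G)) → ℤ
  /-- exponents of the scalars of `z` -/
  j : IrrCharacter ↥(Subgroup.centralizer ({z} : Set G)) → ℕ
  j_lt : ∀ η, j η < p ^ (e + 1)
  translate : ∀ (η : IrrCharacter ↥(Subgroup.centralizer ({z} : Set G)))
    (h : ↥(Subgroup.centralizer ({z} : Set G))),
    (η : ↥(Subgroup.centralizer ({z} : Set G)) → ℂ) (⟨z, Subgroup.mem_centralizer_singleton_iff.2 rfl⟩ * h) = ζ ^ j η * (η : ↥(Subgroup.centralizer ({z} : Set G)) → ℂ) h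
  n_eq : ∀ (χ : IrrCharacter G) (η : IrrCharacter ↥(Subgroup.centralizer ({z} : Set G))),
    η ∈ b →
    Cfsg.classInner (fun h : ↥(Subgroup.centralizer ({z} : Set G)) => (χ : G → ℂ) h) (η : ↥(Subgroup.centralizer ({z} : Set G)) → ℂ) =
      (n χ η : ℂ)
  n_zero : ∀ χ η, η ∉ b → n χ η = 0
  /-- the form of `b` -/
  C : IrrCharacter ↥(Subgroup.centralizer ({z} : Set G)) →
    IrrCharacter ↥(Subgroup.centralizer ({z} : Set G)) → ℤ
  C_eq : ∀ (η φ : IrrCharacter ↥(Subgroup.centralizer ({z} : Set G))),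
    η ∈ b → φ ∈ b →
    (C η φ : ℂ) = ((p ^ d : ℕ) : ℂ) * regInner p (η : ↥(Subgroup.centralizer ({z} : Set G)) → ℂ) (φ : ↥(Subgroup.centralizer ({z} : Set G)) → ℂ)
  C_zero : ∀ η φ, ¬ (η ∈ b ∧ φ ∈ b) → C η φ = 0

variable {M : Ideal AlgInt} [M.IsPrime] {p : ℕ} [hp : Fact p.Prime] {z : G}
  {B : Set (IrrCharacter G)} {b : Set (IrrCharacter ↥(Subgroup.centralizer ({z} : Set G)))}
  [Fintype ↥(Subgroup.centralizer ({z} : Set G))]

/-- The contribution pairing with the restriction of `φ`. -/
noncomputable def Data.T (D : Data M p z B b) (χ : IrrCharacter G)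
    (φ : IrrCharacter ↥(Subgroup.centralizer ({z} : Set G))) : ℂ :=
  ∑ η : IrrCharacter ↥(Subgroup.centralizer ({z} : Set G)),
    (D.n χ η : ℂ) * (D.C η φ : ℂ) * D.ζ ^ D.j η

theorem exists_data (hz : ∃ k, orderOf z = p ^ k)
    (hd : Cfsg.blockDefect p b = Cfsg.blockDefect p B) :
    ∃ D : Data M p z B b, D.d = Cfsg.blockDefect p B := by
  classical
  obtain ⟨e, he⟩ := hz
  set q := p ^ (e + 1)
  have hq : 0 < q := pow_pos hp.out.pos _
  haveI : NeZero q := ⟨hq.ne'⟩
  obtain ⟨ζ, hζ⟩ : ∃ ζ : ℂ, IsPrimitiveRoot ζ q := ⟨_, Complex.isPrimitiveRoot_exp q hq.ne'⟩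
  let zH : ↥(Subgroup.centralizer ({z} : Set G)) :=
    ⟨z, Subgroup.mem_centralizer_singleton_iff.2 rfl⟩
  have hj : ∀ η : IrrCharacter ↥(Subgroup.centralizer ({z} : Set G)), ∃ i < q,
      ∀ h, (η : ↥(Subgroup.centralizer ({z} : Set G)) → ℂ) (zH * h) = ζ ^ i * (η : ↥(Subgroup.centralizer ({z} : Set G)) → ℂ) h := by
    intro η
    obtain ⟨m, ρ, hρ, hη⟩ := η.2
    haveI := hρ
    have hzc : zH ∈ Subgroup.center ↥(Subgroup.centralizer ({z} : Set G)) :=
      Subgroup.mem_center_iff.2 fun g => Subtype.ext (Subgroup.mem_centralizer_singleton_iff.1 g.2)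
    obtain ⟨c, hc⟩ := Characters.central_scalar ρ hzc
    have hval : ∀ h, (η : ↥(Subgroup.centralizer ({z} : Set G)) → ℂ) (zH * h) = c * (η : ↥(Subgroup.centralizer ({z} : Set G)) → ℂ) h := by
      intro h
      rw [← hη, Representation.character, Representation.character, map_mul, hc, smul_mul_assoc,
        map_smul, smul_eq_mul, ← Module.End.one_eq_id, one_mul]
    have hpow : ∀ k : ℕ, (η : ↥(Subgroup.centralizer ({z} : Set G)) → ℂ) (zH ^ k) = c ^ k * (η : ↥(Subgroup.centralizer ({z} : Set G)) → ℂ) 1 := by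
      intro k
      induction k with
      | zero => simp
      | succ k ih => rw [pow_succ', hval, ih]; ring
    have hc1 : c ^ q = 1 := by
      have hzq : zH ^ q = 1 := Subtype.ext (by
        rw [SubgroupClass.coe_pow, OneMemClass.coe_one]
        exact orderOf_dvd_iff_pow_eq_one.1 (he ▸ pow_dvd_pow p (Nat.le_succ e)))
      have h1 := hpow q
      rw [hzq] at h1
      exact (mul_eq_right₀ (Characters.irr_one_ne_zero η.2)).1 h1.symm
    obtain ⟨i, hi, rfl⟩ := hζ.eq_pow_of_pow_eq_one hc1
    exact ⟨i, hi, hval⟩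
  choose j hjlt hjv using hj
  have hn : ∀ (χ : IrrCharacter G) (η : IrrCharacter ↥(Subgroup.centralizer ({z} : Set G))),
      ∃ m : ℕ, Cfsg.classInner (fun h : ↥(Subgroup.centralizer ({z} : Set G)) => (χ : G → ℂ) h)
        (η : ↥(Subgroup.centralizer ({z} : Set G)) → ℂ) = m := fun χ η =>
    Characters.classInner_character_irr
      (Characters.isCharacter_restrict _ (Characters.isCharacter_of_isIrr χ.2)) η.2
  choose m hm using hn
  have hC : ∀ η φ : IrrCharacter ↥(Subgroup.centralizer ({z} : Set G)), ∃ c : ℤ, η ∈ b →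
      ((p ^ Cfsg.blockDefect p B : ℕ) : ℂ) * regInner p (η : ↥(Subgroup.centralizer ({z} : Set G)) → ℂ) (φ : ↥(Subgroup.centralizer ({z} : Set G)) → ℂ) = c := by
    intro η φ
    by_cases h : η ∈ b
    · obtain ⟨c, hc⟩ := exists_int_pow_defect (p := p) h φ
      exact ⟨c, fun _ => hd ▸ hc⟩
    · exact ⟨0, fun h' => absurd h' h⟩
  choose C hC using hC
  exact ⟨{
    d := Cfsg.blockDefect p B
    e := e
    ζ := ζ
    isRoot := hζ
    n := fun χ η => if η ∈ b then (m χ η : ℤ) else 0
    j := j
    j_lt := hjlt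
    translate := hjv
    n_eq := fun χ η h => by rw [if_pos h, hm]; simp
    n_zero := fun χ η h => if_neg h
    C := fun η φ => if η ∈ b ∧ φ ∈ b then C η φ else 0
    C_eq := fun η φ h h' => by rw [if_pos ⟨h, h'⟩]; exact (hC η φ h).symm
    C_zero := fun η φ h => if_neg h }, rfl⟩

variable (D : Data M p z B b)

theorem Data.C_symm (η φ : IrrCharacter ↥(Subgroup.centralizer ({z} : Set G))) :
    D.C η φ = D.C φ η := by
  by_cases h : η ∈ b ∧ φ ∈ b
  · apply Int.cast_injective (α := ℂ)
    rw [D.C_eq η φ h.1 h.2, D.C_eq φ η h.2 h.1, regInner_symm]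
  · rw [D.C_zero η φ h, D.C_zero φ η fun h' => h ⟨h'.2, h'.1⟩]

theorem Data.conj_zeta_pow (k : ℕ) (hk : k ≤ p ^ (D.e + 1)) :
    conj (D.ζ ^ k) = D.ζ ^ (p ^ (D.e + 1) - k) := by
  have hn : ‖D.ζ ^ k‖ = 1 := by
    rw [norm_pow, D.isRoot.norm'_eq_one (pow_ne_zero _ hp.out.ne_zero), one_pow]
  rw [← Complex.inv_eq_conj hn, eq_comm]
  refine eq_inv_of_mul_eq_one_left ?_
  rw [← pow_add, Nat.sub_add_cancel hk, D.isRoot.pow_eq_one]

/-- A form with integral entries from class functions. -/
theorem regInner_sum_left {H : Type u} [Group H] [Fintype H] (p : ℕ) {ι : Type*} (s : Finset ι)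
    (c : ι → ℂ) (f : ι → H → ℂ) (g : H → ℂ) :
    regInner p (fun h => ∑ x ∈ s, c x * f x h) g = ∑ x ∈ s, c x * regInner p (f x) g := by
  simp only [regInner, Finset.mul_sum]
  rw [Finset.sum_comm]
  refine Finset.sum_congr rfl fun h _ => ?_
  split_ifs
  · simp
  · rw [Finset.sum_mul, Finset.mul_sum]
    exact Finset.sum_congr rfl fun x _ => by ring

theorem regInner_eq_zero_of_not_mem (hM : Cfsg.IsPModular p M) {H : Type u} [Group H] [Fintype H]
    {b' : Set (IrrCharacter H)} (hb' : Cfsg.IsPBlock M b') {η φ : IrrCharacter H} (hη : η ∉ b')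
    (hφ : φ ∈ b') : regInner p (η : H → ℂ) (φ : H → ℂ) = 0 := by
  have h : ¬ Cfsg.SameBlock M (η : H → ℂ) (φ : H → ℂ) := fun h =>
    hη (by rw [eq_blockOf_of_mem hb' hφ]; exact sameBlock_symm h)
  rw [← classInner_pRegularPart]
  refine Eq.trans ?_ (BlocksLocal.classInner_regPart_eq_zero hM h)
  congr 1
  funext x
  rw [pRegularPart_apply]
  rfl

/-- `T χ φ` is the pairing of `h ↦ χ (z h)` with `φ`. -/
theorem Data.T_eq (hM : Cfsg.IsPModular p M) (hb : Cfsg.IsPBlock M b) (χ : IrrCharacter G)
    {φ : IrrCharacter ↥(Subgroup.centralizer ({z} : Set G))} (hφ : φ ∈ b) :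
    D.T χ φ = ((p ^ D.d : ℕ) : ℂ) *
      regInner p (fun h : ↥(Subgroup.centralizer ({z} : Set G)) => (χ : G → ℂ) (z * (h : G)))
        (φ : ↥(Subgroup.centralizer ({z} : Set G)) → ℂ) := by
  classical
  have hexp : (fun h : ↥(Subgroup.centralizer ({z} : Set G)) => (χ : G → ℂ) (z * (h : G))) =
      fun h => ∑ η : IrrCharacter ↥(Subgroup.centralizer ({z} : Set G)),
        (Cfsg.classInner (fun k : ↥(Subgroup.centralizer ({z} : Set G)) => (χ : G → ℂ) k)
          (η : ↥(Subgroup.centralizer ({z} : Set G)) → ℂ) * D.ζ ^ D.j η) * (η : ↥(Subgroup.centralizer ({z} : Set G)) → ℂ) h := by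
    funext h
    have h1 := congrFun (Characters.classFunction_expansion (G := ↥(Subgroup.centralizer ({z} : Set G)))
      (θ := fun k : ↥(Subgroup.centralizer ({z} : Set G)) => (χ : G → ℂ) k) (fun a c => by
        simpa using Characters.isClassFunction_of_isIrr χ.2 (a : G) (c : G)))
      (⟨z, Subgroup.mem_centralizer_singleton_iff.2 rfl⟩ * h)
    simp only [Finset.sum_apply, Pi.smul_apply, smul_eq_mul, Subgroup.coe_mul] at h1
    rw [h1]
    exact Finset.sum_congr rfl fun η _ => by rw [D.translate]; ring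
  rw [hexp, regInner_sum_left, Data.T, Finset.mul_sum]
  refine Finset.sum_congr rfl fun η _ => ?_
  by_cases hη : η ∈ b
  · rw [D.n_eq χ η hη, D.C_eq η φ hη hφ]; ring
  · rw [D.n_zero χ η hη, regInner_eq_zero_of_not_mem hM hb hη hφ]; simp

open Classical in
theorem Data.T_eq_zero (hM : Cfsg.IsPModular p M) (hz : ∃ k, orderOf z = p ^ k)
    (hB : Cfsg.IsPBlock M B)
    (hind : Cfsg.IsInducedBlock M (Subgroup.centralizer ({z} : Set G)) b B) {χ : IrrCharacter G}
    (hχ : χ ∉ B) {φ : IrrCharacter ↥(Subgroup.centralizer ({z} : Set G))} (hφ : φ ∈ b) :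
    D.T χ φ = 0 := by
  have hb := hind.1
  set f := fun h : ↥(Subgroup.centralizer ({z} : Set G)) => (χ : G → ℂ) (z * (h : G)) with hf
  have hfc : Cfsg.IsClassFunction ↥(Subgroup.centralizer ({z} : Set G)) f :=
    isClassFunction_translate _ (Characters.isClassFunction_of_isIrr χ.2) z
  obtain ⟨χ', hχ'⟩ := isPBlock_nonempty hB
  have hBu := isBlockUnion_of_isPBlock hB
  have hvan : ∀ y : ↥(Subgroup.centralizer ({z} : Set G)), ¬ p ∣ orderOf y →
      ∑ η : IrrCharacter ↥(Subgroup.centralizer ({z} : Set G)),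
        (if η ∈ b then Cfsg.classInner f (η : ↥(Subgroup.centralizer ({z} : Set G)) → ℂ) * (η : ↥(Subgroup.centralizer ({z} : Set G)) → ℂ) y else 0) = 0 := by
    intro y hy
    have h1 : Cfsg.blockPart b f y = 0 := by
      rw [hf, blockPart_translate _ (Characters.isClassFunction_of_isIrr χ.2)]
      refine second_main hM (h := ⟨z, Subgroup.mem_centralizer_singleton_iff.2 rfl⟩ * y)
        (fun w hw => hC_of_mul hz hy le_rfl w hw) (isBlockUnion_of_isPBlock hb)
        (isBlockUnion_compl hBu) (fun ξ hξ => ?_) hχ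
      have h1 : omegaBar M ξ (resCtr _ (idemBar M B hBu)) +
          omegaBar M ξ (resCtr _ (idemBar M Bᶜ (isBlockUnion_compl hBu))) = 1 := by
        rw [← map_add, ← map_add, idemBar_add_compl, resCtr_one, map_one]
      rw [(isInducedBlock_iff _ hb hB hξ hχ').1 hind (idemBar M B hBu), omegaBar_idemBar,
        if_pos hχ'] at h1
      linear_combination h1
    rw [Cfsg.blockPart, finsum_irr_mem,
      show (Fintype.ofFinite ↥(Subgroup.centralizer ({z} : Set G))) =
        ‹Fintype ↥(Subgroup.centralizer ({z} : Set G))› from Subsingleton.elim _ _] at h1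
    exact h1
  have hall : regInner p f (φ : ↥(Subgroup.centralizer ({z} : Set G)) → ℂ) =
      ∑ η : IrrCharacter ↥(Subgroup.centralizer ({z} : Set G)),
        (if η ∈ b then Cfsg.classInner f (η : ↥(Subgroup.centralizer ({z} : Set G)) → ℂ) * regInner p (η : ↥(Subgroup.centralizer ({z} : Set G)) → ℂ) (φ : ↥(Subgroup.centralizer ({z} : Set G)) → ℂ) else 0) := by
    have hexp : f = fun h => ∑ η : IrrCharacter ↥(Subgroup.centralizer ({z} : Set G)),
        Cfsg.classInner f (η : ↥(Subgroup.centralizer ({z} : Set G)) → ℂ) * (η : ↥(Subgroup.centralizer ({z} : Set G)) → ℂ) h := by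
      funext h
      have := congrFun (Characters.classFunction_expansion hfc) h
      simpa [Finset.sum_apply] using this
    conv_lhs => rw [hexp, regInner_sum_left]
    refine Finset.sum_congr rfl fun η _ => ?_
    split_ifs with h
    · rfl
    · rw [regInner_eq_zero_of_not_mem hM hb h hφ, mul_zero]
  rw [D.T_eq hM hb χ hφ, mul_eq_zero]
  right
  rw [hall]
  simp only [regInner, Finset.mul_sum]
  have hrw : ∀ η : IrrCharacter ↥(Subgroup.centralizer ({z} : Set G)),
      (if η ∈ b then ∑ g, Cfsg.classInner f (η : ↥(Subgroup.centralizer ({z} : Set G)) → ℂ) *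
        ((Nat.card ↥(Subgroup.centralizer ({z} : Set G)) : ℂ)⁻¹ *
          if p ∣ orderOf g then 0 else (η : ↥(Subgroup.centralizer ({z} : Set G)) → ℂ) g * conj ((φ : ↥(Subgroup.centralizer ({z} : Set G)) → ℂ) g)) else 0) =
      ∑ g, if p ∣ orderOf g then 0 else
        ((Nat.card ↥(Subgroup.centralizer ({z} : Set G)) : ℂ)⁻¹ * conj ((φ : ↥(Subgroup.centralizer ({z} : Set G)) → ℂ) g)) *
          (if η ∈ b then Cfsg.classInner f (η : ↥(Subgroup.centralizer ({z} : Set G)) → ℂ) * (η : ↥(Subgroup.centralizer ({z} : Set G)) → ℂ) g else 0) := by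
    intro η
    by_cases h : η ∈ b
    · simp only [if_pos h]
      exact Finset.sum_congr rfl fun g _ => by split_ifs <;> ring
    · simp [h]
  simp only [hrw]
  rw [Finset.sum_comm]
  refine Finset.sum_eq_zero fun g _ => ?_
  by_cases hg : p ∣ orderOf g
  · simp [hg]
  · simp only [if_neg hg, ← Finset.mul_sum, hvan g hg, mul_zero]

/-- Column orthogonality on the section of `z`. -/
theorem sum_irr_section (hz : ∃ k, orderOf z = p ^ k)
    {h k : ↥(Subgroup.centralizer ({z} : Set G))} (hh : ¬ p ∣ orderOf h) (hk : ¬ p ∣ orderOf k) :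
    ∑ χ : IrrCharacter G, (χ : G → ℂ) (z * (h : G)) * conj ((χ : G → ℂ) (z * (k : G))) =
      ∑ η : IrrCharacter ↥(Subgroup.centralizer ({z} : Set G)),
        (η : ↥(Subgroup.centralizer ({z} : Set G)) → ℂ) h * conj ((η : ↥(Subgroup.centralizer ({z} : Set G)) → ℂ) k) := by
  classical
  have hpart : ∀ c : ↥(Subgroup.centralizer ({z} : Set G)), ¬ p ∣ orderOf c →
      Cfsg.IsPPart p (z * (c : G)) z := fun c hc =>
    isPPart_of_mul (Subgroup.mem_centralizer_singleton_iff.1 c.2).symm hz
      (by rwa [Subgroup.orderOf_coe])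
  rw [Characters.sum_irr_mul_conj, Characters.sum_irr_mul_conj]
  congr 1
  refine Nat.card_congr
    { toFun := fun g => ⟨⟨g.1, ?_⟩, ?_⟩
      invFun := fun c => ⟨(c.1 : G), ?_⟩
      left_inv := fun g => rfl
      right_inv := fun c => rfl }
  · have h1 := isPPart_conj (hpart h hh) g.1
    rw [g.2] at h1
    exact Subgroup.mem_centralizer_singleton_iff.2
      (mul_inv_eq_iff_eq_mul.1 (isPPart_unique (Fact.out : p.Prime) h1 (hpart k hk)))
  · refine Subtype.ext ?_
    have h1 := isPPart_conj (hpart h hh) g.1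
    rw [g.2] at h1
    have h2 := isPPart_unique (Fact.out : p.Prime) h1 (hpart k hk)
    have h3 : g.1 * z * g.1⁻¹ * (g.1 * (h : G) * g.1⁻¹) = z * (k : G) :=
      (show g.1 * z * g.1⁻¹ * (g.1 * (h : G) * g.1⁻¹) = g.1 * (z * (h : G)) * g.1⁻¹ by
        group).trans g.2
    rw [h2] at h3
    exact mul_left_cancel h3
  · have h1 := congrArg Subtype.val c.2
    simp only [Subgroup.coe_mul, Subgroup.coe_inv] at h1
    have hg : ((c.1 : ↥(Subgroup.centralizer ({z} : Set G))) : G) * z = z * (c.1 : G) :=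
      Subgroup.mem_centralizer_singleton_iff.1 c.1.2
    calc (c.1 : G) * (z * (h : G)) * (c.1 : G)⁻¹
        = (c.1 : G) * z * ((h : G) * (c.1 : G)⁻¹) := by group
      _ = z * ((c.1 : G) * (h : G) * (c.1 : G)⁻¹) := by rw [hg]; group
      _ = z * (k : G) := by rw [h1]

open Classical in
/-- Averaging a character kernel over the regular elements reproduces a projection. -/
theorem sum_regInner_translate (hz : ∃ k, orderOf z = p ^ k)
    (φ φ' : IrrCharacter ↥(Subgroup.centralizer ({z} : Set G))) :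
    ∑ χ : IrrCharacter G,
        regInner p (fun h : ↥(Subgroup.centralizer ({z} : Set G)) => (χ : G → ℂ) (z * (h : G)))
          (φ : ↥(Subgroup.centralizer ({z} : Set G)) → ℂ) *
        conj (regInner p (fun h : ↥(Subgroup.centralizer ({z} : Set G)) =>
          (χ : G → ℂ) (z * (h : G))) (φ' : ↥(Subgroup.centralizer ({z} : Set G)) → ℂ)) =
      regInner p (φ' : ↥(Subgroup.centralizer ({z} : Set G)) → ℂ) (φ : ↥(Subgroup.centralizer ({z} : Set G)) → ℂ) := by
  set c : ℂ := (Nat.card ↥(Subgroup.centralizer ({z} : Set G)) : ℂ)⁻¹ with hc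
  have hval : regInner p (φ' : ↥(Subgroup.centralizer ({z} : Set G)) → ℂ) (φ : ↥(Subgroup.centralizer ({z} : Set G)) → ℂ) =
      c * ∑ h : ↥(Subgroup.centralizer ({z} : Set G)),
        (if p ∣ orderOf h then 0 else conj ((φ : ↥(Subgroup.centralizer ({z} : Set G)) → ℂ) h)) *
          (c * ∑ k : ↥(Subgroup.centralizer ({z} : Set G)), (φ' : ↥(Subgroup.centralizer ({z} : Set G)) → ℂ) k *
            ∑ η : IrrCharacter ↥(Subgroup.centralizer ({z} : Set G)),
              (η : ↥(Subgroup.centralizer ({z} : Set G)) → ℂ) h * conj ((η : ↥(Subgroup.centralizer ({z} : Set G)) → ℂ) k)) := by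
    rw [regInner]
    congr 1
    refine Finset.sum_congr rfl fun h _ => ?_
    have : c * ∑ k, (φ' : ↥(Subgroup.centralizer ({z} : Set G)) → ℂ) k *
        ∑ η : IrrCharacter ↥(Subgroup.centralizer ({z} : Set G)),
          (η : ↥(Subgroup.centralizer ({z} : Set G)) → ℂ) h * conj ((η : ↥(Subgroup.centralizer ({z} : Set G)) → ℂ) k) = (φ' : ↥(Subgroup.centralizer ({z} : Set G)) → ℂ) h := by
      conv_rhs => rw [Characters.classFunction_expansion
        (Characters.isClassFunction_of_isIrr φ'.2), Finset.sum_apply]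
      simp only [Finset.mul_sum]
      rw [Finset.sum_comm]
      refine Finset.sum_congr rfl fun η _ => ?_
      simp only [Pi.smul_apply, smul_eq_mul, Cfsg.classInner, Finset.mul_sum, Finset.sum_mul, hc]
      exact Finset.sum_congr rfl fun k _ => by ring
    rw [this]
    split_ifs <;> ring
  rw [hval]
  simp only [regInner, map_mul, map_inv₀, map_natCast, map_sum, ← hc, Finset.mul_sum,
    Finset.sum_mul]
  rw [Finset.sum_comm]
  rw [Finset.sum_congr rfl fun k _ => Finset.sum_comm, Finset.sum_comm]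
  refine Finset.sum_congr rfl fun h _ => ?_
  by_cases hh : p ∣ orderOf h
  · simp [hh]
  refine Finset.sum_congr rfl fun k _ => ?_
  by_cases hk : p ∣ orderOf k
  · have hzero : ∑ η : IrrCharacter ↥(Subgroup.centralizer ({z} : Set G)),
        (η : ↥(Subgroup.centralizer ({z} : Set G)) → ℂ) h * conj ((η : ↥(Subgroup.centralizer ({z} : Set G)) → ℂ) k) = 0 :=
      Characters.sum_irr_mul_conj_of_not_isConj (not_isConj_of_regular_singular hh hk)
    simp only [if_pos hk, map_zero, mul_zero, zero_mul, Finset.sum_const_zero, if_neg hh]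
    rw [eq_comm]
    calc _ = c * (conj ((φ : ↥(Subgroup.centralizer ({z} : Set G)) → ℂ) h) * (c * ((φ' : ↥(Subgroup.centralizer ({z} : Set G)) → ℂ) k *
          ∑ η : IrrCharacter ↥(Subgroup.centralizer ({z} : Set G)),
            (η : ↥(Subgroup.centralizer ({z} : Set G)) → ℂ) h * conj ((η : ↥(Subgroup.centralizer ({z} : Set G)) → ℂ) k)))) := by simp only [Finset.mul_sum]
      _ = 0 := by rw [hzero]; ring
  simp only [if_neg hh, if_neg hk, map_mul, Complex.conj_conj]
  calc _ = c * (conj ((φ : ↥(Subgroup.centralizer ({z} : Set G)) → ℂ) h) * (c * ((φ' : ↥(Subgroup.centralizer ({z} : Set G)) → ℂ) k *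
        ∑ χ : IrrCharacter G, (χ : G → ℂ) (z * (h : G)) * conj ((χ : G → ℂ) (z * (k : G)))))) := by
        have hcc : conj c = c := by rw [hc, map_inv₀, map_natCast]
        simp only [Finset.mul_sum, hcc]
        exact Finset.sum_congr rfl fun χ _ => by ring
    _ = _ := by rw [sum_irr_section hz hh hk]; simp only [Finset.mul_sum]

theorem Data.sum_T (hM : Cfsg.IsPModular p M) (hb : Cfsg.IsPBlock M b)
    (hz : ∃ k, orderOf z = p ^ k)
    {φ φ' : IrrCharacter ↥(Subgroup.centralizer ({z} : Set G))} (hφ : φ ∈ b) (hφ' : φ' ∈ b) :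
    ∑ χ : IrrCharacter G, D.T χ φ * conj (D.T χ φ') = ((p ^ D.d : ℕ) : ℂ) * (D.C φ φ' : ℂ) := by
  simp only [D.T_eq hM hb _ hφ, D.T_eq hM hb _ hφ', map_mul, map_natCast]
  rw [D.C_symm, D.C_eq φ' φ hφ' hφ, ← sum_regInner_translate (p := p) hz φ φ', Finset.mul_sum,
    Finset.mul_sum]
  exact Finset.sum_congr rfl fun χ _ => by ring

open Classical in
/-- The diagonal contributions add up to the rank. -/
theorem Data.sum_diag (hM : Cfsg.IsPModular p M) (hb : Cfsg.IsPBlock M b)
    (hz : ∃ k, orderOf z = p ^ k) :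
    ∑ χ : IrrCharacter G, ∑ φ, conj ((D.n χ φ : ℂ) * D.ζ ^ D.j φ) * D.T χ φ =
      ((p ^ D.d : ℕ) : ℂ) * (Cfsg.blockRank p b : ℂ) := by
  have key : ∀ χ : IrrCharacter G, ∑ φ, conj ((D.n χ φ : ℂ) * D.ζ ^ D.j φ) * D.T χ φ =
      ((p ^ D.d : ℕ) : ℂ) * ∑ φ : IrrCharacter ↥(Subgroup.centralizer ({z} : Set G)),
        if φ ∈ b then
          regInner p (fun h : ↥(Subgroup.centralizer ({z} : Set G)) => (χ : G → ℂ) (z * (h : G)))
            (φ : ↥(Subgroup.centralizer ({z} : Set G)) → ℂ) *
          conj (regInner p (fun h : ↥(Subgroup.centralizer ({z} : Set G)) =>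
            (χ : G → ℂ) (z * (h : G))) (φ : ↥(Subgroup.centralizer ({z} : Set G)) → ℂ)) else 0 := by
    intro χ
    set f := fun h : ↥(Subgroup.centralizer ({z} : Set G)) => (χ : G → ℂ) (z * (h : G))
    have hfc : Cfsg.IsClassFunction ↥(Subgroup.centralizer ({z} : Set G)) f :=
      isClassFunction_translate _ (Characters.isClassFunction_of_isIrr χ.2) z
    have hcl : ∀ φ, φ ∈ b → Cfsg.classInner f (φ : ↥(Subgroup.centralizer ({z} : Set G)) → ℂ) = (D.n χ φ : ℂ) * D.ζ ^ D.j φ := by
      intro φ hφ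
      have hexp : f = ∑ η : IrrCharacter ↥(Subgroup.centralizer ({z} : Set G)),
          (Cfsg.classInner (fun k : ↥(Subgroup.centralizer ({z} : Set G)) => (χ : G → ℂ) k)
            (η : ↥(Subgroup.centralizer ({z} : Set G)) → ℂ) * D.ζ ^ D.j η) • (η : ↥(Subgroup.centralizer ({z} : Set G)) → ℂ) := by
        funext h
        have h1 := congrFun (Characters.classFunction_expansion
          (G := ↥(Subgroup.centralizer ({z} : Set G)))
          (θ := fun k : ↥(Subgroup.centralizer ({z} : Set G)) => (χ : G → ℂ) k) (fun a c => by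
            simpa using Characters.isClassFunction_of_isIrr χ.2 (a : G) (c : G)))
          (⟨z, Subgroup.mem_centralizer_singleton_iff.2 rfl⟩ * h)
        simp only [Finset.sum_apply, Pi.smul_apply, smul_eq_mul, Subgroup.coe_mul] at h1 ⊢
        show (χ : G → ℂ) (z * (h : G)) = _
        rw [h1]
        exact Finset.sum_congr rfl fun η _ => by rw [D.translate]; ring
      rw [hexp, Characters.classInner_irr_coeff, D.n_eq χ φ hφ]
    have hswap : ∑ φ : IrrCharacter ↥(Subgroup.centralizer ({z} : Set G)),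
          (if φ ∈ b then regInner p f (φ : ↥(Subgroup.centralizer ({z} : Set G)) → ℂ) * conj (regInner p f (φ : ↥(Subgroup.centralizer ({z} : Set G)) → ℂ)) else 0) =
        ∑ φ : IrrCharacter ↥(Subgroup.centralizer ({z} : Set G)),
          (if φ ∈ b then regInner p f (φ : ↥(Subgroup.centralizer ({z} : Set G)) → ℂ) * conj (Cfsg.classInner f (φ : ↥(Subgroup.centralizer ({z} : Set G)) → ℂ)) else 0) := by
      set c : ℂ := (Nat.card ↥(Subgroup.centralizer ({z} : Set G)) : ℂ)⁻¹ with hc
      have e : ∀ a : IrrCharacter ↥(Subgroup.centralizer ({z} : Set G)) → ℂ,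
          ∑ φ : IrrCharacter ↥(Subgroup.centralizer ({z} : Set G)),
            (if φ ∈ b then regInner p f (φ : ↥(Subgroup.centralizer ({z} : Set G)) → ℂ) * conj (a φ) else 0) =
          ∑ h : ↥(Subgroup.centralizer ({z} : Set G)), if p ∣ orderOf h then 0 else
            c * f h * conj (∑ φ : IrrCharacter ↥(Subgroup.centralizer ({z} : Set G)),
              if φ ∈ b then a φ * (φ : ↥(Subgroup.centralizer ({z} : Set G)) → ℂ) h else 0) := by
        intro a
        simp only [regInner, ← hc, map_sum, Finset.mul_sum, Finset.sum_mul]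
        have hite : ∀ h : ↥(Subgroup.centralizer ({z} : Set G)),
            (if p ∣ orderOf h then 0 else
              ∑ φ : IrrCharacter ↥(Subgroup.centralizer ({z} : Set G)),
                c * f h * conj (if φ ∈ b then a φ * (φ : ↥(Subgroup.centralizer ({z} : Set G)) → ℂ) h else 0)) =
            ∑ φ : IrrCharacter ↥(Subgroup.centralizer ({z} : Set G)),
              (if φ ∈ b then c * (if p ∣ orderOf h then 0 else f h * conj ((φ : ↥(Subgroup.centralizer ({z} : Set G)) → ℂ) h)) *
                conj (a φ) else 0) := by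
          intro h
          by_cases hh : p ∣ orderOf h
          · simp [hh]
          · simp only [hh, if_false]
            exact Finset.sum_congr rfl fun φ _ => by
              split_ifs
              · rw [map_mul]; ring
              · rw [map_zero, mul_zero]
        simp only [hite]
        rw [Finset.sum_comm]
        refine Finset.sum_congr rfl fun φ _ => ?_
        split_ifs <;> simp
      rw [e, e]
      refine Finset.sum_congr rfl fun h _ => ?_
      split_ifs with hh
      · rfl
      · rw [sum_union_regInner_mul hM (isBlockUnion_of_isPBlock hb) hfc hh]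
    rw [hswap, Finset.mul_sum]
    refine Finset.sum_congr rfl fun φ _ => ?_
    by_cases hφ : φ ∈ b
    · rw [if_pos hφ, D.T_eq hM hb χ hφ, hcl φ hφ]; ring
    · rw [if_neg hφ, D.n_zero χ φ hφ]; simp
  simp only [key, ← Finset.mul_sum]
  rw [blockRank_eq_sum hM (isBlockUnion_of_isPBlock hb), Finset.sum_comm]
  congr 1
  refine Finset.sum_congr rfl fun φ _ => ?_
  split_ifs with h
  · exact sum_regInner_translate hz φ φ
  · simp

open Classical in
/-- The normalized contribution is integral and constant modulo `M` on a block. -/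
theorem Data.sum_classes (hM : Cfsg.IsPModular p M) (hb : Cfsg.IsPBlock M b)
    (hz : ∃ k, orderOf z = p ^ k) [Fintype (ConjClasses ↥(Subgroup.centralizer ({z} : Set G)))]
    (χ : IrrCharacter G) {φ : IrrCharacter ↥(Subgroup.centralizer ({z} : Set G))} (hφ : φ ∈ b) :
    (Nat.card G : ℂ) / (((p ^ D.d : ℕ) : ℂ) * (χ : G → ℂ) 1) * D.T χ φ =
      ∑ C : ConjClasses ↥(Subgroup.centralizer ({z} : Set G)),
        if p ∣ orderOf (Quotient.out C) then 0 else
          Cfsg.centralChar (χ : G → ℂ) (z * ((Quotient.out C :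
            ↥(Subgroup.centralizer ({z} : Set G))) : G)) *
            conj ((φ : ↥(Subgroup.centralizer ({z} : Set G)) → ℂ) (Quotient.out C)) := by
  have hne : ((p ^ D.d : ℕ) : ℂ) ≠ 0 := Nat.cast_ne_zero.2 (pow_ne_zero _ hp.out.ne_zero)
  have hχ1 := Characters.irr_one_ne_zero χ.2
  have hH0 : (Nat.card (Subgroup.centralizer ({z} : Set G)) : ℂ) ≠ 0 := Nat.cast_ne_zero.2 Nat.card_pos.ne'
  have h0 : (Nat.card G : ℂ) / (((p ^ D.d : ℕ) : ℂ) * (χ : G → ℂ) 1) * D.T χ φ =
      ∑ h : (Subgroup.centralizer ({z} : Set G)), if p ∣ orderOf h then 0 else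
        ((Subgroup.centralizer ({z} : Set G)).index : ℂ) / (χ : G → ℂ) 1 * ((χ : G → ℂ) (z * (h : G)) * conj ((φ : ↥(Subgroup.centralizer ({z} : Set G)) → ℂ) h)) := by
    rw [D.T_eq hM hb χ hφ, regInner, ← (Subgroup.centralizer ({z} : Set G)).index_mul_card]
    simp only [Finset.mul_sum]
    refine Finset.sum_congr rfl fun h _ => ?_
    split_ifs
    · simp
    · push_cast at hne ⊢; field_simp
  rw [h0, ← Finset.sum_fiberwise Finset.univ ConjClasses.mk]
  refine Finset.sum_congr rfl fun C _ => ?_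
  have hC : ConjClasses.mk (Quotient.out C) = C := Quotient.out_eq C
  set y : (Subgroup.centralizer ({z} : Set G)) := Quotient.out C
  have hfc := isClassFunction_translate (χ : G → ℂ) (Characters.isClassFunction_of_isIrr χ.2) z
  rw [Finset.sum_congr rfl (g := fun _ => if p ∣ orderOf y then 0 else
    ((Subgroup.centralizer ({z} : Set G)).index : ℂ) / (χ : G → ℂ) 1 * ((χ : G → ℂ) (z * (y : G)) * conj ((φ : ↥(Subgroup.centralizer ({z} : Set G)) → ℂ) y)))]
  · rw [Finset.sum_const, nsmul_eq_mul, ← Fintype.card_subtype, ← Nat.card_eq_fintype_card]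
    conv_lhs => arg 1; rw [← hC, natCard_class]
    split_ifs with hy
    · exact mul_zero _
    · have hidx : (Subgroup.centralizer ({z * (y : G)} : Set G)).index =
          (Subgroup.centralizer ({y} : Set (Subgroup.centralizer ({z} : Set G)))).index * (Subgroup.centralizer ({z} : Set G)).index := by
        rw [← Subgroup.index_map_subtype]
        congr 1
        ext g
        rw [Subgroup.mem_map]
        constructor
        · intro hg
          have hpart := isPPart_of_mul (p := p) (Subgroup.mem_centralizer_singleton_iff.1 y.2).symm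
            hz (by rwa [Subgroup.orderOf_coe])
          have h1 := isPPart_conj hpart g
          rw [Subgroup.mem_centralizer_singleton_iff.1 hg, mul_inv_cancel_right] at h1
          have hgz := mul_inv_eq_iff_eq_mul.1 (isPPart_unique hp.out h1 hpart)
          have hgH : g ∈ (Subgroup.centralizer ({z} : Set G)) := Subgroup.mem_centralizer_singleton_iff.2 hgz
          refine ⟨⟨g, hgH⟩, Subgroup.mem_centralizer_singleton_iff.2 (Subtype.ext ?_), rfl⟩
          have h2 := Subgroup.mem_centralizer_singleton_iff.1 hg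
          rw [← mul_assoc, hgz, mul_assoc, mul_assoc] at h2
          exact mul_left_cancel h2
        · rintro ⟨c, hc, rfl⟩
          refine Subgroup.mem_centralizer_singleton_iff.2 ?_
          have h2 := congrArg Subtype.val (Subgroup.mem_centralizer_singleton_iff.1 hc)
          simp only [Subgroup.coe_mul] at h2
          rw [Subgroup.coe_subtype, ← mul_assoc, Subgroup.mem_centralizer_singleton_iff.1 c.2,
            mul_assoc, h2, ← mul_assoc]
      rw [Cfsg.centralChar, hidx]
      push_cast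
      ring
  · intro h hh
    have hcj : IsConj y h :=
      ConjClasses.mk_eq_mk_iff_isConj.1 (hC.trans (Finset.mem_filter.1 hh).2.symm)
    obtain ⟨c, hc⟩ := isConj_iff.1 hcj
    rw [← hc, Characters.isClassFunction_of_isIrr φ.2,
      show c * y * c⁻¹ = MulAut.conj c y from rfl, MulEquiv.orderOf_eq,
      show (χ : G → ℂ) (z * ((MulAut.conj c y : (Subgroup.centralizer ({z} : Set G))) : G)) = (χ : G → ℂ) (z * (y : G)) from
        hfc y c]

end CfsgLib.MajorSubsection
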