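import Cfsg.Agent.BlockPairing.MajorBound
import Mathlib.RingTheory.Polynomial.Cyclotomic.Eval
import Mathlib.Data.ZMod.Basic

/-!
# Major subsections for the prime two

The contribution of a character of height `h` is divisible exactly by `2 ^ h`; in the basis
`1, ζ, …` this makes every coordinate divisible by `2 ^ h` and fixes the parity of their sum.
-/

set_option autoImplicit false
set_option linter.unusedSectionVars false
set_option linter.style.haveILetI false

namespace CfsgLib.MajorSubsection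

open CfsgLib.Blocks CfsgLib.BlockPairing CfsgLib.CycloAverage Cfsg
open scoped ComplexConjugate

universe u

section Descent

variable {M : Ideal AlgInt} [M.IsPrime] {e : ℕ} {ζ : ℂ}

theorem exists_two_eq (hζ : IsPrimitiveRoot ζ (2 ^ (e + 1))) :
    ∃ w, Cfsg.MemLocalRing M w ∧ (2 : ℂ) = (1 - ζ) ^ (2 ^ e) * w := by
  classical
  have hn : 0 < 2 ^ (e + 1) := pow_pos (by norm_num) _
  haveI : NeZero (2 ^ (e + 1)) := ⟨hn.ne'⟩
  haveI : Fact (Nat.Prime 2) := ⟨Nat.prime_two⟩
  have h1 : (2 : ℂ) = ∏ μ ∈ primitiveRoots (2 ^ (e + 1)) ℂ, (1 - μ) := by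
    have h := Polynomial.eval_one_cyclotomic_prime_pow (R := ℂ) e (p := 2)
    rw [Polynomial.cyclotomic_eq_prod_X_sub_primitiveRoots hζ, Polynomial.eval_prod] at h
    simp only [Polynomial.eval_sub, Polynomial.eval_X, Polynomial.eval_C, Nat.cast_ofNat] at h
    exact h.symm
  have h2 : ∀ μ ∈ primitiveRoots (2 ^ (e + 1)) ℂ, ∃ w, Cfsg.MemLocalRing M w ∧
      1 - μ = (1 - ζ) * w := by
    intro μ hμ
    obtain ⟨i, -, rfl⟩ := hζ.eq_pow_of_pow_eq_one ((mem_primitiveRoots hn).1 hμ).pow_eq_one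
    refine ⟨∑ l ∈ Finset.range i, ζ ^ l, Subring.sum_mem (localRing M) fun l _ =>
      memLocalRing_of_isIntegral ((hζ.isIntegral hn).pow l), ?_⟩
    linear_combination geom_sum_mul ζ i
  choose! w hw hwe using h2
  refine ⟨∏ μ ∈ primitiveRoots (2 ^ (e + 1)) ℂ, w μ, Subring.prod_mem (localRing M) hw, ?_⟩
  rw [h1, Finset.prod_congr rfl hwe, Finset.prod_mul_distrib, Finset.prod_const,
    hζ.card_primitiveRoots, Nat.totient_prime_pow Nat.prime_two (Nat.succ_pos e)]
  simp

theorem two_dvd_of_pow_dvd (hM : Cfsg.IsPModular 2 M) (hζ : IsPrimitiveRoot ζ (2 ^ (e + 1))) :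
    ∀ (n : ℕ), n ≤ 2 ^ e → ∀ (c : ℕ → ℤ) (x : ℂ), Cfsg.MemLocalRing M x →
      ∑ r ∈ Finset.range n, (c r : ℂ) * ζ ^ r = (1 - ζ) ^ n * x → ∀ r < n, (2 : ℤ) ∣ c r := by
  haveI : Fact (Nat.Prime 2) := ⟨Nat.prime_two⟩
  have hn : 0 < 2 ^ (e + 1) := pow_pos (by norm_num) _
  have hloc : ∀ k, Cfsg.MemLocalRing M (ζ ^ k) := fun k =>
    memLocalRing_of_isIntegral ((hζ.isIntegral hn).pow k)
  have hπ : Cfsg.MemLocalIdeal M (1 - ζ) := by
    let t : localRing M := ⟨ζ, memLocalRing_of_isIntegral (hζ.isIntegral hn)⟩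
    have ht : t ^ (2 ^ (e + 1)) = 1 := Subtype.ext hζ.pow_eq_one
    have hr := red_eq_one_of_pow_eq_one hM ht
    rw [← map_one (red M), red_eq_red_iff] at hr
    simpa [t] using memLocalIdeal_neg hr
  have hπ0 : (1 - ζ) ≠ 0 :=
    sub_ne_zero.2 fun h => hζ.ne_one (Nat.one_lt_pow (Nat.succ_ne_zero e) Nat.one_lt_two) h.symm
  obtain ⟨w, hw, h2⟩ := exists_two_eq (M := M) hζ
  intro n
  induction n with
  | zero => intro _ _ _ _ _ r hr; exact absurd hr (Nat.not_lt_zero r)
  | succ n ih =>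
    intro hle c x hx he
    have hgeo : ∀ l, ζ ^ l - 1 = (ζ - 1) * ∑ i ∈ Finset.range l, ζ ^ i := fun l => by
      rw [mul_comm, geom_sum_mul]
    obtain ⟨m, hm⟩ : (2 : ℤ) ∣ ∑ r ∈ Finset.range (n + 1), c r := by
      rw [show (2 : ℤ) = ((2 : ℕ) : ℤ) from rfl, ← memLocalIdeal_intCast_iff hM]
      have h1 : Cfsg.MemLocalIdeal M (∑ r ∈ Finset.range (n + 1), (c r : ℂ) * ζ ^ r) := by
        rw [he, pow_succ', mul_assoc]
        exact memLocalIdeal_mul_right hπ
          (Subring.mul_mem (localRing M) (Subring.pow_mem (localRing M)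
            (memLocalRing_of_memLocalIdeal hπ) n) hx)
      have h3 : Cfsg.MemLocalIdeal M
          (∑ r ∈ Finset.range (n + 1), (c r : ℂ) * (ζ ^ r - 1)) :=
        memLocalIdeal_sum _ fun r _ => by
          refine memLocalIdeal_mul_left (memLocalRing_intCast _) ?_
          rw [hgeo]
          exact memLocalIdeal_mul_right (by simpa using memLocalIdeal_neg hπ)
            (Subring.sum_mem (localRing M) fun l _ => hloc l)
      have := memLocalIdeal_sub h1 h3
      rw [← Finset.sum_sub_distrib] at this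
      push_cast
      convert this using 1
      exact Finset.sum_congr rfl fun r _ => by ring
    set s : ℕ → ℤ := fun l => ∑ r ∈ Finset.Ico (l + 1) (n + 1), c r with hs
    have hsplit : ∑ r ∈ Finset.range (n + 1), (c r : ℂ) * ζ ^ r =
        ((2 * m : ℤ) : ℂ) - (1 - ζ) * ∑ l ∈ Finset.range n, (s l : ℂ) * ζ ^ l := by
      have hcomm : ∑ l ∈ Finset.range n, (s l : ℂ) * ζ ^ l =
          ∑ r ∈ Finset.range (n + 1), (c r : ℂ) * ∑ l ∈ Finset.range r, ζ ^ l := by
        simp only [hs, Int.cast_sum, Finset.sum_mul, Finset.mul_sum]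
        refine Finset.sum_comm' fun l r => ?_
        simp only [Finset.mem_range, Finset.mem_Ico]
        omega
      rw [hcomm, ← hm, Int.cast_sum, Finset.mul_sum, ← Finset.sum_sub_distrib]
      refine Finset.sum_congr rfl fun r _ => ?_
      linear_combination (c r : ℂ) * hgeo r
    have hrec : ∑ l ∈ Finset.range n, (s l : ℂ) * ζ ^ l =
        (1 - ζ) ^ n * ((1 - ζ) ^ (2 ^ e - (n + 1)) * w * (m : ℂ) - x) := by
      refine mul_left_cancel₀ hπ0 ?_
      have hp : (1 - ζ) ^ (2 ^ e) = (1 - ζ) ^ (n + 1) * (1 - ζ) ^ (2 ^ e - (n + 1)) := by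
        rw [← pow_add, Nat.add_sub_cancel' hle]
      rw [he, Int.cast_mul, Int.cast_ofNat, h2, hp] at hsplit
      linear_combination hsplit
    have heven := ih (Nat.le_of_succ_le hle) s _
      (Subring.sub_mem (localRing M) (Subring.mul_mem (localRing M) (Subring.mul_mem (localRing M)
        (Subring.pow_mem (localRing M) (memLocalRing_of_memLocalIdeal hπ) _) hw)
        (memLocalRing_intCast m)) hx) hrec
    have hs0 : ∀ l ≤ n, (2 : ℤ) ∣ s l := by
      intro l hl
      rcases hl.lt_or_eq with h | rfl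
      · exact heven l h
      · simp [hs]
    intro r hr
    rcases Nat.eq_zero_or_pos r with rfl | h0
    · have : ∑ r ∈ Finset.range (n + 1), c r = c 0 + s 0 := by
        rw [Finset.range_eq_Ico, Finset.sum_eq_sum_Ico_succ_bot (Nat.succ_pos n)]
      have h3 := hs0 0 (Nat.zero_le n)
      omega
    · obtain ⟨r, rfl⟩ : ∃ k, r = k + 1 := ⟨r - 1, by omega⟩
      have : s r = c (r + 1) + s (r + 1) := by
        simp only [hs]; rw [Finset.sum_eq_sum_Ico_succ_bot hr]
      have h3 := hs0 r (by omega)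
      have h4 := hs0 (r + 1) (by omega)
      omega

/-- Divisibility by a power of two is read off the coordinates. -/
theorem pow_two_dvd_coeff (hM : Cfsg.IsPModular 2 M) (hζ : IsPrimitiveRoot ζ (2 ^ (e + 1))) :
    ∀ (h : ℕ) (c : ℕ → ℤ) (x : ℂ), Cfsg.MemLocalRing M x →
      ∑ r ∈ Finset.range (2 ^ e), (c r : ℂ) * ζ ^ r = (2 : ℂ) ^ h * x →
      ∀ r < 2 ^ e, (2 : ℤ) ^ h ∣ c r := by
  intro h
  induction h with
  | zero => intro c x _ _ r _; simp
  | succ h ih =>
    intro c x hx he r hr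
    obtain ⟨w, hw, h2⟩ := exists_two_eq (M := M) hζ
    have heven := two_dvd_of_pow_dvd hM hζ (2 ^ e) le_rfl c (w * (2 ^ h * x))
      (Subring.mul_mem (localRing M) hw (Subring.mul_mem (localRing M)
        (Subring.pow_mem (localRing M) (memLocalRing_natCast 2) h) hx))
      (by rw [he, pow_succ', ← mul_assoc ((1 - ζ) ^ 2 ^ e), ← h2]; ring)
    have he' : ∑ r ∈ Finset.range (2 ^ e), ((c r / 2 : ℤ) : ℂ) * ζ ^ r = (2 : ℂ) ^ h * x := by
      refine mul_left_cancel₀ (two_ne_zero : (2 : ℂ) ≠ 0) ?_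
      rw [← mul_assoc (2 : ℂ) (2 ^ h), ← pow_succ', ← he, Finset.mul_sum]
      refine Finset.sum_congr rfl fun l hl => ?_
      obtain ⟨q, hq⟩ := heven l (Finset.mem_range.1 hl)
      rw [hq, Int.mul_ediv_cancel_left _ two_ne_zero]
      push_cast; ring
    obtain ⟨q, hq⟩ := ih _ x hx he' r hr
    refine ⟨q, ?_⟩
    have := Int.ediv_mul_cancel (heven r hr)
    rw [hq] at this
    rw [← this]; ring

end Descent

theorem zmod_two_cases : ∀ t : ZMod 2, t = 0 ∨ t = 1 := by decide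

theorem zmod_two_mul_self : ∀ t : ZMod 2, t * t = t := by decide

theorem zmod_two_ne : (0 : ZMod 2) - 1 ≠ 0 := by decide

theorem sum_symm_zmod_two (f : ℕ → ℕ → ZMod 2) (hf : ∀ r s, f r s = f s r) (n : ℕ) :
    ∑ r ∈ Finset.range n, ∑ s ∈ Finset.range n, f r s = ∑ r ∈ Finset.range n, f r r := by
  induction n with
  | zero => simp
  | succ n ih =>
    simp only [Finset.sum_range_succ, Finset.sum_add_distrib, ih]
    rw [Finset.sum_congr rfl fun r _ => hf r n]
    have : ∀ a : ZMod 2, a + a = 0 := by decide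
    rw [add_assoc, ← add_assoc (∑ s ∈ Finset.range n, f n s), this, zero_add]

variable {G : Type u} [Group G] [Fintype G] {M : Ideal AlgInt} [M.IsPrime] {z : G}
  {B : Set (IrrCharacter G)} {b : Set (IrrCharacter ↥(Subgroup.centralizer ({z} : Set G)))}
  [Fintype ↥(Subgroup.centralizer ({z} : Set G))]

/-- The coordinates of a character in the basis `1, ζ, …`. -/
noncomputable def Data.W [Fact (Nat.Prime 2)] (D : Data M 2 z B b) (χ : IrrCharacter G) (r : ℕ)
    (x : IrrCharacter ↥(Subgroup.centralizer ({z} : Set G))) : ℤ :=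
  D.n χ x * ((if D.j x = r then 1 else 0) - (if D.j x = r + 2 ^ D.e then 1 else 0))

variable [Fact (Nat.Prime 2)] (D : Data M 2 z B b)

theorem Data.sum_W_mul {R : Type*} [CommRing R] {t : R} (ht : t ^ (2 ^ D.e) = -1)
    (χ : IrrCharacter G) (x : IrrCharacter ↥(Subgroup.centralizer ({z} : Set G))) :
    ∑ r ∈ Finset.range (2 ^ D.e), ((D.W χ r x : ℤ) : R) * t ^ r = (D.n χ x : R) * t ^ D.j x := by
  have hj := D.j_lt x
  rw [pow_succ] at hj
  rcases Nat.lt_or_ge (D.j x) (2 ^ D.e) with h | h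
  · rw [Finset.sum_eq_single (D.j x)]
    · rw [Data.W, if_pos rfl, if_neg (by have := Nat.two_pow_pos D.e; omega)]; simp
    · intro r hr hne
      rw [Finset.mem_range] at hr
      rw [Data.W, if_neg (Ne.symm hne), if_neg (by omega)]; simp
    · intro h'; exact absurd (Finset.mem_range.2 h) h'
  · rw [Finset.sum_eq_single (D.j x - 2 ^ D.e)]
    · rw [Data.W, if_neg (by have := Nat.two_pow_pos D.e; omega), if_pos (by omega)]
      conv_rhs => rw [← Nat.sub_add_cancel h, pow_add, ht]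
      push_cast; ring
    · intro r hr hne
      rw [Finset.mem_range] at hr
      rw [Data.W, if_neg (by omega), if_neg (by omega)]; simp
    · intro h'; exact absurd (Finset.mem_range.2 (by omega)) h'

theorem Data.zeta_pow_half : D.ζ ^ (2 ^ D.e) = -1 := by
  have h : (D.ζ ^ (2 ^ D.e)) ^ 2 = 1 := by rw [← pow_mul, ← pow_succ, D.isRoot.pow_eq_one]
  rcases sq_eq_one_iff.1 h with h' | h'
  · exact absurd h' (D.isRoot.pow_ne_one_of_pos_of_lt (Nat.two_pow_pos _).ne'
      (Nat.pow_lt_pow_right Nat.one_lt_two (Nat.lt_succ_self _)))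
  · exact h'

theorem Data.Tu_eq_coeff (χ : IrrCharacter G)
    (u : IrrCharacter ↥(Subgroup.centralizer ({z} : Set G)) → ℤ) :
    D.Tu χ u = ∑ r ∈ Finset.range (2 ^ D.e), ((form D.C (D.W χ r) u : ℤ) : ℂ) * D.ζ ^ r := by
  rw [D.Tu_eq]
  calc ∑ x, ((D.n χ x * ∑ t, D.C x t * u t : ℤ) : ℂ) * D.ζ ^ D.j x
      = ∑ x, ((∑ t, D.C x t * u t : ℤ) : ℂ) *
          ∑ r ∈ Finset.range (2 ^ D.e), ((D.W χ r x : ℤ) : ℂ) * D.ζ ^ r :=
        Finset.sum_congr rfl fun x _ => by
          rw [D.sum_W_mul D.zeta_pow_half]; push_cast; ring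
    _ = _ := by
        simp only [form, Int.cast_sum, Finset.sum_mul, Finset.mul_sum]
        rw [Finset.sum_comm]
        refine Finset.sum_congr rfl fun r _ => Finset.sum_congr rfl fun x _ =>
          Finset.sum_congr rfl fun y _ => ?_
        push_cast; ring

theorem Data.avg_eq (C' : IrrCharacter ↥(Subgroup.centralizer ({z} : Set G)) →
    IrrCharacter ↥(Subgroup.centralizer ({z} : Set G)) → ℤ) (χ : IrrCharacter G) :
    D.avg C' χ = ∑ r ∈ Finset.range (2 ^ D.e), form C' (D.W χ r) (D.W χ r) := by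
  have h := sum_tau_form Nat.prime_two C' (D.n χ) D.j D.j_lt
  simp only [Finset.sum_range_succ, Finset.range_zero, Finset.sum_empty, zero_add, zero_mul,
    add_zero, one_mul, sub_self, mul_zero] at h
  have h2 : ∀ r, form C' (fun x => D.n χ x * ((if D.j x = r + 2 ^ D.e then 1 else 0) -
      (if D.j x = r then 1 else 0))) (fun x => D.n χ x * ((if D.j x = r + 2 ^ D.e then 1 else 0) -
      (if D.j x = r then 1 else 0))) = form C' (D.W χ r) (D.W χ r) := fun r => by
    simp only [form, Data.W]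
    exact Finset.sum_congr rfl fun x _ => Finset.sum_congr rfl fun y _ => by ring
  have h3 : ∀ r, form C' (fun x => D.n χ x * ((if D.j x = r then 1 else 0) -
      (if D.j x = r + 2 ^ D.e then 1 else 0))) (fun x => D.n χ x * ((if D.j x = r then 1 else 0) -
      (if D.j x = r + 2 ^ D.e then 1 else 0))) = form C' (D.W χ r) (D.W χ r) := fun r => rfl
  have hz0 : form C' (fun _ => 0) (fun _ => 0) = 0 := by simp [form]
  simp only [h2, h3, hz0, zero_add, add_zero, ← two_mul, ← Finset.mul_sum] at h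
  rw [Data.avg]
  omega

open Classical in
/-- The coordinates of a contribution at height `h` are divisible by `2 ^ h`, and the parity of
their sum does not depend on the character. -/
theorem Data.exists_coeff (hM : Cfsg.IsPModular 2 M) (hb : Cfsg.IsPBlock M b)
    (hz : ∃ k, orderOf z = 2 ^ k) (hB : Cfsg.IsPBlock M B) (hd : D.d = Cfsg.blockDefect 2 B)
    {χ₀ : IrrCharacter G} (hχ₀ : χ₀ ∈ B) (h0 : Cfsg.blockHeight 2 B (χ₀ : G → ℂ) = 0)
    (u : IrrCharacter ↥(Subgroup.centralizer ({z} : Set G)) → ℤ) {χ : IrrCharacter G}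
    (hχ : χ ∈ B) :
    ∃ g : ℕ → ℤ, (∀ r < 2 ^ D.e,
        form D.C (D.W χ r) u = 2 ^ Cfsg.blockHeight 2 B (χ : G → ℂ) * g r) ∧
      (2 : ℤ) ∣ (∑ r ∈ Finset.range (2 ^ D.e), g r) - form D.C (D.n χ₀) u := by
  set h := Cfsg.blockHeight 2 B (χ : G → ℂ)
  obtain ⟨U, hU, hUe⟩ := D.exists_unit hd hχ
  obtain ⟨U₀, hU₀, hU₀e⟩ := D.exists_unit hd hχ₀
  rw [h0] at hU₀e
  simp only [pow_zero, one_mul] at hU₀e
  set y : ℂ := ∑ φ, (u φ : ℂ) * D.nS χ φ
  have hy : Cfsg.MemLocalRing M y := Subring.sum_mem (localRing M) fun φ _ =>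
    Subring.mul_mem (localRing M) (memLocalRing_intCast _) (D.memLocalRing_nS hM hb hz χ φ)
  have hUy : (U : ℂ) * D.Tu χ u = (2 : ℂ) ^ h * y := by
    rw [Data.Tu, Finset.mul_sum, Finset.mul_sum]
    refine Finset.sum_congr rfl fun φ _ => ?_
    rw [mul_left_comm, ← hUe]; push_cast; ring
  have hU0 : (U : ℂ) ≠ 0 := Nat.cast_ne_zero.2 fun h => hU (h ▸ dvd_zero 2)
  have hdvd : ∀ r < 2 ^ D.e, (2 : ℤ) ^ h ∣ form D.C (D.W χ r) u := by
    refine pow_two_dvd_coeff hM D.isRoot h _ ((U : ℂ)⁻¹ * y)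
      (Subring.mul_mem (localRing M) (memLocalRing_natCast_inv hM hU) hy) ?_
    rw [← D.Tu_eq_coeff, mul_left_comm, ← hUy]; field_simp
  choose! g hg using hdvd
  refine ⟨g, hg, ?_⟩
  rw [show (2 : ℤ) = ((2 : ℕ) : ℤ) from rfl, ← memLocalIdeal_intCast_iff hM]
  have hUg : (U : ℂ) * ∑ r ∈ Finset.range (2 ^ D.e), (g r : ℂ) * D.ζ ^ r = y := by
    refine mul_left_cancel₀ (pow_ne_zero h (two_ne_zero : (2 : ℂ) ≠ 0)) ?_
    rw [← hUy, D.Tu_eq_coeff, Finset.mul_sum, Finset.mul_sum, Finset.mul_sum]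
    refine Finset.sum_congr rfl fun r hr => ?_
    rw [hg r (Finset.mem_range.1 hr)]; push_cast; ring
  have hone : ∀ V : ℕ, ¬ 2 ∣ V → Cfsg.MemLocalIdeal M ((V : ℂ) - 1) := fun V hV => by
    rw [show (V : ℂ) - 1 = (((V : ℤ) - 1 : ℤ) : ℂ) by push_cast; ring,
      memLocalIdeal_intCast_iff hM]
    omega
  have hζloc : ∀ r, Cfsg.MemLocalRing M (D.ζ ^ r) := fun r => memLocalRing_of_isIntegral
    ((D.isRoot.isIntegral (pow_pos (by norm_num) _)).pow r)
  have h1 : Cfsg.MemLocalIdeal M (y - ((∑ r ∈ Finset.range (2 ^ D.e), g r : ℤ) : ℂ)) := by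
    rw [← hUg, Int.cast_sum, Finset.mul_sum, ← Finset.sum_sub_distrib]
    refine memLocalIdeal_sum _ fun r _ => ?_
    rw [show (U : ℂ) * ((g r : ℂ) * D.ζ ^ r) - (g r : ℂ) =
      (g r : ℂ) * (((U : ℂ) - 1) * D.ζ ^ r + (D.ζ ^ r - 1)) by ring]
    exact memLocalIdeal_mul_left (memLocalRing_intCast _) (memLocalIdeal_add
      (memLocalIdeal_mul_right (hone U hU) (hζloc r)) (D.memLocalIdeal_zeta_sub hM r))
  have h2 : Cfsg.MemLocalIdeal M (y - ((form D.C (D.n χ₀) u : ℤ) : ℂ)) := by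
    have hA : Cfsg.MemLocalIdeal M (y - (U₀ : ℂ) * D.Tu χ₀ u) := by
      rw [Data.Tu, Finset.mul_sum, ← Finset.sum_sub_distrib]
      refine memLocalIdeal_sum _ fun φ _ => ?_
      rw [mul_left_comm, ← hU₀e, ← mul_sub]
      exact memLocalIdeal_mul_left (memLocalRing_intCast _) (D.nS_congr hM hb hz hB hχ hχ₀ φ)
    have hB' : Cfsg.MemLocalIdeal M
        ((U₀ : ℂ) * D.Tu χ₀ u - ((form D.C (D.n χ₀) u : ℤ) : ℂ)) := by
      rw [show (U₀ : ℂ) * D.Tu χ₀ u - ((form D.C (D.n χ₀) u : ℤ) : ℂ) =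
        (U₀ : ℂ) * (D.Tu χ₀ u - ((form D.C (D.n χ₀) u : ℤ) : ℂ)) +
          ((U₀ : ℂ) - 1) * ((form D.C (D.n χ₀) u : ℤ) : ℂ) by ring]
      exact memLocalIdeal_add (memLocalIdeal_mul_left (memLocalRing_natCast _) (D.Tu_congr hM χ₀ u))
        (memLocalIdeal_mul_right (hone U₀ hU₀) (memLocalRing_intCast _))
    have := memLocalIdeal_add hA hB'
    rwa [sub_add_sub_cancel] at this
  have := memLocalIdeal_sub h2 h1
  push_cast
  convert this using 1
  push_cast; ring

open Classical in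
/-- The bound for a major subsection of rank at most three. -/
theorem two_block_bound (hM : Cfsg.IsPModular 2 M) (hz : ∃ k, orderOf z = 2 ^ k)
    (hind : Cfsg.IsInducedBlock M (Subgroup.centralizer ({z} : Set G)) b B)
    (hd : Cfsg.blockDefect 2 b = Cfsg.blockDefect 2 B) (hl : Cfsg.blockRank 2 b ≤ 3) :
    3 * (B.toFinset.filter fun χ : IrrCharacter G => Cfsg.blockHeight 2 B (χ : G → ℂ) = 0).card +
      2 * ∑ χ ∈ B.toFinset.filter (fun χ : IrrCharacter G =>
          ¬ Cfsg.blockHeight 2 B (χ : G → ℂ) = 0), 2 ^ Cfsg.blockHeight 2 B (χ : G → ℂ) ≤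
      3 * 2 ^ Cfsg.blockDefect 2 B := by
  obtain ⟨D, hD⟩ := exists_data (M := M) (B := B) hz hd
  have hb := hind.1
  have hB := hind.2.1
  obtain ⟨ξ, hξ, h00, hrank, hK⟩ := D.exists_base hM hind (hD.trans hd.symm)
  obtain ⟨χ₀, hχ₀, h0⟩ := Blocks.exists_height_zero (p := 2) hM hB
  have hcoe := fun u {χ : IrrCharacter G} (hχ : χ ∈ B) => D.exists_coeff hM hb hz hB hD hχ₀ h0 u hχ
  have hzf : ∀ a : ℤ, (2 : ℤ) ∣ a ↔ (a : ZMod 2) = 0 := fun a =>
    (ZMod.intCast_zmod_eq_zero_iff_dvd a 2).symm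
  have hone : ∀ a : ℤ, ¬ (2 : ℤ) ∣ a → (a : ZMod 2) = 1 := fun a ha => by
    rw [hzf] at ha
    exact (zmod_two_cases _).resolve_left ha
  have hC00 : (D.C ξ ξ : ZMod 2) = 1 := hone _ h00
  have hr2 : ∀ u w, (form D.C u w : ZMod 2) =
      (form D.C u (single ξ) : ZMod 2) * (form D.C w (single ξ) : ZMod 2) := fun u w => by
    have h := (hzf _).1 (hrank u w)
    rw [Int.cast_sub, Int.cast_mul, Int.cast_mul, hC00, mul_one, sub_eq_zero] at h
    exact h
  have hK0 : (form D.C (D.n χ₀) (single ξ) : ZMod 2) = 1 := hone _ (hK χ₀ hχ₀ h0)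
  rw [← hD]
  suffices hgoal : (3 : ℤ) * ((B.toFinset.filter fun χ : IrrCharacter G =>
      Cfsg.blockHeight 2 B (χ : G → ℂ) = 0).card : ℤ) +
      2 * ∑ χ ∈ B.toFinset.filter (fun χ : IrrCharacter G =>
          ¬ Cfsg.blockHeight 2 B (χ : G → ℂ) = 0), (2 : ℤ) ^ Cfsg.blockHeight 2 B (χ : G → ℂ) ≤
      3 * 2 ^ D.d by exact_mod_cast hgoal
  by_cases h1 : ∃ u, form D.C u u = 1
  · obtain ⟨u, hu⟩ := h1
    have hlow : ∀ χ ∈ B.toFinset,
        (4 : ℤ) ^ Cfsg.blockHeight 2 B (χ : G → ℂ) ≤ D.avg (D.proj u) χ := by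
      intro χ hχ
      obtain ⟨g, hg, hpar⟩ := hcoe u (Set.mem_toFinset.1 hχ)
      rw [D.avg_eq]
      simp only [form_proj]
      have hK0u : ¬ (2 : ℤ) ∣ form D.C (D.n χ₀) u := fun h => by
        rw [hzf, hr2, hK0, one_mul] at h
        have h2 := hr2 u u
        rw [hu, h, zero_mul, Int.cast_one] at h2
        exact one_ne_zero h2
      obtain ⟨r, hr, hgr⟩ : ∃ r ∈ Finset.range (2 ^ D.e), g r ≠ 0 := by
        by_contra hcon
        push Not at hcon
        rw [Finset.sum_eq_zero hcon, zero_sub, dvd_neg] at hpar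
        exact hK0u hpar
      refine le_trans ?_ (Finset.single_le_sum (f := fun r => form D.C (D.W χ r) u ^ 2)
        (fun r _ => sq_nonneg _) hr)
      rw [hg r (Finset.mem_range.1 hr), mul_pow, ← pow_mul, mul_comm _ 2, pow_mul,
        show (2 : ℤ) ^ 2 = 4 by norm_num]
      exact le_mul_of_one_le_right (by positivity) (Int.add_one_le_iff.2 (sq_pos_iff.2 hgr))
    have hsum := Finset.sum_le_sum hlow
    rw [D.sum_avg_proj hM hz hind u, hu, mul_one,
      ← Finset.sum_filter_add_sum_filter_not B.toFinset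
        (fun χ : IrrCharacter G => Cfsg.blockHeight 2 B (χ : G → ℂ) = 0)] at hsum
    rw [Finset.sum_congr rfl (fun χ hχ => by rw [(Finset.mem_filter.1 hχ).2, pow_zero]),
      Finset.sum_const, nsmul_eq_mul, mul_one] at hsum
    have hle : 2 * ∑ χ ∈ B.toFinset.filter (fun χ : IrrCharacter G =>
          ¬ Cfsg.blockHeight 2 B (χ : G → ℂ) = 0), (2 : ℤ) ^ Cfsg.blockHeight 2 B (χ : G → ℂ) ≤
        3 * ∑ χ ∈ B.toFinset.filter (fun χ : IrrCharacter G =>
          ¬ Cfsg.blockHeight 2 B (χ : G → ℂ) = 0), (4 : ℤ) ^ Cfsg.blockHeight 2 B (χ : G → ℂ) := by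
      rw [Finset.mul_sum, Finset.mul_sum]
      exact Finset.sum_le_sum fun χ _ => mul_le_mul (by norm_num)
        (pow_le_pow_left₀ (by norm_num) (by norm_num) _) (by positivity) (by norm_num)
    norm_num at hsum
    linarith
  · push Not at h1
    have hm : ∀ χ ∈ B.toFinset, (2 : ℤ) ≤ D.avg D.C χ := by
      intro χ hχ
      have h := le_sum_tau_form Nat.prime_two D.isRoot D.C D.C_symm D.form_nonneg 2 (fun w => ?_)
        (D.n χ) D.j D.j_lt ⟨ξ, ?_⟩
      · simpa [Data.avg] using h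
      · have := D.form_nonneg w
        have := h1 w
        omega
      · have := D.Tu_ne_zero hM hb hz hB hD hχ₀ h0 (hK χ₀ hχ₀ h0) (Set.mem_toFinset.1 hχ)
        rwa [D.Tu_single] at this
    have h3 : ∀ χ ∈ B.toFinset.filter (fun χ : IrrCharacter G =>
        Cfsg.blockHeight 2 B (χ : G → ℂ) = 0), (3 : ℤ) ≤ D.avg D.C χ := by
      intro χ hχ
      obtain ⟨hχB, hh⟩ := Finset.mem_filter.1 hχ
      obtain ⟨g, hg, hpar⟩ := hcoe (single ξ) (Set.mem_toFinset.1 hχB)
      have h2 := hm χ hχB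
      have hodd : ¬ (2 : ℤ) ∣ D.avg D.C χ := by
        rw [hzf, D.avg_eq, Int.cast_sum]
        intro hzero
        have hg' : ∀ r ∈ Finset.range (2 ^ D.e),
            (form D.C (D.W χ r) (D.W χ r) : ZMod 2) = (g r : ZMod 2) := fun r hr => by
          rw [hr2, hg r (Finset.mem_range.1 hr), hh, pow_zero, one_mul]
          exact zmod_two_mul_self _
        rw [Finset.sum_congr rfl hg'] at hzero
        have := (hzf _).1 hpar
        rw [Int.cast_sub, Int.cast_sum, hzero, hK0] at this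
        exact zmod_two_ne this
      omega
    have h4 : ∀ χ ∈ B.toFinset.filter (fun χ : IrrCharacter G =>
        ¬ Cfsg.blockHeight 2 B (χ : G → ℂ) = 0),
        2 * (2 : ℤ) ^ Cfsg.blockHeight 2 B (χ : G → ℂ) ≤ D.avg D.C χ := by
      intro χ hχ
      obtain ⟨hχB, hh⟩ := Finset.mem_filter.1 hχ
      set N := 2 ^ D.e
      let W : IrrCharacter ↥(Subgroup.centralizer ({z} : Set G)) → ℤ :=
        fun x => ∑ r ∈ Finset.range N, D.W χ r x
      obtain ⟨gW, hgW, hparW⟩ := hcoe W (Set.mem_toFinset.1 hχB)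
      obtain ⟨gξ, hgξ, -⟩ := hcoe (single ξ) (Set.mem_toFinset.1 hχB)
      choose gs hgs _ using fun s : ℕ => hcoe (D.W χ s) (Set.mem_toFinset.1 hχB)
      set h := Cfsg.blockHeight 2 B (χ : G → ℂ)
      have hpow : (2 : ℤ) ^ h ≠ 0 := pow_ne_zero _ two_ne_zero
      have hsymm : ∀ r < N, ∀ s < N, gs s r = gs r s := fun r hr s hs => by
        refine mul_left_cancel₀ hpow ?_
        rw [← hgs s r hr, ← hgs r s hs, form_comm D.C D.C_symm]
      have hrow : ∀ r < N, gW r = ∑ s ∈ Finset.range N, gs s r := fun r hr => by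
        refine mul_left_cancel₀ hpow ?_
        rw [← hgW r hr, form_sum_right, Finset.mul_sum]
        exact Finset.sum_congr rfl fun s _ => hgs s r hr
      have hfW : (form D.C W (single ξ) : ZMod 2) = 0 := by
        rw [form_comm D.C D.C_symm, form_sum_right, Int.cast_sum]
        refine Finset.sum_eq_zero fun r hr => ?_
        rw [form_comm D.C D.C_symm, hgξ r (Finset.mem_range.1 hr), Int.cast_mul, Int.cast_pow,
          show ((2 : ℤ) : ZMod 2) = 0 from rfl, zero_pow hh, zero_mul]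
      have hdiag : (∑ r ∈ Finset.range N, (gs r r : ZMod 2)) = 0 := by
        have h5 := (hzf _).1 hparW
        rw [Int.cast_sub, Int.cast_sum, hr2, hfW, mul_zero, sub_zero] at h5
        rw [← h5]
        let f : ℕ → ℕ → ZMod 2 := fun r s => if r < N ∧ s < N then (gs s r : ZMod 2) else 0
        have hf : ∀ r s, f r s = f s r := fun r s => by
          simp only [f]
          by_cases hrs : r < N ∧ s < N
          · rw [if_pos hrs, if_pos ⟨hrs.2, hrs.1⟩, hsymm r hrs.1 s hrs.2]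
          · rw [if_neg hrs, if_neg fun hc => hrs ⟨hc.2, hc.1⟩]
        calc ∑ r ∈ Finset.range N, (gs r r : ZMod 2)
            = ∑ r ∈ Finset.range N, f r r := Finset.sum_congr rfl fun r hr => by
              simp [f, Finset.mem_range.1 hr]
          _ = ∑ r ∈ Finset.range N, ∑ s ∈ Finset.range N, f r s := (sum_symm_zmod_two f hf N).symm
          _ = _ := Finset.sum_congr rfl fun r hr => by
              rw [hrow r (Finset.mem_range.1 hr), Int.cast_sum]
              exact Finset.sum_congr rfl fun s hs => by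
                simp [f, Finset.mem_range.1 hr, Finset.mem_range.1 hs]
      obtain ⟨q, hq⟩ : (2 : ℤ) ∣ ∑ r ∈ Finset.range N, gs r r := by
        rw [hzf, Int.cast_sum]; exact hdiag
      have hav : D.avg D.C χ = (2 : ℤ) ^ h * (2 * q) := by
        rw [D.avg_eq, ← hq, Finset.mul_sum]
        exact Finset.sum_congr rfl fun r hr => hgs r r (Finset.mem_range.1 hr)
      have h2 := hm χ hχB
      have hP : (0 : ℤ) < 2 ^ h := by positivity
      have hq1 : 1 ≤ q := by
        by_contra hcon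
        push Not at hcon
        nlinarith
      nlinarith
    have hsum := add_le_add (Finset.sum_le_sum h3) (Finset.sum_le_sum h4)
    rw [Finset.sum_filter_add_sum_filter_not, D.sum_avg_C hM hz hind, Finset.sum_const,
      nsmul_eq_mul, ← Finset.mul_sum] at hsum
    have h5 : ((2 : ℤ) ^ D.d) * (Cfsg.blockRank 2 b : ℤ) ≤ (2 : ℤ) ^ D.d * 3 :=
      mul_le_mul_of_nonneg_left (by exact_mod_cast hl) (by positivity)
    norm_num at hsum
    linarith

end CfsgLib.MajorSubsection
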