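import Cfsg.Agent.Blocks.Idempotent
import Cfsg.Agent.BlockPairs.Orbit
import Mathlib.GroupTheory.QuotientGroup.Basic
import Mathlib.RingTheory.Noetherian.Basic
import Mathlib.RingTheory.Finiteness.Quotient

/-!
# Reduced central characters and a normal p-subgroup

For `Q` a normal p-subgroup the kernel of `k[G] → k[G/Q]` is nilpotent, so the reduced central
character of a class sum only sees the points centralizing `Q` when `C(Q) ≤ Q`.
-/

set_option autoImplicit false
set_option linter.all false

namespace CfsgLib.BlockPairing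

open CfsgLib.Blocks

variable {k : Type*} [Field k] {G : Type*} [Group G]

/-- The left ideal of vectors on which `Q` acts trivially modulo `W`. -/
noncomputable def fixStep (Q : Subgroup G) [hQ : Q.Normal] (W : Ideal (MonoidAlgebra k G)) :
    Ideal (MonoidAlgebra k G) where
  carrier := {v | ∀ q ∈ Q, MonoidAlgebra.single q 1 * v - v ∈ W}
  zero_mem' := fun q _ => by simp
  add_mem' := fun {a b} ha hb q hq => by
    rw [mul_add, add_sub_add_comm]; exact W.add_mem (ha q hq) (hb q hq)
  smul_mem' := fun c v hv => by
    induction c using MonoidAlgebra.induction_linear with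
    | zero => intro q _; simp
    | add x y hx hy =>
      intro q hq
      rw [add_smul, mul_add, add_sub_add_comm]
      exact W.add_mem (hx q hq) (hy q hq)
    | single g r =>
      intro q hq
      have h1 : g⁻¹ * q * g ∈ Q := by simpa using hQ.conj_mem q hq g⁻¹
      have : MonoidAlgebra.single q (1 : k) * (MonoidAlgebra.single g r • v) -
          MonoidAlgebra.single g r • v =
          MonoidAlgebra.single g r * (MonoidAlgebra.single (g⁻¹ * q * g) 1 * v - v) := by
        rw [smul_eq_mul, mul_sub, ← mul_assoc, ← mul_assoc, MonoidAlgebra.single_mul_single,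
          MonoidAlgebra.single_mul_single, one_mul, mul_one,
          show g * (g⁻¹ * q * g) = q * g by group]
      rw [this]
      exact W.mul_mem_left _ (hv _ h1)

/-- The ascending series of `Q`-fixed left ideals. -/
noncomputable def fixSeries (Q : Subgroup G) [Q.Normal] : ℕ → Ideal (MonoidAlgebra k G)
  | 0 => ⊥
  | j + 1 => fixStep Q (fixSeries Q j)

variable [Finite G]

theorem exists_fixSeries_eq_top {p : ℕ} [Fact p.Prime] [CharP k p] (Q : Subgroup G) [Q.Normal]
    (hQ : IsPGroup p Q) : ∃ n, fixSeries (k := k) Q n = ⊤ := by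
  have hmono : Monotone (fixSeries (k := k) Q) := by
    refine monotone_nat_of_le_succ fun j => ?_
    induction j with
    | zero => exact bot_le
    | succ j ih =>
      intro v hv q hq
      exact ih (hv q hq)
  haveI : Module.Finite k (MonoidAlgebra k G) := inferInstance
  haveI : IsNoetherian (MonoidAlgebra k G) (MonoidAlgebra k G) :=
    isNoetherian_of_tower k inferInstance
  obtain ⟨n, hn⟩ := monotone_stabilizes_iff_noetherian.2 inferInstance ⟨fixSeries (k := k) Q, hmono⟩
  refine ⟨n, ?_⟩
  by_contra hne
  let W := fixSeries (k := k) Q n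
  let f : Q →* MonoidAlgebra k G := (MonoidAlgebra.of k G).comp Q.subtype
  letI : DistribMulAction Q (MonoidAlgebra k G ⧸ W) := DistribMulAction.compHom _ f
  have hp : ∀ v : MonoidAlgebra k G ⧸ W, p • v = 0 := by
    intro v
    obtain ⟨a, rfl⟩ := Submodule.Quotient.mk_surjective W v
    rw [← Submodule.Quotient.mk_smul, ← Nat.cast_smul_eq_nsmul k p a, CharP.cast_eq_zero k p,
      zero_smul, Submodule.Quotient.mk_zero]
  have hone : (Submodule.Quotient.mk 1 : MonoidAlgebra k G ⧸ W) ≠ 0 := fun h =>
    hne ((Ideal.eq_top_iff_one _).2 ((Submodule.Quotient.mk_eq_zero W).1 h))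
  obtain ⟨w, hw, -, hfix⟩ := CfsgLib.BlockPairs.exists_fixed_ne_zero hQ hp hone
  obtain ⟨a, rfl⟩ := Submodule.Quotient.mk_surjective W w
  refine hw ((Submodule.Quotient.mk_eq_zero W).2 ?_)
  have ha : a ∈ fixSeries (k := k) Q (n + 1) := by
    intro q hq
    exact (Submodule.Quotient.eq W).1 (hfix ⟨q, hq⟩)
  have e : fixSeries (k := k) Q n = fixSeries (k := k) Q (n + 1) := hn (n + 1) (Nat.le_succ n)
  show a ∈ fixSeries (k := k) Q n
  rw [e]; exact ha

/-- The kernel of `k[G] → k[G/Q]` is nilpotent for a normal p-subgroup `Q`. -/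
theorem isNilpotent_of_map_eq_zero {p : ℕ} [Fact p.Prime] [CharP k p] (Q : Subgroup G) [Q.Normal]
    (hQ : IsPGroup p Q) {a : MonoidAlgebra k G}
    (ha : MonoidAlgebra.mapDomainRingHom k (QuotientGroup.mk' Q) a = 0) : IsNilpotent a := by
  classical
  obtain ⟨n, hn⟩ := exists_fixSeries_eq_top (k := k) Q hQ
  have key : ∀ j, ∀ v ∈ fixSeries (k := k) Q (j + 1), a * v ∈ fixSeries (k := k) Q j := by
    intro j v hv
    have hdec : ∀ b : MonoidAlgebra k G, b * v -
        (MonoidAlgebra.mapDomainRingHom k (QuotientGroup.mk' Q) b).coeff.sum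
          (fun x r => MonoidAlgebra.single x.out r * v) ∈ fixSeries (k := k) Q j := by
      intro b
      induction b using MonoidAlgebra.induction_linear with
      | zero => simp
      | add x y hx hy =>
        rw [map_add, MonoidAlgebra.coeff_add, Finsupp.sum_add_index' (by simp)
          (fun _ _ _ => by rw [MonoidAlgebra.single_add, add_mul]), add_mul, add_sub_add_comm]
        exact Ideal.add_mem _ hx hy
      | single g r =>
        rw [show MonoidAlgebra.mapDomainRingHom k (QuotientGroup.mk' Q) (MonoidAlgebra.single g r) =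
          MonoidAlgebra.single (QuotientGroup.mk g : G ⧸ Q) r by simp,
          MonoidAlgebra.coeff_single, Finsupp.sum_single_index (by simp)]
        set s := (QuotientGroup.mk g : G ⧸ Q).out
        have hgs : g * s⁻¹ ∈ Q := by
          rw [← QuotientGroup.eq_one_iff, QuotientGroup.mk_mul, QuotientGroup.mk_inv,
            QuotientGroup.out_eq', mul_inv_cancel]
        have hsv : MonoidAlgebra.single s r * v ∈ fixSeries (k := k) Q (j + 1) :=
          Ideal.mul_mem_left _ _ hv
        have := hsv _ hgs
        rwa [← mul_assoc, MonoidAlgebra.single_mul_single, one_mul, inv_mul_cancel_right] at this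
    have := hdec a
    rwa [ha, MonoidAlgebra.coeff_zero, Finsupp.sum_zero_index, sub_zero] at this
  have hpow : ∀ j, ∀ v ∈ fixSeries (k := k) Q j, a ^ j * v = 0 := by
    intro j
    induction j with
    | zero => intro v hv; simpa [fixSeries] using hv
    | succ j ih => intro v hv; rw [pow_succ, mul_assoc, ih _ (key j v hv)]
  exact ⟨n, by simpa using hpow n 1 (hn ▸ Submodule.mem_top)⟩

end CfsgLib.BlockPairing

namespace CfsgLib.BlockPairing

open CfsgLib.Blocks

variable {G : Type*} [Group G] [Fintype G] {M : Ideal Cfsg.AlgInt} [M.IsPrime]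

/-- If `C_G(Q) ≤ Q` for a normal p-subgroup `Q`, a reduced central character sends a class sum to
the number of its points centralizing `Q`. -/
theorem omegaBar_classSum_eq_card {p : ℕ} [Fact p.Prime] (hM : Cfsg.IsPModular p M)
    (Q : Subgroup G) [Q.Normal] (hQ : IsPGroup p Q)
    (hC : Subgroup.centralizer (Q : Set G) ≤ Q) (C : ConjClasses G) (χ : Cfsg.IrrCharacter G) :
    omegaBar M χ (classSum _ C) =
      (Nat.card {x : G // ConjClasses.mk x = C ∧ x ∈ Subgroup.centralizer (Q : Set G)} : Res M) := by
  classical
  haveI := charP_res hM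
  set π := MonoidAlgebra.mapDomainRingHom (Res M) (QuotientGroup.mk' Q)
  set n : ℕ := Nat.card {x : G // ConjClasses.mk x = C ∧ x ∈ Subgroup.centralizer (Q : Set G)}
  letI : MulAction Q G := MulAction.compHom G (ConjAct.toConjAct.toMonoidHom.comp Q.subtype)
  have hsmul : ∀ (q : Q) (x : G), q • x = (q : G) * x * (q : G)⁻¹ := fun _ _ => rfl
  let f : G → MonoidAlgebra (Res M) (G ⧸ Q) := fun x =>
    if ConjClasses.mk x = C then MonoidAlgebra.single (QuotientGroup.mk x) 1 else 0
  have hcs : π (classSum (Res M) C : MonoidAlgebra (Res M) G) = ∑ x, f x := by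
    have : (classSum (Res M) C : MonoidAlgebra (Res M) G) =
        ∑ x : G, MonoidAlgebra.single x (if ConjClasses.mk x = C then (1 : Res M) else 0) := by
      refine MonoidAlgebra.ext (Finsupp.ext fun y => ?_)
      rw [MonoidAlgebra.coeff_sum, Finsupp.finsetSum_apply, Finset.sum_eq_single y]
      · simp [coeff_classSum]
      · intro b _ hb; simp [hb]
      · simp
    rw [this, map_sum]
    refine Finset.sum_congr rfl fun x _ => ?_
    simp only [f, π]
    split_ifs <;> simp
  have hfix : ∑ x, f x = MonoidAlgebra.single (1 : G ⧸ Q) (n : Res M) := by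
    rw [CfsgLib.BlockPairs.sum_eq_sum_fixed (R := Q) hQ
      (fun v => by rw [← Nat.cast_smul_eq_nsmul (Res M) p v, CharP.cast_eq_zero, zero_smul]) f ?inv]
    case inv =>
      intro q x
      have h1 : ConjClasses.mk (q • x) = ConjClasses.mk x :=
        ConjClasses.mk_eq_mk_iff_isConj.2 (isConj_iff.2 ⟨(q : G), rfl⟩).symm
      have h2 : (QuotientGroup.mk (q • x) : G ⧸ Q) = QuotientGroup.mk x := by
        rw [hsmul, QuotientGroup.mk_mul, QuotientGroup.mk_mul, QuotientGroup.mk_inv,
          (QuotientGroup.eq_one_iff (q : G)).2 q.2, one_mul, inv_one, mul_one]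
      simp only [f, h1, h2]
    have hiff : ∀ x : G, (∀ q : Q, q • x = x) ↔ x ∈ Subgroup.centralizer (Q : Set G) := by
      intro x
      rw [Subgroup.mem_centralizer_iff]
      refine ⟨fun h q hq => ?_, fun h q => ?_⟩
      · have := h ⟨q, hq⟩
        rw [hsmul] at this
        exact mul_inv_eq_iff_eq_mul.1 this
      · rw [hsmul, mul_inv_eq_iff_eq_mul]
        exact h q q.2
    have hval : ∀ x ∈ Finset.univ.filter (fun x : G => ∀ q : Q, q • x = x),
        f x = if ConjClasses.mk x = C then MonoidAlgebra.single (1 : G ⧸ Q) (1 : Res M) else 0 := by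
      intro x hx
      have hxQ : x ∈ Q := hC ((hiff x).1 (Finset.mem_filter.1 hx).2)
      simp only [f, (QuotientGroup.eq_one_iff x).2 hxQ]
    rw [Finset.sum_congr rfl hval, ← Finset.sum_filter, Finset.sum_const, Finset.filter_filter,
      MonoidAlgebra.smul_single, nsmul_one]
    congr 2
    simp only [n, Nat.card_eq_fintype_card, Fintype.card_subtype]
    exact congrArg Finset.card (Finset.filter_congr fun x _ => by rw [hiff, and_comm])
  have hnil : IsNilpotent (classSum (Res M) C - scalar (n : Res M) : Ctr (Res M) G) := by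
    obtain ⟨N, hN⟩ := isNilpotent_of_map_eq_zero Q hQ
      (a := (classSum (Res M) C : MonoidAlgebra (Res M) G) - MonoidAlgebra.single 1 (n : Res M))
      (by rw [map_sub]; show π _ - π _ = 0; rw [hcs, hfix]; simp [π])
    refine ⟨N, Subtype.ext ?_⟩
    rw [SubmonoidClass.coe_pow, AddSubgroupClass.coe_sub, coe_scalar, hN]
    rfl
  have := (hnil.map (omegaBar M χ))
  rw [map_sub, omegaBar_scalar, isNilpotent_iff_eq_zero, sub_eq_zero] at this
  exact this

end CfsgLib.BlockPairing
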