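import Cfsg.Agent.Blocks.Sections
import Cfsg.Agent.Blocks.InducedDefect
import Cfsg.Agent.BlockPairing.RegularInner
import Cfsg.Agent.Characters.Integrality
import Cfsg.Agent.GaloisConj.Basic
import Mathlib.NumberTheory.NumberField.Cyclotomic.Basic

/-!
# The number of p-conjugates of an irreducible character

The sum of the p-conjugates is divisible, as an integral cyclotomic combination, by the p-part of
the degree of the p-power cyclotomic extension; column orthogonality bounds `r * χ 1`, and equality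
forces all values into a smaller field through the defect group.
-/

set_option autoImplicit false
set_option linter.unusedSectionVars false
set_option linter.style.haveILetI false

namespace CfsgLib.PConjOrbit

open Cfsg CfsgLib.Blocks
open scoped ComplexConjugate

universe u

theorem mem_adjoin_of_isIntegral_aux {n : ℕ} [NeZero n] {R : Type} [Field R] [CharZero R]
    [IsCyclotomicExtension {n} ℚ R] (i : R →+* ℂ) {z : R} (hz : IsPrimitiveRoot z n) {ζ : ℂ}
    (hζ : IsPrimitiveRoot ζ n) {x : ℂ}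
    (hx : x ∈ Algebra.adjoin ℤ ({ζ} : Set ℂ)) (c : ℚ) (hint : IsIntegral ℤ ((c : ℂ) * x)) :
    (c : ℂ) * x ∈ Algebra.adjoin ℤ ({ζ} : Set ℂ) := by
  let iZ : R →ₐ[ℤ] ℂ := i.toIntAlgHom
  have hiz : IsPrimitiveRoot (iZ z) n := hz.map_of_injective i.injective
  have hmap : Algebra.adjoin ℤ ({ζ} : Set ℂ) = (Algebra.adjoin ℤ ({z} : Set R)).map iZ := by
    rw [AlgHom.map_adjoin_singleton]
    refine le_antisymm (Algebra.adjoin_le ?_) (Algebra.adjoin_le ?_)
    · rw [Set.singleton_subset_iff]
      obtain ⟨j, -, hj⟩ := hiz.eq_pow_of_pow_eq_one hζ.pow_eq_one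
      rw [← hj]
      exact pow_mem (Algebra.subset_adjoin (Set.mem_singleton _)) j
    · rw [Set.singleton_subset_iff]
      obtain ⟨j, -, hj⟩ := hζ.eq_pow_of_pow_eq_one hiz.pow_eq_one
      rw [← hj]
      exact pow_mem (Algebra.subset_adjoin (Set.mem_singleton _)) j
  rw [hmap] at hx ⊢
  obtain ⟨y, -, rfl⟩ := hx
  change IsIntegral ℤ ((c : ℂ) * i y) at hint
  change (c : ℂ) * i y ∈ _
  rw [← map_ratCast i c, ← map_mul] at hint ⊢
  haveI := IsCyclotomicExtension.Rat.isIntegralClosure_adjoin_singleton hz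
  obtain ⟨w, hw⟩ := (IsIntegralClosure.isIntegral_iff (A := Algebra.adjoin ℤ ({z} : Set R))).1
    ((isIntegral_algHom_iff iZ i.injective).1 hint)
  exact ⟨(c : R) * y, hw ▸ w.2, rfl⟩

/-- An integral rational multiple of a cyclotomic integer is a cyclotomic integer. -/
theorem mem_adjoin_of_isIntegral {n : ℕ} [NeZero n] {ζ : ℂ} (hζ : IsPrimitiveRoot ζ n) {x : ℂ}
    (hx : x ∈ Algebra.adjoin ℤ ({ζ} : Set ℂ)) (c : ℚ) (hint : IsIntegral ℤ ((c : ℂ) * x)) :
    (c : ℂ) * x ∈ Algebra.adjoin ℤ ({ζ} : Set ℂ) :=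
  haveI : IsCyclotomicExtension {n} ℚ (CyclotomicField n ℚ) :=
    CyclotomicField.isCyclotomicExtension n ℚ
  mem_adjoin_of_isIntegral_aux
    (IsAlgClosed.lift : CyclotomicField n ℚ →ₐ[ℚ] ℂ).toRingHom
    (IsCyclotomicExtension.zeta_spec n ℚ (CyclotomicField n ℚ)) hζ hx c hint

theorem isIntegral_int (k : ℤ) : IsIntegral ℤ (k : ℂ) := by
  rw [← eq_intCast (algebraMap ℤ ℂ)]; exact isIntegral_algebraMap

theorem factorization_pred_self {p : ℕ} (hp : p.Prime) : (p - 1).factorization p = 0 :=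
  Nat.factorization_eq_zero_of_not_dvd fun h => by
    have h1 := hp.one_lt
    have h2 : p ≤ p - 1 := Nat.le_of_dvd (Nat.sub_pos_of_lt hp.one_lt) h
    omega

open Classical in
/-- The sum of the primitive-type powers of a root of unity. -/
theorem exists_ramanujan {p a : ℕ} [hp : Fact p.Prime] (ha : 0 < a) {u : ℂ}
    (hu : u ^ p ^ a = 1) :
    ∃ k : ℤ, ∑ c : (ZMod (p ^ a))ˣ, u ^ (c : ZMod (p ^ a)).val = ((p : ℂ) ^ (a - 1)) * k := by
  haveI : NeZero (p ^ a) := ⟨pow_ne_zero _ hp.out.ne_zero⟩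
  have hgeo : ∀ (v : ℂ) (m : ℕ), v ^ m = 1 → ∃ k : ℤ, ∑ j ∈ Finset.range m, v ^ j = (m : ℂ) * k := by
    intro v m hv
    by_cases h1 : v = 1
    · exact ⟨1, by simp [h1]⟩
    · refine ⟨0, ?_⟩
      have := geom_sum_mul v m
      rw [hv, sub_self, mul_eq_zero, or_iff_left (sub_ne_zero.2 h1)] at this
      rw [this]; simp
  obtain ⟨k1, hk1⟩ := hgeo u (p ^ a) hu
  have hpa : p ^ a = p * p ^ (a - 1) := by rw [← pow_succ', Nat.sub_add_cancel ha]
  obtain ⟨k2, hk2⟩ := hgeo (u ^ p) (p ^ (a - 1)) (by rw [← pow_mul, ← hpa, hu])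
  refine ⟨(p : ℤ) * k1 - k2, ?_⟩
  have hunits : ∑ c : (ZMod (p ^ a))ˣ, u ^ (c : ZMod (p ^ a)).val =
      ∑ j ∈ (Finset.range (p ^ a)).filter (fun j => ¬ p ∣ j), u ^ j := by
    refine Finset.sum_bij (fun c _ => (c : ZMod (p ^ a)).val) (fun c _ => ?_) (fun c _ c' _ h => ?_)
      (fun j hj => ?_) (fun c _ => rfl)
    · refine Finset.mem_filter.2 ⟨Finset.mem_range.2 (ZMod.val_lt _), fun hd => ?_⟩
      exact (hp.out.coprime_iff_not_dvd).1
        ((ZMod.val_coe_unit_coprime c).coprime_dvd_right (dvd_pow_self p ha.ne')).symm hd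
    · exact Units.ext (ZMod.val_injective _ h)
    · obtain ⟨hj1, hj2⟩ := Finset.mem_filter.1 hj
      refine ⟨ZMod.unitOfCoprime j (((hp.out.coprime_iff_not_dvd).2 hj2).symm.pow_right a),
        Finset.mem_univ _, ?_⟩
      rw [ZMod.coe_unitOfCoprime, ZMod.val_natCast, Nat.mod_eq_of_lt (Finset.mem_range.1 hj1)]
  have hmult : ∑ j ∈ (Finset.range (p ^ a)).filter (fun j => p ∣ j), u ^ j =
      ∑ i ∈ Finset.range (p ^ (a - 1)), (u ^ p) ^ i := by
    refine (Finset.sum_bij (fun i _ => p * i) (fun i hi => ?_) (fun i _ i' _ h => ?_)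
      (fun j hj => ?_) (fun i _ => (pow_mul u p i).symm)).symm
    · refine Finset.mem_filter.2 ⟨Finset.mem_range.2 ?_, dvd_mul_right _ _⟩
      rw [hpa]
      exact Nat.mul_lt_mul_of_pos_left (Finset.mem_range.1 hi) hp.out.pos
    · exact Nat.eq_of_mul_eq_mul_left hp.out.pos h
    · obtain ⟨hj1, ⟨i, rfl⟩⟩ := Finset.mem_filter.1 hj
      refine ⟨i, Finset.mem_range.2 ?_, rfl⟩
      have := Finset.mem_range.1 hj1
      rw [hpa] at this
      exact Nat.lt_of_mul_lt_mul_left this
  have hsplit := Finset.sum_filter_add_sum_filter_not (Finset.range (p ^ a)) (fun j => p ∣ j)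
    (fun j => u ^ j)
  rw [hmult, hk2, hk1, ← hunits] at hsplit
  have hpaC : ((p ^ a : ℕ) : ℂ) = (p : ℂ) * ((p ^ (a - 1) : ℕ) : ℂ) := by exact_mod_cast hpa
  rw [hpaC] at hsplit
  push_cast at hsplit ⊢
  linear_combination hsplit

section Orbit

variable {G : Type u} [Group G] [Fintype G] {p : ℕ} [hp : Fact p.Prime]

/-- The exponent attached to a unit modulo the p-part of the group order. -/
noncomputable def expo (p : ℕ) [Fact p.Prime] (G : Type u) [Group G] [Fintype G]
    (c : (ZMod (p ^ (Nat.card G).factorization p))ˣ) : ℕ :=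
  (Nat.chineseRemainder ((Nat.coprime_ordCompl (Fact.out : p.Prime)
    (Nat.card_pos (α := G)).ne').pow_left ((Nat.card G).factorization p)) (c : ZMod (p ^ (Nat.card G).factorization p)).val 1).1

theorem card_eq : p ^ (Nat.card G).factorization p *
    (Nat.card G / p ^ (Nat.card G).factorization p) = Nat.card G :=
  Nat.ordProj_mul_ordCompl_eq_self _ _

theorem expo_mod (c : (ZMod (p ^ (Nat.card G).factorization p))ˣ) :
    expo p G c ≡ (c : ZMod (p ^ (Nat.card G).factorization p)).val
        [MOD p ^ (Nat.card G).factorization p] ∧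
      expo p G c ≡ 1 [MOD Nat.card G / p ^ (Nat.card G).factorization p] :=
  by unfold expo; exact (Nat.chineseRemainder _ _ _).2

theorem modEq_card {x y : ℕ} (h1 : x ≡ y [MOD p ^ (Nat.card G).factorization p])
    (h2 : x ≡ y [MOD Nat.card G / p ^ (Nat.card G).factorization p]) :
    x ≡ y [MOD Nat.card G] := by
  have := (Nat.modEq_and_modEq_iff_modEq_mul
    ((Nat.coprime_ordCompl (Fact.out : p.Prime) (Nat.card_pos (α := G)).ne').pow_left _)).1 ⟨h1, h2⟩
  rwa [card_eq] at this

theorem pow_expo (g : G) {x y : ℕ} (h : x ≡ y [MOD Nat.card G]) : g ^ x = g ^ y := by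
  rw [pow_eq_pow_iff_modEq]
  exact h.of_dvd (orderOf_dvd_natCard g)

theorem pow_expo_mul (g : G) (c d : (ZMod (p ^ (Nat.card G).factorization p))ˣ) :
    g ^ expo p G (c * d) = (g ^ expo p G d) ^ expo p G c := by
  rw [← pow_mul]
  refine pow_expo g (modEq_card (p := p) ?_ ?_)
  · refine (expo_mod _).1.trans ?_
    rw [Units.val_mul, ZMod.val_mul]
    refine (Nat.mod_modEq _ _).trans ?_
    rw [mul_comm (expo p G d)]
    exact ((expo_mod c).1.mul (expo_mod d).1).symm
  · exact (expo_mod _).2.trans (((expo_mod d).2.mul (expo_mod c).2).trans (by simp; rfl)).symm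

theorem pow_expo_one (g : G) : g ^ expo p G 1 = g := by
  conv_rhs => rw [← pow_one g]
  refine pow_expo g (modEq_card (p := p) ?_ (expo_mod 1).2)
  refine (expo_mod 1).1.trans ?_
  rw [Units.val_one, ZMod.val_one_eq_one_mod]
  exact Nat.mod_modEq _ _

theorem coprime_expo (c : (ZMod (p ^ (Nat.card G).factorization p))ˣ) :
    Nat.Coprime (expo p G c) (Nat.card G) := by
  rw [← card_eq (p := p) (G := G)]
  refine Nat.Coprime.mul_right ?_ ?_
  · unfold Nat.Coprime
    rw [(expo_mod c).1.gcd_eq]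
    exact ZMod.val_coe_unit_coprime c
  · unfold Nat.Coprime
    rw [(expo_mod c).2.gcd_eq, Nat.gcd_one_left]

/-- The p-conjugates of a character, with multiplicity. -/
noncomputable def conjAt (χ : IrrCharacter G) (c : (ZMod (p ^ (Nat.card G).factorization p))ˣ) :
    IrrCharacter G :=
  ⟨fun g => (χ : G → ℂ) (g ^ expo p G c), GaloisConj.isIrrCharacter_pow χ.2 (coprime_expo c)⟩

theorem conjAt_mul (χ : IrrCharacter G) (c d : (ZMod (p ^ (Nat.card G).factorization p))ˣ) :
    (conjAt χ (c * d) : G → ℂ) = (conjAt (conjAt χ c) d : G → ℂ) :=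
  funext fun g => congrArg (χ : G → ℂ) (pow_expo_mul g c d)

theorem conjAt_one (χ : IrrCharacter G) :
    conjAt χ (1 : (ZMod (p ^ (Nat.card G).factorization p))ˣ) = χ :=
  Subtype.ext (funext fun g => congrArg (χ : G → ℂ) (pow_expo_one g))

/-- The stabilizer of `χ`. -/
noncomputable def stab (χ : IrrCharacter G) :
    Subgroup (ZMod (p ^ (Nat.card G).factorization p))ˣ where
  carrier := {c | conjAt χ c = χ}
  one_mem' := conjAt_one χ
  mul_mem' := fun {a b} (ha : conjAt χ a = χ) (hb : conjAt χ b = χ) =>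
    show conjAt χ (a * b) = χ from Subtype.ext (by rw [conjAt_mul, ha, hb])
  inv_mem' := fun {a} (ha : conjAt χ a = χ) => show conjAt χ a⁻¹ = χ from Subtype.ext (by
    have h : (conjAt χ (a * a⁻¹) : G → ℂ) = χ := by rw [mul_inv_cancel, conjAt_one]
    rwa [conjAt_mul, ha] at h)

theorem mem_stab {χ : IrrCharacter G} {c : (ZMod (p ^ (Nat.card G).factorization p))ˣ} :
    c ∈ stab χ ↔ conjAt χ c = χ := Iff.rfl

/-- The p-conjugates in the sense of field automorphisms are the characters `conjAt χ c`. -/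
theorem setOf_pConj (χ : IrrCharacter G) :
    {ψ : IrrCharacter G | ∃ σ : ℂ ≃+* ℂ,
        σ (Complex.exp (2 * Real.pi * Complex.I /
          ((Nat.card G / p ^ (Nat.card G).factorization p) : ℕ))) =
          Complex.exp (2 * Real.pi * Complex.I /
            ((Nat.card G / p ^ (Nat.card G).factorization p) : ℕ)) ∧
        (ψ : G → ℂ) = fun g => σ ((χ : G → ℂ) g)} =
      Set.range (fun c : (ZMod (p ^ (Nat.card G).factorization p))ˣ => conjAt χ c) := by
  have hcard := card_eq (p := p) (G := G)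
  set q := p ^ (Nat.card G).factorization p with hq
  set n' := Nat.card G / q with hn'
  haveI : NeZero (Nat.card G) := ⟨Nat.card_pos.ne'⟩
  have hn0 : n' ≠ 0 := fun h => by rw [h, mul_zero] at hcard; exact Nat.card_pos.ne' hcard.symm
  have hq0 : 0 < q := pow_pos hp.out.pos _
  have hz' := Complex.isPrimitiveRoot_exp n' hn0
  set ζ' := Complex.exp (2 * Real.pi * Complex.I / (n' : ℂ))
  have hz := Complex.isPrimitiveRoot_exp (Nat.card G) Nat.card_pos.ne'
  set ζ := Complex.exp (2 * Real.pi * Complex.I / ((Nat.card G : ℕ) : ℂ))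
  ext ψ
  constructor
  · rintro ⟨σ, hσ, hψ⟩
    obtain ⟨k, -, hk⟩ := hz.eq_pow_of_pow_eq_one
      (show (σ ζ) ^ Nat.card G = 1 by rw [← map_pow, hz.pow_eq_one, map_one])
    have hkc : Nat.Coprime k (Nat.card G) :=
      (hz.pow_iff_coprime (Nat.pos_of_ne_zero (Nat.card_pos.ne')) k).1
        (hk ▸ hz.map_of_injective σ.injective)
    have hσw : ∀ w : ℂ, w ^ Nat.card G = 1 → σ w = w ^ k := by
      intro w hw
      obtain ⟨i, -, rfl⟩ := hz.eq_pow_of_pow_eq_one hw
      rw [map_pow, ← hk, ← pow_mul, ← pow_mul, mul_comm]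
    have hk1 : k ≡ 1 [MOD n'] := by
      have h1 := hσw ζ' (by rw [← hcard, mul_comm, pow_mul, hz'.pow_eq_one, one_pow])
      rw [hσ] at h1
      refine hz'.pow_inj (Nat.mod_lt _ (Nat.pos_of_ne_zero hn0))
        (Nat.mod_lt _ (Nat.pos_of_ne_zero hn0)) ?_
      rw [← pow_eq_pow_mod _ hz'.pow_eq_one, ← pow_eq_pow_mod _ hz'.pow_eq_one, pow_one]
      exact h1.symm
    have hkq : Nat.Coprime k q :=
      Nat.Coprime.coprime_dvd_right (Dvd.intro n' hcard) hkc
    refine ⟨ZMod.unitOfCoprime k hkq, Subtype.ext ?_⟩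
    rw [hψ]
    funext g
    rw [GaloisConj.map_character_eq_pow hσw (Characters.isCharacter_of_isIrr χ.2)]
    refine congrArg (χ : G → ℂ) (pow_expo g (modEq_card (p := p) ?_ ?_))
    · refine (expo_mod _).1.trans ?_
      rw [ZMod.coe_unitOfCoprime, ZMod.val_natCast]
      exact Nat.mod_modEq _ _
    · exact (expo_mod _).2.trans hk1.symm
  · rintro ⟨c, rfl⟩
    obtain ⟨σ, hσ⟩ := GaloisConj.exists_ringEquiv_pow (Nat.card G) (expo p G c) (coprime_expo c)
    refine ⟨σ, ?_, ?_⟩
    · rw [hσ ζ' (by rw [← hcard, mul_comm, pow_mul, hz'.pow_eq_one, one_pow]),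
        pow_eq_pow_mod _ hz'.pow_eq_one, (expo_mod c).2, ← pow_eq_pow_mod _ hz'.pow_eq_one, pow_one]
    · funext g
      exact (GaloisConj.map_character_eq_pow hσ (Characters.isCharacter_of_isIrr χ.2) g).symm

open Classical in
theorem card_range_mul (χ : IrrCharacter G) :
    Nat.card (Set.range (fun c : (ZMod (p ^ (Nat.card G).factorization p))ˣ => conjAt χ c)) *
      Nat.card (stab (p := p) χ) = Nat.card (ZMod (p ^ (Nat.card G).factorization p))ˣ := by
  rw [← (stab (p := p) χ).index_mul_card, Subgroup.index_eq_card]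
  congr 1
  refine (Nat.card_eq_of_bijective
    (fun x => Quotient.liftOn' x (fun c => (⟨conjAt χ c, c, rfl⟩ :
      Set.range (fun c : (ZMod (p ^ (Nat.card G).factorization p))ˣ => conjAt χ c))) ?_) ⟨?_, ?_⟩).symm
  · intro c d hcd
    rw [QuotientGroup.leftRel_apply, mem_stab] at hcd
    refine Subtype.ext (Subtype.ext ?_)
    show (conjAt χ c : G → ℂ) = conjAt χ d
    conv_rhs => rw [show d = c⁻¹ * d * c by rw [mul_right_comm, inv_mul_cancel, one_mul],
      conjAt_mul, hcd]
  · intro x y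
    induction x using Quotient.inductionOn' with
    | h c =>
      induction y using Quotient.inductionOn' with
      | h d =>
        intro h
        refine Quotient.sound' ?_
        rw [QuotientGroup.leftRel_apply, mem_stab]
        refine Subtype.ext ?_
        have h' : (conjAt χ d : G → ℂ) = conjAt χ c :=
          congrArg (fun z => ((z : IrrCharacter G) : G → ℂ)) (congrArg Subtype.val h).symm
        rw [mul_comm, conjAt_mul]
        funext g
        show (conjAt χ d : G → ℂ) (g ^ expo p G c⁻¹) = (χ : G → ℂ) g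
        rw [h']
        show (χ : G → ℂ) ((g ^ expo p G c⁻¹) ^ expo p G c) = _
        rw [← pow_expo_mul, mul_inv_cancel, pow_expo_one]
  · rintro ⟨_, c, rfl⟩
    exact ⟨Quotient.mk'' c, rfl⟩

/-- The sum of the conjugates, with multiplicity. -/
noncomputable def conjSum (p : ℕ) [Fact p.Prime] (χ : IrrCharacter G) (g : G) : ℂ :=
  ∑ c : (ZMod (p ^ (Nat.card G).factorization p))ˣ, (conjAt χ c : G → ℂ) g

/-- Linear combinations of conjugate powers are divisible by the p-part of the degree. -/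
theorem exists_integral_trace (ha : 0 < (Nat.card G).factorization p) {w : ℂ}
    (hw : w ^ Nat.card G = 1) :
    ∃ v, IsIntegral ℤ v ∧ ∑ c : (ZMod (p ^ (Nat.card G).factorization p))ˣ, w ^ expo p G c =
      (p : ℂ) ^ ((Nat.card G).factorization p - 1) * v := by
  set a := (Nat.card G).factorization p
  set n' := Nat.card G / p ^ a with hn'
  have hcard : p ^ a * n' = Nat.card G := card_eq
  obtain ⟨e₁, he₁a, he₁b⟩ :=
    Nat.chineseRemainder ((Nat.coprime_ordCompl hp.out (Nat.card_pos (α := G)).ne').pow_left a) 1 0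
  obtain ⟨e₂, he₂a, he₂b⟩ :=
    Nat.chineseRemainder ((Nat.coprime_ordCompl hp.out (Nat.card_pos (α := G)).ne').pow_left a) 0 1
  have hwn : ∀ {x y : ℕ}, x ≡ y [MOD Nat.card G] → w ^ x = w ^ y := fun {x y} h => by
    rw [pow_eq_pow_mod _ hw, h, ← pow_eq_pow_mod _ hw]
  have hterm : ∀ c : (ZMod (p ^ a))ˣ, w ^ expo p G c =
      w ^ e₂ * (w ^ e₁) ^ (c : ZMod (p ^ a)).val := by
    intro c
    rw [← pow_mul, ← pow_add]
    refine hwn (modEq_card (p := p) ?_ ?_)
    · refine (expo_mod c).1.trans ?_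
      have := he₂a.add (he₁a.mul_right (c : ZMod (p ^ a)).val)
      rw [zero_add, one_mul] at this
      exact this.symm
    · refine (expo_mod c).2.trans ?_
      have := he₂b.add (he₁b.mul_right (c : ZMod (p ^ a)).val)
      rw [zero_mul, add_zero] at this
      exact this.symm
  obtain ⟨k, hk⟩ := exists_ramanujan ha (u := w ^ e₁) (p := p) (a := a) (by
    rw [← pow_mul]
    conv_rhs => rw [← pow_zero w]
    refine hwn (modEq_card (p := p) (Nat.modEq_zero_iff_dvd.2 (dvd_mul_left _ _)) ?_)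
    exact (he₁b.mul_right _).trans (by rw [zero_mul]))
  have hwi : IsIntegral ℤ w := IsIntegral.of_pow Nat.card_pos (by rw [hw]; exact isIntegral_one)
  refine ⟨w ^ e₂ * k, (hwi.pow _).mul (isIntegral_int k), ?_⟩
  rw [Finset.sum_congr rfl fun c _ => hterm c, ← Finset.mul_sum]
  refine (congrArg (fun t => w ^ e₂ * t) (Eq.trans ?_ hk)).trans (by ring)
  exact Finset.sum_congr (Finset.ext fun c => by simp) fun c _ => rfl

theorem exists_integral_sum (ha : 0 < (Nat.card G).factorization p) {ζ : ℂ}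
    (hζ : ζ ^ Nat.card G = 1)
    (σ : (ZMod (p ^ (Nat.card G).factorization p))ˣ → (ℂ ≃+* ℂ))
    (hσ : ∀ c w, w ^ Nat.card G = 1 → σ c w = w ^ expo p G c) {x : ℂ}
    (hx : x ∈ Algebra.adjoin ℤ ({ζ} : Set ℂ)) :
    ∃ v, IsIntegral ℤ v ∧ ∑ c, σ c x = (p : ℂ) ^ ((Nat.card G).factorization p - 1) * v := by
  obtain ⟨P, rfl⟩ : ∃ P : Polynomial ℤ, Polynomial.aeval ζ P = x := by
    rwa [Algebra.adjoin_singleton_eq_range_aeval, AlgHom.mem_range] at hx
  induction P using Polynomial.induction_on' with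
  | add u v hu hv =>
    obtain ⟨a, ha', hau⟩ := hu (by
      rw [Algebra.adjoin_singleton_eq_range_aeval]; exact ⟨u, rfl⟩)
    obtain ⟨b, hb', hbv⟩ := hv (by
      rw [Algebra.adjoin_singleton_eq_range_aeval]; exact ⟨v, rfl⟩)
    refine ⟨a + b, ha'.add hb', ?_⟩
    simp only [map_add, Finset.sum_add_distrib, hau, hbv, mul_add]
  | monomial i k =>
    obtain ⟨v, hv, he⟩ := exists_integral_trace (p := p) ha
      (w := ζ ^ i) (by rw [← pow_mul, mul_comm, pow_mul, hζ, one_pow])
    refine ⟨(k : ℂ) * v, (isIntegral_int k).mul hv, ?_⟩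
    rw [Polynomial.aeval_monomial, mul_left_comm, ← he, Finset.mul_sum]
    refine Finset.sum_congr rfl fun c _ => ?_
    rw [map_mul, hσ c (ζ ^ i) (by rw [← pow_mul, mul_comm, pow_mul, hζ, one_pow])]
    congr 1
    simp

theorem char_mem_adjoin (χ : IrrCharacter G) {ζ : ℂ} (hζ : IsPrimitiveRoot ζ (Nat.card G))
    (g : G) : (χ : G → ℂ) g ∈ Algebra.adjoin ℤ ({ζ} : Set ℂ) := by
  haveI : NeZero (Nat.card G) := ⟨Nat.card_pos.ne'⟩
  obtain ⟨m, ρ, hρ, hch⟩ := χ.2
  obtain ⟨μ, hμ, hj, -⟩ := Characters.exists_eigenvalues ρ g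
  have h1 := hj 1
  rw [pow_one] at h1
  rw [← hch, h1]
  refine Subalgebra.sum_mem _ fun l _ => ?_
  rw [pow_one]
  obtain ⟨i, -, hi⟩ := hζ.eq_pow_of_pow_eq_one (show μ l ^ Nat.card G = 1 by
    obtain ⟨k, hk⟩ := orderOf_dvd_natCard g
    rw [hk, pow_mul, hμ l, one_pow])
  rw [← hi]
  exact pow_mem (Algebra.subset_adjoin (Set.mem_singleton _)) i

theorem isClassFunction_conjSum (χ : IrrCharacter G) :
    Cfsg.IsClassFunction G (conjSum p χ) := fun g h => by
  simp only [conjSum]
  exact Finset.sum_congr rfl fun c _ => Characters.isClassFunction_of_isIrr (conjAt χ c).2 g h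

open Classical in
theorem sum_mul_conjSum (χ : IrrCharacter G) :
    ∑ g : G, (χ : G → ℂ) g * conjSum p χ g⁻¹ =
      (Nat.card (stab (p := p) χ) : ℂ) * (Nat.card G : ℂ) := by
  simp only [conjSum, Finset.mul_sum]
  rw [Finset.sum_comm]
  have h : ∀ c : (ZMod (p ^ (Nat.card G).factorization p))ˣ,
      ∑ g : G, (χ : G → ℂ) g * (conjAt χ c : G → ℂ) g⁻¹ =
        if c ∈ stab χ then (Nat.card G : ℂ) else 0 := by
    intro c
    have h1 := Characters.classInner_irr χ (conjAt χ c)
    rw [Cfsg.classInner] at h1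
    have h2 : ∑ g : G, (χ : G → ℂ) g * (conjAt χ c : G → ℂ) g⁻¹ =
        ∑ g : G, (χ : G → ℂ) g * conj ((conjAt χ c : G → ℂ) g) :=
      Finset.sum_congr rfl fun g _ => by
        rw [Characters.character_inv (Characters.isCharacter_of_isIrr (conjAt χ c).2)]
    rw [h2]
    rw [inv_mul_eq_iff_eq_mul₀ Characters.natCard_ne_zero] at h1
    rw [h1]
    by_cases hc : c ∈ stab χ
    · rw [if_pos hc, if_pos (mem_stab.1 hc).symm, mul_one]
    · rw [if_neg hc, if_neg fun h => hc (mem_stab.2 h.symm), mul_zero]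
  simp only [h, ← Finset.sum_filter, Finset.sum_const, nsmul_eq_mul]
  rw [← Fintype.card_subtype, ← Nat.card_eq_fintype_card]

open Classical in
/-- The bound on the number of p-conjugates, and what equality forces. -/
theorem factorization_bound (χ : IrrCharacter G) (r : ℕ)
    (hr : Nat.card (Set.range
      (fun c : (ZMod (p ^ (Nat.card G).factorization p))ˣ => conjAt χ c)) = r) :
    (r * Cfsg.charDegree (χ : G → ℂ)).factorization p ≤ (Nat.card G).factorization p ∧
      (r.factorization p + (Cfsg.charDegree (χ : G → ℂ)).factorization p =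
        (Nat.card G).factorization p → r.factorization p = 0) := by
  haveI : NeZero (Nat.card G) := ⟨Nat.card_pos.ne'⟩
  have hpp := hp.out
  set a := (Nat.card G).factorization p with ha_def
  haveI : NeZero (p ^ a) := ⟨pow_ne_zero _ hpp.ne_zero⟩
  set s := Nat.card (stab (p := p) χ)
  have hs0 : s ≠ 0 := Nat.card_pos.ne'
  have hrs : r * s = Nat.totient (p ^ a) := by
    rw [← hr, card_range_mul, Nat.card_eq_fintype_card, ZMod.card_units_eq_totient]
  have hr0 : r ≠ 0 := fun h => by
    rw [h, zero_mul] at hrs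
    exact (Nat.totient_pos.2 (pow_pos hpp.pos _)).ne hrs
  have hd0 := charDegree_ne_zero χ
  rw [Nat.factorization_mul hr0 hd0, Finsupp.add_apply]
  have hdeg := charDegree_factorization_le (p := p) χ
  rcases Nat.eq_zero_or_pos a with ha | ha
  · have h1 : r.factorization p = 0 := by
      have : r = 1 := by
        refine Nat.dvd_one.1 ?_
        rw [ha, pow_zero, Nat.totient_one] at hrs
        exact ⟨s, hrs.symm⟩
      rw [this, Nat.factorization_one, Finsupp.zero_apply]
    exact ⟨by omega, fun _ => h1⟩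
  have hvs : r.factorization p + s.factorization p = a - 1 := by
    have h1 := congrArg (fun m => m.factorization p) hrs
    simp only [Nat.factorization_mul hr0 hs0, Finsupp.add_apply, Nat.totient_prime_pow hpp ha,
      Nat.factorization_mul (pow_ne_zero _ hpp.ne_zero) (Nat.sub_ne_zero_of_lt hpp.one_lt),
      hpp.factorization_pow, Finsupp.single_eq_same] at h1
    rw [h1, factorization_pred_self hpp, add_zero]
  -- the field automorphisms
  have hex := fun c : (ZMod (p ^ a))ˣ =>
    GaloisConj.exists_ringEquiv_pow (Nat.card G) (expo p G c) (coprime_expo c)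
  choose σ hσ using hex
  have hζ := Complex.isPrimitiveRoot_exp (Nat.card G) Nat.card_pos.ne'
  set ζ := Complex.exp (2 * Real.pi * Complex.I / ((Nat.card G : ℕ) : ℂ))
  have hL : ∀ g, conjSum p χ g = ∑ c, σ c ((χ : G → ℂ) g) := fun g =>
    Finset.sum_congr rfl fun c _ =>
      (GaloisConj.map_character_eq_pow (hσ c) (Characters.isCharacter_of_isIrr χ.2) g).symm
  set P : ℂ := (p : ℂ) ^ (a - 1)
  have hP : P ≠ 0 := pow_ne_zero _ (Nat.cast_ne_zero.2 hpp.ne_zero)
  set w : G → ℂ := fun g => conjSum p χ g / P with hw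
  have hwi : ∀ g, IsIntegral ℤ (w g) := by
    intro g
    obtain ⟨v, hv, he⟩ := exists_integral_sum ha hζ.pow_eq_one σ hσ (char_mem_adjoin χ hζ g)
    show IsIntegral ℤ (conjSum p χ g / P)
    rwa [show conjSum p χ g / P = v by rw [hL, he]; exact mul_div_cancel_left₀ _ hP]
  have hwc : ∀ g h : G, w (h * g * h⁻¹) = w g := fun g h => by
    simp only [hw, isClassFunction_conjSum χ g h]
  have hχ1 := Characters.irr_one_ne_zero χ.2
  haveI := Fintype.ofFinite (ConjClasses G)
  have hclass : ∑ C : ConjClasses G,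
      Cfsg.centralChar (χ : G → ℂ) (Quotient.out C) * w (Quotient.out C)⁻¹ =
      ((s * Nat.card G : ℕ) : ℂ) / ((p ^ (a - 1) * Cfsg.charDegree (χ : G → ℂ) : ℕ) : ℂ) := by
    have hrhs : ((s * Nat.card G : ℕ) : ℂ) /
        ((p ^ (a - 1) * Cfsg.charDegree (χ : G → ℂ) : ℕ) : ℂ) =
        ∑ C : ConjClasses G, (∑ g ∈ Finset.univ.filter (fun g : G => ConjClasses.mk g = C),
          (χ : G → ℂ) g * conjSum p χ g⁻¹) / (P * (χ : G → ℂ) 1) := by
      rw [Nat.cast_mul s, ← sum_mul_conjSum χ, Nat.cast_mul, Nat.cast_pow, charDegree_cast,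
        ← Finset.sum_div, Finset.sum_fiberwise]
    rw [hrhs]
    refine Finset.sum_congr rfl fun C _ => ?_
    have hC : ConjClasses.mk (Quotient.out C) = C := Quotient.out_eq C
    rw [Finset.sum_congr rfl (g := fun _ =>
      (χ : G → ℂ) (Quotient.out C) * conjSum p χ (Quotient.out C)⁻¹) fun g hg => ?_]
    · rw [Finset.sum_const, nsmul_eq_mul, ← Fintype.card_subtype, ← Nat.card_eq_fintype_card]
      conv_rhs => arg 1; arg 1; rw [← hC, natCard_class]
      rw [Cfsg.centralChar, hw]
      field_simp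
    · obtain ⟨c, hc⟩ := isConj_iff.1 (ConjClasses.mk_eq_mk_iff_isConj.1
        (hC.trans (Finset.mem_filter.1 hg).2.symm))
      rw [← hc, Characters.isClassFunction_of_isIrr χ.2, conj_inv,
        isClassFunction_conjSum χ]
  have hint : IsIntegral ℤ (((s * Nat.card G : ℕ) : ℂ) /
      ((p ^ (a - 1) * Cfsg.charDegree (χ : G → ℂ) : ℕ) : ℂ)) :=
    hclass ▸ IsIntegral.sum _ fun C _ => (isIntegral_centralChar χ _).mul (hwi _)
  have hden : p ^ (a - 1) * Cfsg.charDegree (χ : G → ℂ) ≠ 0 :=
    mul_ne_zero (pow_ne_zero _ hpp.ne_zero) hd0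
  have hdvd := Characters.dvd_of_isIntegral_div hden hint
  have hnum : s * Nat.card G ≠ 0 := mul_ne_zero hs0 Nat.card_pos.ne'
  have hle : a - 1 + (Cfsg.charDegree (χ : G → ℂ)).factorization p ≤ s.factorization p + a := by
    have h1 := (Nat.factorization_le_iff_dvd hden hnum).2 hdvd p
    simpa only [Nat.factorization_mul (pow_ne_zero _ hpp.ne_zero) hd0, Nat.factorization_mul hs0
      (Nat.card_pos (α := G)).ne', hpp.factorization_pow, Finsupp.add_apply,
      Finsupp.single_eq_same, ← ha_def] using h1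
  refine ⟨by omega, fun heq => ?_⟩
  by_contra hr1
  -- equality: the rational integer is prime to p
  obtain ⟨M, hM⟩ := exists_isPModular p hpp
  haveI := IsPModular.isPrime hM
  have hunit : ¬ Cfsg.MemLocalIdeal M (((s * Nat.card G : ℕ) : ℂ) /
      ((p ^ (a - 1) * Cfsg.charDegree (χ : G → ℂ) : ℕ) : ℂ)) := by
    rw [← Nat.cast_div hdvd (Nat.cast_ne_zero.2 hden), memLocalIdeal_natCast_iff hM]
    intro hd
    have h0 : s * Nat.card G / (p ^ (a - 1) * Cfsg.charDegree (χ : G → ℂ)) ≠ 0 :=
      (Nat.div_pos (Nat.le_of_dvd (Nat.pos_of_ne_zero hnum) hdvd) (Nat.pos_of_ne_zero hden)).ne'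
    have h1 := hpp.factorization_pos_of_dvd h0 hd
    rw [Nat.factorization_div hdvd, Finsupp.tsub_apply, Nat.factorization_mul hs0 Nat.card_pos.ne',
      Nat.factorization_mul (pow_ne_zero _ hpp.ne_zero) hd0, Finsupp.add_apply, Finsupp.add_apply,
      hpp.factorization_pow, Finsupp.single_eq_same] at h1
    omega
  obtain ⟨C, hC⟩ : ∃ C : ConjClasses G, ¬ Cfsg.MemLocalIdeal M
      (Cfsg.centralChar (χ : G → ℂ) (Quotient.out C) * w (Quotient.out C)⁻¹) := by
    by_contra hcon
    push Not at hcon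
    exact hunit (hclass ▸ memLocalIdeal_sum _ fun C _ => hcon C)
  set g := Quotient.out C
  have hω : ¬ Cfsg.MemLocalIdeal M (Cfsg.centralChar (χ : G → ℂ) g) := fun h =>
    hC (memLocalIdeal_mul_right h (memLocalRing_of_isIntegral (hwi _)))
  have hwu : ¬ Cfsg.MemLocalIdeal M (w g⁻¹) := fun h =>
    hC (memLocalIdeal_mul_left (memLocalRing_centralChar χ g) h)
  set B := Cfsg.blockOf M (χ : G → ℂ)
  have hB : Cfsg.IsPBlock M B := isPBlock_blockOf χ
  obtain ⟨D, hD⟩ := exists_isDefectGroup (p := p) hB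
  set d := Cfsg.blockDefect p B
  set K := Subgroup.centralizer ({g} : Set G)
  obtain ⟨S, hS, -⟩ := exists_isSylowIn_ge (p := p) (K := K) IsPGroup.of_bot bot_le
  have hdle : d ≤ (Nat.card K).factorization p := by
    have hne : omegaBar M χ (classSum _ (ConjClasses.mk g)) ≠ 0 := by
      rw [omegaBar_classSum, Ne, red_eq_zero_iff]
      exact hω
    obtain ⟨x, hx⟩ := IsDefectGroup.exists_conj_le hM hB hD (mem_blockOf_self χ) hne hS
    have h1 : Nat.card D ∣ Nat.card K := by
      rw [← BlockPairs.card_cj x D]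
      exact Subgroup.card_dvd_of_le (hx.trans hS.1)
    rw [card_defectGroup hM hB hD] at h1
    exact (hpp.pow_dvd_iff_le_factorization Nat.card_pos.ne').1 h1
  have hDd : a - (Cfsg.charDegree (χ : G → ℂ)).factorization p ≤ d :=
    BlockPairing.factorization_sub_le_blockDefect (mem_blockOf_self χ)
  -- the centralizer of g is no larger
  have hKle : (Nat.card K).factorization p ≤ r.factorization p := by
    by_contra hlt
    push Not at hlt
    obtain ⟨U, hU, -, hUe⟩ : ∃ U : ℕ, ¬ p ∣ U ∧ True ∧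
        Nat.card G = Cfsg.charDegree (χ : G → ℂ) * (U * p ^ r.factorization p) := by
      refine ⟨Nat.card G / Cfsg.charDegree (χ : G → ℂ) / p ^ r.factorization p, ?_, trivial, ?_⟩
      all_goals
        have hv : (Nat.card G / Cfsg.charDegree (χ : G → ℂ)).factorization p =
            r.factorization p := by
          rw [Nat.factorization_div (charDegree_dvd_card χ), Finsupp.tsub_apply]; omega
      · rw [← hv]
        exact Nat.not_dvd_ordCompl hpp (Nat.div_pos (Nat.le_of_dvd Nat.card_pos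
          (charDegree_dvd_card χ)) (Nat.pos_of_ne_zero hd0)).ne'
      · rw [← hv, mul_comm _ (p ^ _), Nat.ordProj_mul_ordCompl_eq_self,
          Nat.mul_div_cancel' (charDegree_dvd_card χ)]
    have hU0 : (U : ℂ) ≠ 0 := Nat.cast_ne_zero.2 fun h => hU (h ▸ dvd_zero p)
    obtain ⟨V, hV⟩ : p ^ (r.factorization p + 1) ∣ Nat.card K :=
      (hpp.pow_dvd_iff_le_factorization Nat.card_pos.ne').2 hlt
    have hval : (χ : G → ℂ) g * (U : ℂ) =
        Cfsg.centralChar (χ : G → ℂ) g * ((V : ℂ) * p) := by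
      have hidx : (K.index : ℂ) * (Nat.card K : ℂ) =
          (χ : G → ℂ) 1 * ((U : ℂ) * (p : ℂ) ^ r.factorization p) := by
        rw [← charDegree_cast]; exact_mod_cast (K.index_mul_card).trans hUe
      have hKc : (Nat.card K : ℂ) = (p : ℂ) ^ r.factorization p * p * V := by
        rw [← pow_succ]; exact_mod_cast hV
      rw [Cfsg.centralChar]
      rw [hKc] at hidx
      refine mul_left_cancel₀ (pow_ne_zero (r.factorization p)
        (Nat.cast_ne_zero.2 hpp.ne_zero : (p : ℂ) ≠ 0)) ?_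
      field_simp
      linear_combination -((χ : G → ℂ) g) * hidx
    set z : ℂ := (((U : ℚ) / p : ℚ) : ℂ) * (χ : G → ℂ) g⁻¹
    have hzint : IsIntegral ℤ z := by
      have h1 : z = conj (Cfsg.centralChar (χ : G → ℂ) g) * V := by
        have h2 := congrArg conj hval
        simp only [map_mul, map_natCast] at h2
        simp only [z, Characters.character_inv (Characters.isCharacter_of_isIrr χ.2)]
        push_cast
        have : (p : ℂ) ≠ 0 := Nat.cast_ne_zero.2 hpp.ne_zero
        field_simp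
        linear_combination h2
      rw [h1]
      exact ((isIntegral_centralChar χ g).map
        ((starRingEnd ℂ).toIntAlgHom)).mul (by simpa using isIntegral_int (V : ℤ))
    obtain ⟨v, hv, hve⟩ := exists_integral_sum ha hζ.pow_eq_one σ hσ
      (mem_adjoin_of_isIntegral hζ (char_mem_adjoin χ hζ g⁻¹) _ hzint)
    have h3 : (U : ℂ) * w g⁻¹ = (p : ℂ) * v := by
      have h4 : ∑ c, σ c z = (((U : ℚ) / p : ℚ) : ℂ) * conjSum p χ g⁻¹ := by
        rw [hL, Finset.mul_sum]
        exact Finset.sum_congr rfl fun c _ => by simp only [z, map_mul, map_ratCast]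
      have h5 := h4.symm.trans hve
      push_cast at h5
      have hp0 : (p : ℂ) ≠ 0 := Nat.cast_ne_zero.2 hpp.ne_zero
      simp only [hw]
      field_simp at h5 ⊢
      linear_combination h5
    refine hwu ?_
    have h6 : w g⁻¹ = (U : ℂ)⁻¹ * ((p : ℂ) * v) := by rw [← h3, inv_mul_cancel_left₀ hU0]
    rw [h6]
    exact memLocalIdeal_mul_left (memLocalRing_natCast_inv hM hU)
      (memLocalIdeal_mul_right ((memLocalIdeal_natCast_iff hM p).2 dvd_rfl)
        (memLocalRing_of_isIntegral hv))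
  have hdeq : d = r.factorization p := by omega
  -- all values lie in the smaller field
  have hDle : r.factorization p ≤ a := by omega
  have hsub : (ZMod.unitsMap (pow_dvd_pow p hDle)).ker ≤ stab (p := p) χ := by
    intro c hc
    rw [mem_stab]
    refine Subtype.ext (funext fun h => ?_)
    show (χ : G → ℂ) (h ^ expo p G c) = (χ : G → ℂ) h
    by_cases hzero : (χ : G → ℂ) h = 0
    · rw [← GaloisConj.map_character_eq_pow (hσ c) (Characters.isCharacter_of_isIrr χ.2), hzero,
        map_zero]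
    obtain ⟨x, hx⟩ := exists_isPPart hpp h
    obtain ⟨E, hE, hxE⟩ : ∃ E : Subgroup G, Cfsg.IsDefectGroup p M B E ∧ x ∈ E := by
      by_contra hcon
      push Not at hcon
      exact hzero (char_eq_zero_of_not_mem_defectGroup hM χ hx hcon)
    have hxd : orderOf x ∣ p ^ r.factorization p := by
      rw [← hdeq, ← card_defectGroup hM hB hE]
      exact E.orderOf_dvd_natCard hxE
    obtain ⟨y, hxy, hcomm, -, hy⟩ := hx
    have hyd : orderOf y ∣ Nat.card G / p ^ a :=
      Nat.Coprime.dvd_of_dvd_mul_left ((hpp.coprime_iff_not_dvd.2 hy).pow_left a).symm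
        (by rw [card_eq]; exact orderOf_dvd_natCard y)
    have hc1 : (c : ZMod (p ^ a)).val ≡ 1 [MOD p ^ r.factorization p] := by
      have h1 := congrArg (fun t : (ZMod (p ^ r.factorization p))ˣ =>
        (t : ZMod (p ^ r.factorization p))) (MonoidHom.mem_ker.1 hc)
      simp only [ZMod.unitsMap_def, Units.coe_map, MonoidHom.coe_coe, Units.val_one] at h1
      rw [← ZMod.natCast_eq_natCast_iff, Nat.cast_one]
      rw [← h1, ZMod.castHom_apply]
      exact ZMod.natCast_val _
    have hx1 : x ^ expo p G c = x := by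
      conv_rhs => rw [← pow_one x]
      rw [pow_eq_pow_iff_modEq]
      exact ((expo_mod c).1.of_dvd (pow_dvd_pow p hDle) |>.trans hc1).of_dvd hxd
    have hy1 : y ^ expo p G c = y := by
      conv_rhs => rw [← pow_one y]
      rw [pow_eq_pow_iff_modEq]
      exact (expo_mod c).2.of_dvd hyd
    rw [← hxy, hcomm.mul_pow, hx1, hy1]
  haveI : NeZero (p ^ r.factorization p) := ⟨pow_ne_zero _ hpp.ne_zero⟩
  have hker : r ∣ Nat.totient (p ^ r.factorization p) := by
    set f := ZMod.unitsMap (pow_dvd_pow p hDle) with hf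
    have h1 := f.ker.index_mul_card
    rw [Subgroup.index_ker, MonoidHom.range_eq_top.2 (ZMod.unitsMap_surjective _),
      Subgroup.card_top, Nat.card_eq_fintype_card (α := (ZMod (p ^ r.factorization p))ˣ),
      ZMod.card_units_eq_totient, Nat.card_eq_fintype_card (α := (ZMod (p ^ a))ˣ),
      ZMod.card_units_eq_totient, ← hrs] at h1
    obtain ⟨k, hk⟩ := Subgroup.card_dvd_of_le hsub
    refine ⟨k, Nat.eq_of_mul_eq_mul_right (Nat.card_pos (α := f.ker)) ?_⟩
    rw [h1, show s = Nat.card f.ker * k from hk]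
    ring
  have h7 := (hpp.pow_dvd_iff_le_factorization
    (Nat.totient_pos.2 (pow_pos hpp.pos _)).ne').1
    ((Nat.ordProj_dvd r p).trans hker)
  rw [Nat.totient_prime_pow hpp (Nat.pos_of_ne_zero hr1),
    Nat.factorization_mul (pow_ne_zero _ hpp.ne_zero) (Nat.sub_ne_zero_of_lt hpp.one_lt),
    Finsupp.add_apply, hpp.factorization_pow, Finsupp.single_eq_same,
    factorization_pred_self hpp] at h7
  omega

end Orbit

end CfsgLib.PConjOrbit
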