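import Cfsg.Agent.Characters.Monomial
import Cfsg.Agent.Characters.Linear
import Cfsg.Agent.OddIndexGalois.Fixed
import Cfsg.Agent.GaloisConj.Basic
import Cfsg.Agent.Blocks.Height
import Mathlib.GroupTheory.IndexNormal
import Mathlib.FieldTheory.PrimitiveElement
import Mathlib.FieldTheory.Extension
import Mathlib.RingTheory.IntegralDomain

/-!
# The order of a p-group with a faithful irreducible character of given field of values
-/

set_option autoImplicit false
set_option linter.unusedSectionVars false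
set_option linter.style.haveILetI false

namespace CfsgLib.PGroupFieldBound

open Cfsg CfsgLib.Characters CfsgLib.CharactersDeep

universe u

/-- The conjugates `g ↦ θ (g ^ k)`, `k` prime to `p`, of a function. -/
def powOrbit {G : Type u} [Group G] (p : ℕ) (θ : G → ℂ) : Set (G → ℂ) :=
  (fun k => fun g => θ (g ^ k)) '' {k : ℕ | ¬ p ∣ k}

theorem powOrbit_finite {G : Type u} [Group G] [Finite G] (p : ℕ) (θ : G → ℂ) :
    (powOrbit p θ).Finite := by
  refine Set.Finite.subset (Set.finite_range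
    (fun k : Fin (Nat.card G) => fun g => θ (g ^ (k : ℕ)))) ?_
  rintro _ ⟨k, -, rfl⟩
  exact ⟨⟨k % Nat.card G, Nat.mod_lt _ Nat.card_pos⟩, funext fun g => congrArg θ (pow_mod_natCard g k)⟩

theorem mem_powOrbit_self {G : Type u} [Group G] {p : ℕ} (hp : p.Prime) (θ : G → ℂ) :
    θ ∈ powOrbit p θ := ⟨1, hp.not_dvd_one, funext fun g => by simp⟩

/-- For each exponent prime to `p` a field automorphism of `ℂ` realizes it on characters. -/
theorem exists_aut {p : ℕ} (hp : p.Prime) (a : ℕ) {k : ℕ} (hk : ¬ p ∣ k) :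
    ∃ σ : ℂ ≃+* ℂ, ∀ (G : Type u) [Group G] [Finite G], Nat.card G ∣ p ^ a →
      ∀ θ : G → ℂ, Cfsg.IsCharacter G θ → ∀ g, σ (θ g) = θ (g ^ k) := by
  haveI : NeZero (p ^ a) := ⟨pow_ne_zero _ hp.ne_zero⟩
  obtain ⟨σ, hσ⟩ := GaloisConj.exists_ringEquiv_pow (p ^ a) k
    (((hp.coprime_iff_not_dvd).2 hk).symm.pow_right a)
  refine ⟨σ, fun G _ _ hG θ hθ g => GaloisConj.map_character_eq_pow (fun w hw => hσ w ?_) hθ g⟩
  obtain ⟨c, hc⟩ := hG
  rw [hc, pow_mul, hw, one_pow]

theorem map_indFun {G : Type u} [Group G] [Fintype G] (σ : ℂ ≃+* ℂ) (H : Subgroup G)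
    (θ : H → ℂ) (g : G) :
    σ (Cfsg.indFun H θ g) = Cfsg.indFun H (fun h => σ (θ h)) g := by
  simp only [Cfsg.indFun, map_mul, map_inv₀, map_natCast, map_sum]
  congr 1
  refine Finset.sum_congr rfl fun x _ => ?_
  by_cases hx : x⁻¹ * g * x ∈ H
  · rw [extendByZero_of_mem H _ hx, extendByZero_of_mem H _ hx]
  · rw [extendByZero_of_not_mem H _ hx, extendByZero_of_not_mem H _ hx, map_zero]

/-- A p-group with a faithful linear character: all primitive powers differ. -/
theorem bound_linear {G : Type u} [Group G] [Finite G] {p : ℕ} (hp : p.Prime) {a t : ℕ}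
    (hG : Nat.card G = p ^ a) {χ : G → ℂ} (hχ : Cfsg.IsIrrCharacter G χ) (h1 : χ 1 = 1)
    (hfaith : ∀ g, χ g = χ 1 → g = 1) (hr : (powOrbit p χ).ncard ≤ (p - 1) * p ^ t) :
    a ≤ t + 1 := by
  classical
  obtain ⟨l, rfl⟩ := exists_hom_of_degree_one (isCharacter_of_isIrr hχ) h1
  have hinj : Function.Injective l := by
    rw [injective_iff_map_eq_one]
    intro g hg
    exact hfaith g (by simp [hg])
  haveI : IsCyclic G := isCyclic_of_subgroup_isDomain ((Units.coeHom ℂ).comp l)
    (Units.val_injective.comp hinj)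
  obtain ⟨c, hc⟩ := IsCyclic.exists_ofOrder_eq_natCard (α := G)
  rcases Nat.eq_zero_or_pos a with rfl | ha
  · exact Nat.zero_le _
  set S := (Finset.range (p ^ a)).filter fun k => ¬ p ∣ k
  have hS : S.card = Nat.totient (p ^ a) := by
    rw [Nat.totient_eq_card_coprime]
    refine congrArg Finset.card (Finset.filter_congr fun k _ => ?_)
    rw [Nat.coprime_pow_left_iff ha, hp.coprime_iff_not_dvd]
  have hle : S.card ≤ (powOrbit p fun g => (l g : ℂ)).ncard := by
    rw [← Set.ncard_coe_finset]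
    refine Set.ncard_le_ncard_of_injOn (fun k => fun g => (l (g ^ k) : ℂ)) (fun k hk => ?_)
      (fun k hk k' hk' h => ?_) (powOrbit_finite p _)
    · exact ⟨k, (Finset.mem_filter.1 hk).2, rfl⟩
    · have h' := hinj (Units.ext (congrFun h c))
      rw [pow_eq_pow_iff_modEq, hc, hG] at h'
      have e1 := Finset.mem_range.1 (Finset.mem_filter.1 hk).1
      have e2 := Finset.mem_range.1 (Finset.mem_filter.1 hk').1
      rwa [Nat.ModEq, Nat.mod_eq_of_lt e1, Nat.mod_eq_of_lt e2] at h'
  rw [hS, Nat.totient_prime_pow hp ha] at hle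
  have h2 := hle.trans hr
  rw [mul_comm] at h2
  have h3 := (Nat.pow_le_pow_iff_right hp.one_lt).1
    (Nat.le_of_mul_le_mul_left h2 (Nat.sub_pos_of_lt hp.one_lt))
  omega

/-- The bound. -/
theorem bound_aux {p : ℕ} (hp : p.Prime) : ∀ (a : ℕ) (G : Type u) [Group G] [Fintype G],
    Nat.card G = p ^ a → ∀ χ : G → ℂ, Cfsg.IsIrrCharacter G χ → (∀ g, χ g = χ 1 → g = 1) →
      ∀ f t : ℕ, χ 1 = (f : ℂ) → (powOrbit p χ).ncard ≤ (p - 1) * p ^ t →
        (p - 1) * a + 1 ≤ f + (p - 1) * (t + 1) * f := by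
  intro a
  induction a using Nat.strong_induction_on with
  | _ a ih =>
  intro G _ _ hG χ hχ hfaith f t hf hr
  classical
  haveI := Fact.mk hp
  by_cases h1 : χ 1 = 1
  · rw [h1, eq_comm, Nat.cast_eq_one] at hf
    subst hf
    have := Nat.mul_le_mul_left (p - 1) (bound_linear hp hG hχ h1 hfaith hr)
    rw [mul_one]
    omega
  -- an induced subgroup of index p
  haveI : Group.IsNilpotent G := (IsPGroup.of_card hG).isNilpotent
  obtain ⟨T, lam, hlam⟩ := monomial_of_nilpotent_aux _ G rfl χ hχ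
  have hT : T ≠ ⊤ := by
    rintro rfl
    refine h1 ?_
    rw [hlam, indFun_one]
    simp
  obtain ⟨i, hi, hcT⟩ := (Nat.dvd_prime_pow hp).1 (hG ▸ Subgroup.card_subgroup_dvd_card T)
  have hia : i < a := by
    refine lt_of_le_of_ne hi fun h => hT (Subgroup.eq_top_of_card_eq T ?_)
    rw [hcT, h, hG]
  obtain ⟨H, hHc, hTH⟩ := Sylow.exists_subgroup_card_pow_prime_le p (n := i) (m := a - 1)
    (hG ▸ pow_dvd_pow p (Nat.sub_le a 1)) T hcT (by omega)
  have hHi : H.index = p := by
    have h := H.card_mul_index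
    rw [hHc, hG] at h
    refine Nat.eq_of_mul_eq_mul_left (pow_pos hp.pos (a - 1)) (h.trans ?_)
    rw [← pow_succ, Nat.sub_add_cancel (by omega)]
  haveI hHn : H.Normal := Subgroup.normal_of_index_eq_minFac_card (by
    rw [hHi, hG, Nat.pow_minFac (by omega), hp.minFac_eq])
  haveI := Fintype.ofFinite H
  set ψ := Cfsg.indFun (T.subgroupOf H) (fun h : T.subgroupOf H =>
    (lam ⟨((h : H) : G), h.2⟩ : ℂ)) with hψdef
  have hψc : Cfsg.IsCharacter H ψ := isCharacter_indFun _
    (isCharacter_of_isIrr (isIrr_linChar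
      (lam.comp ((Subgroup.subgroupOfEquivOfLe hTH).toMonoidHom))))
  have hind : Cfsg.indFun H ψ = χ := by
    rw [hψdef, indFun_indFun, hlam]
    have hmap : (T.subgroupOf H).map H.subtype = T := Subgroup.map_subgroupOf_eq_of_le hTH
    funext g
    simp only [Cfsg.indFun]
    rw [show Nat.card ((T.subgroupOf H).map H.subtype) = Nat.card T by rw [hmap]]
    congr 1
    refine Finset.sum_congr rfl fun x _ => ?_
    by_cases hx : x⁻¹ * g * x ∈ T
    · rw [extendByZero_of_mem _ _ (hmap.symm ▸ hx), extendByZero_of_mem T _ hx]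
      refine congrArg (fun u => ((lam u : ℂˣ) : ℂ)) (Subtype.ext ?_)
      have h := congrArg Subtype.val
        ((Subgroup.equivMapOfInjective (T.subgroupOf H) H.subtype H.subtype_injective).apply_symm_apply
          ⟨x⁻¹ * g * x, hmap.symm ▸ hx⟩)
      exact h
    · rw [extendByZero_of_not_mem _ _ (fun h => hx (hmap ▸ h)), extendByZero_of_not_mem T _ hx]
  have hψ : Cfsg.IsIrrCharacter H ψ := isIrr_of_indFun_irr H hψc (hind.symm ▸ hχ)
  obtain ⟨f', hf'⟩ := exists_degree hψc
  have hff : f = p * f' := by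
    have h := indFun_one H ψ
    rw [hind, hHi, hf, hf'] at h
    exact_mod_cast h
  -- exponents act through field automorphisms
  have hHdvd : Nat.card H ∣ p ^ a := hG ▸ Subgroup.card_subgroup_dvd_card H
  have hconjk : ∀ k : ℕ, ¬ p ∣ k → Cfsg.IsIrrCharacter H (fun h => ψ (h ^ k)) ∧
      Cfsg.indFun H (fun h => ψ (h ^ k)) = fun g => χ (g ^ k) := by
    intro k hk
    obtain ⟨σ, hσ⟩ := exists_aut hp a hk
    have e : (fun h => ψ (h ^ k)) = fun h => σ (ψ h) :=
      funext fun h => (hσ H hHdvd ψ hψc h).symm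
    refine ⟨e ▸ GaloisConj.isIrrCharacter_comp σ hψ, funext fun g => ?_⟩
    rw [e, ← map_indFun, hind, hσ G (hG ▸ dvd_rfl) χ (isCharacter_of_isIrr hχ)]
  have hkerk : ∀ k : ℕ, ¬ p ∣ k → ∀ h : H, ψ (h ^ k) = ψ 1 ↔ ψ h = ψ 1 := by
    intro k hk h
    obtain ⟨σ, hσ⟩ := exists_aut hp a hk
    have e1 : σ (ψ 1) = ψ 1 := by rw [hf']; exact map_natCast σ f'
    rw [← hσ H hHdvd ψ hψc h]
    exact ⟨fun h => σ.injective (h.trans e1.symm), fun h => by rw [h, e1]⟩
  have hres : ∀ θ : H → ℂ, Cfsg.IsIrrCharacter H θ → Cfsg.IsIrrCharacter G (Cfsg.indFun H θ) →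
      Cfsg.classInner (fun h : H => Cfsg.indFun H θ h) θ ≠ 0 := by
    intro θ _ hθG
    have h2 := classInner_indFun H θ (isClassFunction_of_isIrr hθG)
    rw [classInner_isIrr_self hθG] at h2
    rw [classInner_conj_symm, ← h2, map_one]
    exact one_ne_zero
  -- the faithful quotient
  obtain ⟨n, ρ, hρ, hρψ⟩ := hψ
  haveI := hρ
  set N : Subgroup H := MonoidHom.ker ρ
  have hN : ∀ h : H, h ∈ N ↔ ψ h = ψ 1 := by
    intro h
    rw [← hρψ, Representation.char_one, char_eq_finrank_iff]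
    exact MonoidHom.mem_ker
  obtain ⟨ψ', hψ', hψψ'⟩ := exists_irr_quotient N ⟨n, ρ, hρ, hρψ⟩ fun h hh => (hN h).1 hh
  obtain ⟨a', ha', hcQ⟩ := (Nat.dvd_prime_pow hp).1
    (((hHc ▸ Subgroup.card_quotient_dvd_card N) : Nat.card (H ⧸ N) ∣ p ^ (a - 1)))
  haveI := Fintype.ofFinite (H ⧸ N)
  have hIH : ∀ t' : ℕ, (powOrbit p ψ).ncard ≤ (p - 1) * p ^ t' →
      (p - 1) * a' + 1 ≤ f' + (p - 1) * (t' + 1) * f' := by
    intro t' ht'
    refine ih a' (by omega) (H ⧸ N) hcQ ψ' hψ' (fun q hq => ?_) f' t' ?_ ?_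
    · induction q using QuotientGroup.induction_on with
      | H h =>
        rw [← hψψ', ← QuotientGroup.mk_one, ← hψψ'] at hq
        exact (QuotientGroup.eq_one_iff h).2 ((hN h).2 hq)
    · rw [← hf', hψψ' 1]; rfl
    · refine le_trans (Set.ncard_le_ncard_of_injOn (fun φ => fun h : H => φ (h : H ⧸ N))
        ?_ ?_ (powOrbit_finite p ψ)) ht'
      · rintro _ ⟨k, hk, rfl⟩
        exact ⟨k, hk, funext fun h => (hψψ' (h ^ k)).trans (by simp)⟩
      · intro φ _ φ' _ h
        funext q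
        induction q using QuotientGroup.induction_on with
        | H h' => exact congrFun h h'
  have hp1 : 1 ≤ p - 1 := Nat.le_sub_of_add_le hp.two_le
  have hf'0 : 1 ≤ f' := by
    rcases Nat.eq_zero_or_pos f' with h0 | h0
    · exact absurd (by rw [hf', h0, Nat.cast_zero]) (irr_one_ne_zero ⟨n, ρ, hρ, hρψ⟩)
    · exact h0
  have hpsucc : p = p - 1 + 1 := (Nat.sub_add_cancel hp.one_lt.le).symm
  have hcard : a = (a - 1) + 1 := by omega
  let Φ : (H → ℂ) → (G → ℂ) := fun φ => Cfsg.indFun H φ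
  have hΦ : ∀ φ ∈ powOrbit p ψ, Φ φ ∈ powOrbit p χ := by
    rintro _ ⟨k, hk, rfl⟩
    exact ⟨k, hk, (hconjk k hk).2.symm⟩
  have hclif : ∀ φ ∈ powOrbit p ψ, ∀ φ' ∈ powOrbit p ψ, Φ φ = Φ φ' →
      ∃ g : G, φ' = OddOrderChar.conjBy H φ g := by
    rintro _ ⟨k, hk, rfl⟩ _ ⟨k', hk', rfl⟩ he
    have h2 := (hconjk k hk).2
    have h3 := (hconjk k' hk').2
    obtain ⟨σ, hσ⟩ := exists_aut hp a hk
    have hG' : Cfsg.IsIrrCharacter G (fun g => χ (g ^ k)) := by
      have e : (fun g => χ (g ^ k)) = fun g => σ (χ g) :=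
        funext fun g => (hσ G (hG ▸ dvd_rfl) χ (isCharacter_of_isIrr hχ) g).symm
      exact e ▸ GaloisConj.isIrrCharacter_comp σ hχ
    have he' : Cfsg.indFun H (fun h => ψ (h ^ k)) = Cfsg.indFun H (fun h => ψ (h ^ k')) := he
    refine Clifford.exists_conjBy_of_constituents H hG' (hconjk k hk).1 (hconjk k' hk').1 ?_ ?_
    · have := hres _ (hconjk k hk).1 (h2.symm ▸ hG')
      rwa [h2] at this
    · have := hres _ (hconjk k' hk').1 ((he'.symm.trans h2).symm ▸ hG')
      rwa [← he', h2] at this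
  by_cases hinj : Set.InjOn Φ (powOrbit p ψ)
  · -- the orbit does not grow
    have hr' := (Set.ncard_le_ncard_of_injOn Φ hΦ hinj (powOrbit_finite p χ)).trans hr
    have hIH' := hIH t hr'
    -- the intersection of the conjugate kernels is trivial
    have hbound : a - 1 ≤ p * a' := by
      let R : G ⧸ H → G := fun q => Quotient.out q
      let F : H → ((G ⧸ H) → H ⧸ N) := fun h q =>
        ((⟨(R q)⁻¹ * h * R q, hHn.conj_mem' h h.2 (R q)⟩ : H) : H ⧸ N)
      have hF : Function.Injective F := by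
        intro h h' he
        rw [← inv_mul_eq_one]
        refine Subtype.ext (hfaith _ ?_)
        have hall : ∀ x : G, ψ ⟨x⁻¹ * ((h⁻¹ * h' : H) : G) * x,
            hHn.conj_mem' _ (h⁻¹ * h').2 x⟩ = ψ 1 := by
          intro x
          obtain ⟨c, hc⟩ : ∃ c : H, x = R (x : G ⧸ H) * c := by
            refine ⟨⟨(R (x : G ⧸ H))⁻¹ * x, QuotientGroup.eq.1 (Quotient.out_eq _)⟩, ?_⟩
            exact (mul_inv_cancel_left _ _).symm
          set r := R (x : G ⧸ H)
          have hq := congrFun he (x : G ⧸ H)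
          rw [QuotientGroup.eq, hN] at hq
          have hcl := isClassFunction_of_isCharacter hψc
            ((⟨r⁻¹ * h * r, hHn.conj_mem' h h.2 r⟩ : H)⁻¹ *
              ⟨r⁻¹ * h' * r, hHn.conj_mem' h' h'.2 r⟩) c⁻¹
          rw [hq] at hcl
          rw [← hcl]
          refine congrArg ψ (Subtype.ext ?_)
          rw [hc]
          simp only [Subgroup.coe_mul, Subgroup.coe_inv]
          group
        rw [← hind, Cfsg.indFun, Cfsg.indFun]
        congr 1
        refine Finset.sum_congr rfl fun x _ => ?_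
        rw [extendByZero_of_mem H _ (hHn.conj_mem' _ (h⁻¹ * h').2 x), hall x,
          extendByZero_of_mem H _ (by simp)]
        exact congrArg ψ (Subtype.ext (by simp))
      have h4 := Nat.card_le_card_of_injective F hF
      rw [hHc, Nat.card_fun, hcQ, ← pow_mul, ← Subgroup.index_eq_card, hHi] at h4
      rw [mul_comm]
      exact (Nat.pow_le_pow_iff_right hp.one_lt).1 h4
    subst hff
    have h5 := Nat.mul_le_mul_left (p - 1) hbound
    have h6 := Nat.mul_le_mul_left p hIH'
    rw [hcard]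
    nlinarith
  · -- the kernel is normal
    obtain ⟨φ, hφ, φ', hφ', he, hne⟩ : ∃ φ ∈ powOrbit p ψ, ∃ φ' ∈ powOrbit p ψ,
        Φ φ = Φ φ' ∧ φ ≠ φ' := by
      simpa [Set.InjOn] using hinj
    obtain ⟨g, hg⟩ := hclif φ hφ φ' hφ' he
    obtain ⟨k, hk, rfl⟩ := hφ
    obtain ⟨k', hk', rfl⟩ := hφ'
    have hgH : g ∉ H := fun h => hne (hg.trans
      (OddIndexGalois.conjBy_of_mem H (isClassFunction_of_isIrr (hconjk k hk).1) h)).symm
    let cj : G → H → H := fun y h => ⟨y * h * y⁻¹, hHn.conj_mem h h.2 y⟩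
    let S : Subgroup G :=
      { carrier := {y | ∀ h : H, ψ (cj y h) = ψ 1 ↔ ψ h = ψ 1}
        one_mem' := fun h => by
          rw [show cj 1 h = h from Subtype.ext (by simp [cj])]
        mul_mem' := fun {y y'} hy hy' h => by
          rw [show cj (y * y') h = cj y (cj y' h) from Subtype.ext (by simp [cj, mul_assoc])]
          exact (hy _).trans (hy' h)
        inv_mem' := fun {y} hy h => by
          refine (hy (cj y⁻¹ h)).symm.trans ?_
          rw [show cj y (cj y⁻¹ h) = h from Subtype.ext (by simp [cj, mul_assoc])] }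
    have hHS : H ≤ S := fun y hy h => by
      rw [show cj y h = ⟨y, hy⟩ * h * (⟨y, hy⟩ : H)⁻¹ from Subtype.ext (by simp [cj]),
        isClassFunction_of_isCharacter hψc]
    have hgS : g ∈ S := by
      intro h
      rw [← hkerk k' hk' h, ← hkerk k hk (cj g h)]
      have h7 := congrFun hg h
      dsimp only [OddOrderChar.conjBy_apply] at h7
      rw [h7]
    have hStop : ∀ y : G, y ∈ S := by
      have h8 := Subgroup.index_dvd_of_le hHS
      rw [hHi] at h8
      rcases hp.eq_one_or_self_of_dvd _ h8 with h9 | h9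
      · intro y
        rw [Subgroup.index_eq_one.1 h9]
        exact Subgroup.mem_top y
      · refine absurd (?_ : g ∈ H) hgH
        have h10 := Subgroup.relIndex_mul_index hHS
        rw [h9, hHi] at h10
        have h11 : H.relIndex S = 1 :=
          Nat.eq_of_mul_eq_mul_right hp.pos (h10.trans (one_mul p).symm)
        exact (Subgroup.relIndex_eq_one.1 h11) hgS
    have hNbot : N = ⊥ := by
      rw [Subgroup.eq_bot_iff_forall]
      intro h hh
      refine Subtype.ext (hfaith _ ?_)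
      rw [← hind, Cfsg.indFun, Cfsg.indFun]
      congr 1
      refine Finset.sum_congr rfl fun x _ => ?_
      rw [extendByZero_of_mem H _ (hHn.conj_mem' _ h.2 x), extendByZero_of_mem H _ (by simp),
        show (⟨x⁻¹ * (h : G) * x, hHn.conj_mem' _ h.2 x⟩ : H) = cj x⁻¹ h from
          Subtype.ext (by simp [cj]), ((hStop x⁻¹) h).2 ((hN h).1 hh)]
      exact congrArg ψ (Subtype.ext (by simp))
    have ha'eq : a - 1 = a' := by
      rw [← Subgroup.index_eq_card, hNbot, Subgroup.index_bot, hHc] at hcQ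
      exact Nat.pow_right_injective hp.two_le hcQ
    have hle : (powOrbit p ψ).ncard ≤ (p - 1) * p ^ (t + 1) := by
      have hfib : ∀ φ₀ ∈ (powOrbit_finite p ψ).toFinset,
          ((powOrbit_finite p ψ).toFinset.filter fun φ => Φ φ = Φ φ₀).card ≤ p := by
        intro φ₀ h₀
        have h₀' := (powOrbit_finite p ψ).mem_toFinset.1 h₀
        obtain ⟨k₀, hk₀, hk₀e⟩ := h₀'
        have hirr : Cfsg.IsIrrCharacter H φ₀ := hk₀e ▸ (hconjk k₀ hk₀).1
        refine le_trans (Finset.card_le_card (t := Clifford.orbit H φ₀) fun φ hφ => ?_) ?_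
        · obtain ⟨hφ1, hφ2⟩ := Finset.mem_filter.1 hφ
          obtain ⟨y, hy⟩ := hclif φ₀ ((powOrbit_finite p ψ).mem_toFinset.1 h₀) φ
            ((powOrbit_finite p ψ).mem_toFinset.1 hφ1) hφ2.symm
          exact (Clifford.mem_orbit H).2 ⟨y, hy.symm⟩
        · exact Nat.le_of_dvd hp.pos (hHi ▸ OddIndexGalois.card_orbit_dvd_index H hirr)
      have h12 := Finset.card_le_mul_card_image (f := Φ) (powOrbit_finite p ψ).toFinset p
        fun b hb => by
          obtain ⟨φ₀, h₀, rfl⟩ := Finset.mem_image.1 hb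
          exact hfib φ₀ h₀
      have h13 : ((powOrbit_finite p ψ).toFinset.image Φ).card ≤ (powOrbit p χ).ncard := by
        rw [← Set.ncard_coe_finset]
        refine Set.ncard_le_ncard (fun b hb => ?_) (powOrbit_finite p χ)
        obtain ⟨φ₀, h₀, rfl⟩ := Finset.mem_image.1 (Finset.mem_coe.1 hb)
        exact hΦ _ ((powOrbit_finite p ψ).mem_toFinset.1 h₀)
      rw [Set.ncard_eq_toFinset_card _ (powOrbit_finite p ψ), pow_succ]
      calc _ ≤ p * ((powOrbit_finite p ψ).toFinset.image Φ).card := h12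
        _ ≤ p * ((p - 1) * p ^ t) := Nat.mul_le_mul_left p (h13.trans hr)
        _ = _ := by ring
    have hIH' := hIH (t + 1) hle
    subst hff
    rw [hcard, ha'eq]
    have hq : 1 ≤ (p - 1) * f' := Nat.one_le_iff_ne_zero.2 (Nat.mul_ne_zero (by omega) (by omega))
    rw [hpsucc] at *
    simp only [Nat.add_sub_cancel] at *
    nlinarith [Nat.mul_le_mul (Nat.le_mul_of_pos_left f' (by omega : 0 < p - 1)) (Nat.le_add_left 1 t)]

/-- The field of values has degree the number of power conjugates. -/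
theorem finrank_eq_ncard {G : Type u} [Group G] [Finite G] {p a : ℕ} (hp : p.Prime)
    (hG : Nat.card G = p ^ a) (ha : 0 < a) {χ : G → ℂ} (hχ : Cfsg.IsCharacter G χ) :
    (powOrbit p χ).ncard =
      Module.finrank ℚ (IntermediateField.adjoin ℚ (Set.range χ)) := by
  classical
  haveI : NeZero (p ^ a) := ⟨pow_ne_zero _ hp.ne_zero⟩
  have hζ := Complex.isPrimitiveRoot_exp (p ^ a) (pow_ne_zero _ hp.ne_zero)
  set ζ := Complex.exp (2 * Real.pi * Complex.I / ((p ^ a : ℕ) : ℂ))
  set E := IntermediateField.adjoin ℚ (Set.range χ) with hE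
  set L := IntermediateField.adjoin ℚ ({ζ} : Set ℂ)
  have hEL : E ≤ L := by
    refine IntermediateField.adjoin_le_iff.2 ?_
    rintro _ ⟨g, rfl⟩
    obtain ⟨m, ρ, rfl⟩ := hχ
    obtain ⟨μ, hμ, hj, -⟩ := exists_eigenvalues ρ g
    have h1 := hj 1
    rw [pow_one] at h1
    rw [SetLike.mem_coe, h1]
    refine sum_mem fun i _ => ?_
    rw [pow_one]
    obtain ⟨c, hc⟩ := orderOf_dvd_natCard g
    obtain ⟨j, -, hj'⟩ := hζ.eq_pow_of_pow_eq_one (show μ i ^ p ^ a = 1 by
      rw [← hG, hc, pow_mul, hμ i, one_pow])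
    rw [← hj']
    exact pow_mem (IntermediateField.mem_adjoin_simple_self ℚ ζ) j
  haveI : FiniteDimensional ℚ L := IntermediateField.adjoin.finiteDimensional
    ((hζ.isIntegral (pow_pos hp.pos _)).tower_top (A := ℚ))
  haveI : FiniteDimensional ℚ E :=
    FiniteDimensional.of_injective (IntermediateField.inclusion hEL).toLinearMap
      (IntermediateField.inclusion hEL).injective
  rw [← AlgHom.card ℚ E ℂ, ← Nat.card_eq_fintype_card, ← Nat.card_coe_set_eq]
  let M : (E →ₐ[ℚ] ℂ) → (G → ℂ) :=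
    fun φ g => φ ⟨χ g, IntermediateField.subset_adjoin ℚ _ ⟨g, rfl⟩⟩
  have hM : Function.Injective M := fun φ φ' h => by
    refine IntermediateField.adjoin_algHom_ext ℚ ?_
    intro x hx
    obtain ⟨g, hg⟩ := hx
    subst hg
    exact congrFun h g
  refine ((Nat.card_range_of_injective hM).symm.trans (congrArg Nat.card ?_)).symm
  congr 1
  ext θ
  constructor
  · rintro ⟨φ, rfl⟩
    obtain ⟨φ', hφ'⟩ := IntermediateField.exists_algHom_adjoin_of_splits (S := ({ζ} : Set ℂ))
      (fun s hs => by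
        rw [Set.mem_singleton_iff.1 hs]
        exact ⟨(hζ.isIntegral (pow_pos hp.pos _)).tower_top, IsAlgClosed.splits _⟩) φ hEL
    set z : L := ⟨ζ, IntermediateField.mem_adjoin_simple_self ℚ ζ⟩
    have hz : IsPrimitiveRoot z (p ^ a) := by
      refine IsPrimitiveRoot.of_map_of_injective (f := L.val) ?_ L.val.injective
      exact hζ
    obtain ⟨k, -, hk⟩ := hζ.eq_pow_of_pow_eq_one
      (hz.map_of_injective φ'.injective).pow_eq_one
    have hkc : ¬ p ∣ k := fun hd => by
      have h2 := (hζ.pow_iff_coprime (pow_pos hp.pos a) k).1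
        (hk.symm ▸ hz.map_of_injective φ'.injective)
      exact hp.not_dvd_one ((Nat.dvd_gcd hd (dvd_pow_self p ha.ne')).trans h2.dvd)
    refine ⟨k, hkc, funext fun g => ?_⟩
    obtain ⟨m, ρ, rfl⟩ := hχ
    obtain ⟨μ, hμ, hj, -⟩ := exists_eigenvalues ρ g
    have hmem : ∀ i, ∃ j, z ^ j = (⟨μ i, by
        obtain ⟨c, hc⟩ := orderOf_dvd_natCard g
        obtain ⟨j, -, hj'⟩ := hζ.eq_pow_of_pow_eq_one (show μ i ^ p ^ a = 1 by
          rw [← hG, hc, pow_mul, hμ i, one_pow])
        rw [← hj']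
        exact pow_mem (IntermediateField.mem_adjoin_simple_self ℚ ζ) j⟩ : L) := by
      intro i
      obtain ⟨c, hc⟩ := orderOf_dvd_natCard g
      obtain ⟨j, -, hj'⟩ := hζ.eq_pow_of_pow_eq_one (show μ i ^ p ^ a = 1 by
        rw [← hG, hc, pow_mul, hμ i, one_pow])
      exact ⟨j, Subtype.ext (by simpa [z] using hj')⟩
    choose j hjμ using hmem
    have hval : IntermediateField.inclusion hEL
        ⟨ρ.character g, IntermediateField.subset_adjoin ℚ _ ⟨g, rfl⟩⟩ = ∑ i, z ^ j i := by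
      refine Subtype.ext ?_
      show ρ.character g = _
      rw [AddSubmonoidClass.coe_finset_sum]
      simp only [hjμ]
      have h1 := hj 1
      rw [pow_one] at h1
      rw [h1]
      simp
    show ρ.character (g ^ k) = φ _
    rw [← hφ']
    show ρ.character (g ^ k) = φ' (IntermediateField.inclusion hEL
      ⟨ρ.character g, IntermediateField.subset_adjoin ℚ _ ⟨g, rfl⟩⟩)
    rw [hval, map_sum, hj k]
    refine Finset.sum_congr rfl fun i _ => ?_
    rw [map_pow, show φ' z = ζ ^ k from hk.symm, ← pow_mul (ζ), mul_comm k (j i), pow_mul]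
    have h5 := congrArg Subtype.val (hjμ i)
    simp only [SubmonoidClass.coe_pow, z] at h5
    rw [h5]
  · rintro ⟨k, hk, rfl⟩
    obtain ⟨σ, hσ⟩ := exists_aut hp a hk
    refine ⟨(σ.toRingHom.comp E.val.toRingHom).toRatAlgHom, funext fun g => ?_⟩
    exact hσ G (hG ▸ dvd_rfl) χ hχ g

end CfsgLib.PGroupFieldBound
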