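import Cfsg.Agent.Blocks.GroupAlgebra
import Cfsg.Agent.Blocks.Height
import Cfsg.Agent.Characters.Linear
import Cfsg.Agent.CharactersDeep.LinearChar
import Mathlib.GroupTheory.Transfer
import Mathlib.RepresentationTheory.Invariants

/-!
# Characters of degree `p - 1` and self-centralizing elements of order `p`
-/

set_option autoImplicit false
set_option linter.unusedSectionVars false
set_option linter.style.haveILetI false

namespace CfsgLib.SelfCentralPrime

open Cfsg
open scoped ComplexConjugate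

universe u

variable {G : Type u} [Group G] [Fintype G] {p : ℕ} [hp : Fact p.Prime] {x : G}

section Structure

variable (hx : orderOf x = p)
  (hC : Subgroup.centralizer ({x} : Set G) = Subgroup.zpowers x)

include hx

theorem card_zpow : Nat.card (Subgroup.zpowers x) = p := by rw [Nat.card_zpowers, hx]

theorem zpow_eq_of_mem {u : G} (hu : u ∈ Subgroup.zpowers x) (hu1 : u ≠ 1) :
    orderOf u = p ∧ Subgroup.zpowers u = Subgroup.zpowers x := by
  have hd : orderOf u ∣ p := (card_zpow hx) ▸ (Subgroup.zpowers x).orderOf_dvd_natCard hu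
  have ho : orderOf u = p :=
    (hp.out.eq_one_or_self_of_dvd _ hd).resolve_left (mt orderOf_eq_one_iff.1 hu1)
  exact ⟨ho, Subgroup.eq_of_le_of_card_ge (Subgroup.zpowers_le.2 hu)
    (by rw [card_zpow hx, Nat.card_zpowers, ho])⟩

include hC

theorem centralizer_eq_of_mem {u : G} (hu : u ∈ Subgroup.zpowers x) (hu1 : u ≠ 1) :
    Subgroup.centralizer ({u} : Set G) = Subgroup.zpowers x := by
  obtain ⟨-, hz⟩ := zpow_eq_of_mem hx hu hu1
  have hx' : x ∈ Subgroup.zpowers u := hz ▸ Subgroup.mem_zpowers x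
  refine le_antisymm (fun g hg => ?_) (fun g hg => ?_)
  · rw [← hC]
    obtain ⟨k, hk⟩ := hx'
    have hk' : u ^ k = x := hk
    refine Subgroup.mem_centralizer_singleton_iff.2 ?_
    rw [← hk']
    exact (Commute.zpow_right (Subgroup.mem_centralizer_singleton_iff.1 hg : Commute g u) k).eq
  · obtain ⟨i, rfl⟩ := hg
    obtain ⟨j, rfl⟩ := hu
    exact Subgroup.mem_centralizer_singleton_iff.2 ((Commute.zpow_zpow (Commute.refl x) i j).eq)

theorem exists_sylow : ∃ P : Sylow p G, (P : Subgroup G) = Subgroup.zpowers x := by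
  obtain ⟨P, hP⟩ := (IsPGroup.of_card (n := 1) (by rw [card_zpow hx, pow_one]) :
    IsPGroup p (Subgroup.zpowers x)).exists_le_sylow
  refine ⟨P, le_antisymm ?_ hP⟩
  haveI : Nontrivial (P : Subgroup G) := by
    refine ⟨⟨x, hP (Subgroup.mem_zpowers x)⟩, 1, fun h => ?_⟩
    have : x = 1 := congrArg Subtype.val h
    rw [this, orderOf_one] at hx
    exact hp.out.one_lt.ne hx
  haveI := IsPGroup.center_nontrivial P.2
  obtain ⟨z, hz, hz1⟩ := Subgroup.exists_ne_one_of_nontrivial
    (Subgroup.center (P : Subgroup G))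
  have hzx : (z : G) ∈ Subgroup.zpowers x := by
    rw [← hC]
    exact Subgroup.mem_centralizer_singleton_iff.2 (congrArg Subtype.val
      ((Subgroup.mem_center_iff.1 hz) ⟨x, hP (Subgroup.mem_zpowers x)⟩)).symm
  intro g hg
  rw [← centralizer_eq_of_mem hx hC hzx (fun h => hz1 (Subtype.ext h))]
  exact Subgroup.mem_centralizer_singleton_iff.2
    (congrArg Subtype.val ((Subgroup.mem_center_iff.1 hz) ⟨g, hg⟩))

theorem exists_conj_of_orderOf {g : G} (hg : orderOf g = p) :
    ∃ a : G, a⁻¹ * g * a ∈ Subgroup.zpowers x := by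
  obtain ⟨P, hP⟩ := exists_sylow hx hC
  obtain ⟨Q, hQ⟩ := (IsPGroup.of_card (n := 1) (by rw [Nat.card_zpowers, hg, pow_one]) :
    IsPGroup p (Subgroup.zpowers g)).exists_le_sylow
  obtain ⟨a, rfl⟩ := MulAction.exists_smul_eq G P Q
  refine ⟨a, ?_⟩
  rw [← hP]
  have h1 := hQ (Subgroup.mem_zpowers g)
  rw [Sylow.coe_subgroup_smul, Subgroup.mem_pointwise_smul_iff_inv_smul_mem] at h1
  simpa [MulAut.smul_def] using h1

theorem card_centralizer_of_orderOf {g : G} (hg : orderOf g = p) :
    Nat.card (Subgroup.centralizer ({g} : Set G)) = p := by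
  obtain ⟨a, ha⟩ := exists_conj_of_orderOf hx hC hg
  have h1 : a⁻¹ * g * a ≠ 1 := fun h => by
    have : g = 1 := by
      calc g = a * (a⁻¹ * g * a) * a⁻¹ := by group
        _ = 1 := by rw [h]; group
    rw [this, orderOf_one] at hg
    exact hp.out.one_lt.ne hg
  have hmap : Subgroup.centralizer ({g} : Set G) =
      (Subgroup.centralizer ({a⁻¹ * g * a} : Set G)).map (MulAut.conj a).toMonoidHom := by
    ext y
    simp only [Subgroup.mem_map, Subgroup.mem_centralizer_singleton_iff, MulEquiv.coe_toMonoidHom,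
      MulAut.conj_apply]
    constructor
    · intro h
      refine ⟨a⁻¹ * y * a, ?_, by group⟩
      calc a⁻¹ * y * a * (a⁻¹ * g * a) = a⁻¹ * (y * g) * a := by group
        _ = a⁻¹ * (g * y) * a := by rw [h]
        _ = a⁻¹ * g * a * (a⁻¹ * y * a) := by group
    · rintro ⟨c, hc, rfl⟩
      calc a * c * a⁻¹ * g = a * (c * (a⁻¹ * g * a)) * a⁻¹ := by group
        _ = a * (a⁻¹ * g * a * c) * a⁻¹ := by rw [hc]
        _ = g * (a * c * a⁻¹) := by group
  rw [hmap, Nat.card_congr ((Subgroup.centralizer ({a⁻¹ * g * a} : Set G)).equivMapOfInjective _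
    (MulAut.conj a).injective).toEquiv.symm, centralizer_eq_of_mem hx hC ha h1, card_zpow hx]

open Classical in
/-- Elements of order `p` are spread evenly over the conjugates of `⟨x⟩`. -/
theorem sum_orderOf_eq (f : G → ℂ) (hf : Cfsg.IsClassFunction G f) :
    (Nat.card (Subgroup.normalizer (Subgroup.zpowers x : Set G)) : ℂ) *
        ∑ g : G, (if orderOf g = p then f g else 0) =
      (Nat.card G : ℂ) * ∑ u : Subgroup.zpowers x, if (u : G) = 1 then 0 else f u := by
  have hpair : ∀ g : G, orderOf g = p →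
      (Finset.univ.filter fun a : G => a⁻¹ * g * a ∈ (Subgroup.zpowers x)).card =
        Nat.card (Subgroup.normalizer ((Subgroup.zpowers x) : Set G)) := by
    intro g hg
    obtain ⟨a, ha⟩ := exists_conj_of_orderOf hx hC hg
    rw [Nat.card_eq_fintype_card, ← Finset.card_univ]
    refine (Finset.card_bij (s := (Finset.univ :
      Finset (Subgroup.normalizer (Subgroup.zpowers x : Set G))))
      (t := Finset.univ.filter fun b : G => b⁻¹ * g * b ∈ Subgroup.zpowers x)
      (fun n _ => a * (n : G)) ?_ ?_ ?_).symm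
    · intro n _
      refine Finset.mem_filter.2 ⟨Finset.mem_univ _, ?_⟩
      rw [show (a * (n : G))⁻¹ * g * (a * n) = (n : G)⁻¹ * (a⁻¹ * g * a) * ((n : G)⁻¹)⁻¹ by group]
      exact (Subgroup.mem_normalizer_iff.1 (inv_mem n.2) _).1 ha
    · intro n _ n' _ h
      exact Subtype.ext (mul_left_cancel h)
    · intro b hb
      have hb' := (Finset.mem_filter.1 hb).2
      refine ⟨⟨a⁻¹ * b, ?_⟩, Finset.mem_univ _, mul_inv_cancel_left a b⟩
      set n := a⁻¹ * b with hn
      have hbn : b⁻¹ * g * b = n⁻¹ * (a⁻¹ * g * a) * n := by rw [hn]; group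
      rw [hbn] at hb'
      have hw : a⁻¹ * g * a ≠ 1 := fun h => by
        have : g = 1 := by
          calc g = a * (a⁻¹ * g * a) * a⁻¹ := by group
            _ = 1 := by rw [h]; group
        rw [this, orderOf_one] at hg
        exact hp.out.one_lt.ne hg
      have hz := (zpow_eq_of_mem hx ha hw).2
      have hmap : (Subgroup.zpowers x).map (MulAut.conj n⁻¹).toMonoidHom = Subgroup.zpowers x := by
        conv_lhs => rw [← hz, MonoidHom.map_zpowers]
        simp only [MulEquiv.coe_toMonoidHom, MulAut.conj_apply, inv_inv]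
        refine (zpow_eq_of_mem hx hb' fun h => hw ?_).2
        calc a⁻¹ * g * a = n * (n⁻¹ * (a⁻¹ * g * a) * n) * n⁻¹ := by group
          _ = 1 := by rw [h]; group
      rw [← inv_mem_iff]
      refine Subgroup.mem_normalizer_iff.2 fun h => ?_
      conv_rhs => rw [← hmap]
      exact (Subgroup.mem_map_iff_mem (f := (MulAut.conj n⁻¹).toMonoidHom)
        (MulAut.conj n⁻¹).injective).symm
  calc (Nat.card (Subgroup.normalizer ((Subgroup.zpowers x) : Set G)) : ℂ) *
        ∑ g : G, (if orderOf g = p then f g else 0)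
      = ∑ g : G, ∑ a : G, if a⁻¹ * g * a ∈ (Subgroup.zpowers x) ∧ orderOf g = p then f g else 0 := by
        rw [Finset.mul_sum]
        refine Finset.sum_congr rfl fun g _ => ?_
        split_ifs with hg
        · simp only [and_iff_left hg, ← Finset.sum_filter, Finset.sum_const, hpair g hg,
            nsmul_eq_mul]
        · simp [hg]
    _ = ∑ a : G, ∑ v : G, if v ∈ (Subgroup.zpowers x) ∧ v ≠ 1 then f v else 0 := by
        rw [Finset.sum_comm]
        refine Finset.sum_congr rfl fun a _ => ?_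
        refine Fintype.sum_equiv (MulAut.conj a⁻¹).toEquiv _ _ fun g => ?_
        have hcj : (MulAut.conj a⁻¹).toEquiv g = a⁻¹ * g * a := by simp
        rw [hcj]
        have hfe : f (a⁻¹ * g * a) = f g := by simpa using hf g a⁻¹
        refine (if_congr ?_ rfl rfl).trans (by rw [hfe])
        constructor
        · rintro ⟨h1, h2⟩
          refine ⟨h1, fun h => ?_⟩
          have : g = 1 := by
            calc g = a * (a⁻¹ * g * a) * a⁻¹ := by group
              _ = 1 := by rw [h]; group
          rw [this, orderOf_one] at h2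
          exact hp.out.one_lt.ne h2
        · rintro ⟨h1, h2⟩
          refine ⟨h1, ?_⟩
          have := (zpow_eq_of_mem hx h1 h2).1
          rwa [show a⁻¹ * g * a = MulAut.conj a⁻¹ g by simp, MulEquiv.orderOf_eq] at this
    _ = _ := by
        rw [Finset.sum_const, Finset.card_univ, ← Nat.card_eq_fintype_card, nsmul_eq_mul]
        congr 1
        rw [← Finset.sum_subtype (Finset.univ.filter fun v => v ∈ (Subgroup.zpowers x)) (by simp)
          (fun v => if v = 1 then (0 : ℂ) else f v), Finset.sum_filter]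
        refine Finset.sum_congr rfl fun v _ => ?_
        by_cases h1 : v ∈ (Subgroup.zpowers x)
        · by_cases h2 : v = 1 <;> simp [h1, h2]
        · simp [h1]

open Classical in
theorem sum_zpow_eq {t e : ℕ}
    (ht : Nat.card {C : ConjClasses G // ∃ g ∈ C.carrier, orderOf g = p} = t)
    (he : Nat.card (Subgroup.normalizer (Subgroup.zpowers x : Set G)) = p * e)
    (f : G → ℂ) (hf : Cfsg.IsClassFunction G f) [Fintype (ConjClasses G)] :
    ∃ F : Finset (ConjClasses G), F.card = t ∧
      ∑ u : Subgroup.zpowers x, (if (u : G) = 1 then 0 else f u) =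
        (e : ℂ) * ∑ C ∈ F, f (Quotient.out C) := by
  refine ⟨Finset.univ.filter fun C => ∃ g ∈ C.carrier, orderOf g = p, ?_, ?_⟩
  · rw [← ht, Nat.card_eq_fintype_card, Fintype.card_subtype]
  have hG : (Nat.card G : ℂ) ≠ 0 := Nat.cast_ne_zero.2 Nat.card_pos.ne'
  refine mul_left_cancel₀ hG ?_
  rw [← sum_orderOf_eq hx hC f hf, he, ← Finset.sum_fiberwise Finset.univ ConjClasses.mk,
    Finset.mul_sum, Finset.mul_sum, Finset.mul_sum, Finset.sum_filter]
  refine Finset.sum_congr rfl fun C _ => ?_
  have hC' : ConjClasses.mk (Quotient.out C) = C := Quotient.out_eq C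
  have hord : ∀ g, ConjClasses.mk g = C → orderOf g = orderOf (Quotient.out C) := fun g hg => by
    obtain ⟨c, hc⟩ := isConj_iff.1 (ConjClasses.mk_eq_mk_iff_isConj.1 (hg.trans hC'.symm))
    rw [← hc, show c * g * c⁻¹ = MulAut.conj c g from rfl, MulEquiv.orderOf_eq]
  have hex : (∃ g ∈ C.carrier, orderOf g = p) ↔ orderOf (Quotient.out C) = p :=
    ⟨fun ⟨g, hg, ho⟩ => (hord g (ConjClasses.mem_carrier_iff_mk_eq.1 hg)) ▸ ho,
      fun h => ⟨_, ConjClasses.mem_carrier_iff_mk_eq.2 hC', h⟩⟩
  rw [Finset.sum_congr rfl (g := fun _ =>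
    if orderOf (Quotient.out C) = p then f (Quotient.out C) else 0) fun g hg => ?_]
  · rw [Finset.sum_const, nsmul_eq_mul, ← Fintype.card_subtype, ← Nat.card_eq_fintype_card]
    by_cases ho : orderOf (Quotient.out C) = p
    · rw [if_pos ho, if_pos (hex.2 ho)]
      have hidx := (Subgroup.centralizer ({Quotient.out C} : Set G)).card_mul_index
      rw [card_centralizer_of_orderOf hx hC ho] at hidx
      conv_lhs => arg 2; arg 1; rw [← hC', Blocks.natCard_class]
      rw [← hidx]
      push_cast
      ring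
    · rw [if_neg ho, if_neg (mt hex.1 ho)]; simp
  · have hg' := (Finset.mem_filter.1 hg).2
    obtain ⟨c, hc⟩ := isConj_iff.1 (ConjClasses.mk_eq_mk_iff_isConj.1 (hC'.trans hg'.symm))
    rw [hord g hg']
    have : f g = f (Quotient.out C) := by rw [← hc, hf]
    rw [this]

theorem exists_generator {e : ℕ}
    (he : Nat.card (Subgroup.normalizer (Subgroup.zpowers x : Set G)) = p * e) (he2 : 2 ≤ e) :
    ∃ y, y ∈ Subgroup.normalizer (Subgroup.zpowers x : Set G) ∧
      (orderOf y = e ∧ ∀ j, 0 < j → j < e → y ^ j ∉ Subgroup.zpowers x) := by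
  let φ := Subgroup.normalizerMonoidHom (Subgroup.zpowers x)
  have hmem : ∀ w : Subgroup.normalizer ((Subgroup.zpowers x) : Set G), φ w = 1 ↔ (w : G) ∈ (Subgroup.zpowers x) := by
    intro w
    rw [← MonoidHom.mem_ker, Subgroup.normalizerMonoidHom_ker, Subgroup.mem_subgroupOf]
    constructor
    · intro h
      refine hC.le ?_
      exact Subgroup.mem_centralizer_singleton_iff.2
        ((Subgroup.mem_centralizer_iff.1 h) x (Subgroup.mem_zpowers x)).symm
    · rintro ⟨i, hi⟩
      refine Subgroup.mem_centralizer_iff.2 fun h hh => ?_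
      obtain ⟨j, rfl⟩ := hh
      rw [← hi]
      exact ((Commute.zpow_zpow (Commute.refl x) j i)).eq
  have hker : φ.ker = (Subgroup.zpowers x).subgroupOf (Subgroup.normalizer ((Subgroup.zpowers x) : Set G)) :=
    Subgroup.ext fun w => MonoidHom.mem_ker.trans ((hmem w).trans Subgroup.mem_subgroupOf.symm)
  have hcard : Nat.card φ.range = e := by
    have h1 := φ.ker.index_mul_card
    rw [Subgroup.index_ker, hker,
      Nat.card_congr (Subgroup.subgroupOfEquivOfLe Subgroup.le_normalizer).toEquiv,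
      card_zpow hx, he, mul_comm] at h1
    exact mul_left_cancel₀ hp.out.ne_zero h1
  haveI : IsCyclic (ZMod (Nat.card (Subgroup.zpowers x)))ˣ := by
    rw [card_zpow hx]
    infer_instance
  haveI : IsCyclic (MulAut (Subgroup.zpowers x)) :=
    isCyclic_of_injective (IsCyclic.mulAutMulEquiv (Subgroup.zpowers x)).toMonoidHom
      (IsCyclic.mulAutMulEquiv (Subgroup.zpowers x)).injective
  obtain ⟨g, hg⟩ := IsCyclic.exists_ofOrder_eq_natCard (α := φ.range)
  obtain ⟨y, hy⟩ := g.2
  have ho : orderOf (φ y) = e := by rw [hy, Subgroup.orderOf_coe, hg, hcard]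
  have hnot : ∀ j, 0 < j → j < e → (y : G) ^ j ∉ (Subgroup.zpowers x) := by
    intro j hj hje hmem'
    have h1 : φ (y ^ j) = 1 := (hmem _).2 (by simpa using hmem')
    rw [map_pow] at h1
    have := Nat.le_of_dvd hj (orderOf_dvd_iff_pow_eq_one.2 h1)
    omega
  refine ⟨y, y.2, ?_, hnot⟩
  have hye : (y : G) ^ e ∈ (Subgroup.zpowers x) := by
    rw [← SubgroupClass.coe_pow, ← hmem, map_pow, ← ho, pow_orderOf_eq_one]
  have hye1 : (y : G) ^ e = 1 := by
    by_contra h
    refine hnot 1 one_pos he2 ?_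
    rw [pow_one]
    refine (centralizer_eq_of_mem hx hC hye h).le ?_
    exact Subgroup.mem_centralizer_singleton_iff.2 ((Commute.refl (y : G)).pow_right e).eq
  refine Nat.dvd_antisymm (orderOf_dvd_of_pow_eq_one hye1) ?_
  rw [← ho, Subgroup.orderOf_coe]
  exact orderOf_map_dvd φ y

end Structure

theorem exists_int_of_mul {e : ℕ} (he : e ≠ 0) {S : ℂ} (hS : IsIntegral ℤ S) {m : ℤ}
    (h : (e : ℂ) * S = (m : ℂ)) : ∃ k : ℤ, S = k := by
  have hq : ((m / e : ℚ) : ℂ) = S := by
    rw [Rat.cast_div, Rat.cast_intCast, Rat.cast_natCast, ← h,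
      mul_div_cancel_left₀ _ (Nat.cast_ne_zero.2 he)]
  rw [← hq] at hS
  obtain ⟨k, hk⟩ := IsIntegrallyClosed.isIntegral_iff.1
    ((isIntegral_algHom_iff (Algebra.ofId ℚ ℂ |>.restrictScalars ℤ)
      (RingHom.injective _)).1 hS)
  exact ⟨k, by rw [← hq, ← hk]; simp⟩

/-- Roots of unity each taken equally often have product `(-1) ^ t`. -/
theorem prod_eq_neg_one {n e t : ℕ} (μ : Fin n → ℂ) (he : Even e) (ht : Odd t) (he0 : e ≠ 0)
    (hn : n = e * t) (hμ : ∀ i, μ i ^ e = 1) (hsum : ∀ j, 0 < j → j < e → ∑ i, μ i ^ j = 0) :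
    ∏ i, μ i = -1 := by
  classical
  obtain ⟨ζ, hζ⟩ : ∃ ζ : ℂ, IsPrimitiveRoot ζ e := ⟨_, Complex.isPrimitiveRoot_exp e he0⟩
  haveI : NeZero e := ⟨he0⟩
  have ha : ∀ i, ∃ a < e, ζ ^ a = μ i := fun i => hζ.eq_pow_of_pow_eq_one (hμ i)
  choose a hae haμ using ha
  have hcount : ∀ k < e, (Finset.univ.filter fun i => a i = k).card = t := by
    intro k hk
    have hgeo : ∀ i, ∑ j ∈ Finset.range e, (ζ ^ (e - k)) ^ j * μ i ^ j =
        if a i = k then (e : ℂ) else 0 := by
      intro i
      simp only [← mul_pow, ← haμ i, ← pow_add]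
      split_ifs with h
      · rw [h, Nat.sub_add_cancel hk.le, hζ.pow_eq_one]; simp
      · have hne : ζ ^ (e - k + a i) ≠ 1 := fun h1 => h (by
          obtain ⟨c, hc⟩ := (hζ.pow_eq_one_iff_dvd _).1 h1
          have hai := hae i
          rcases Nat.lt_trichotomy c 1 with hc1 | hc1 | hc1
          · rw [Nat.lt_one_iff.1 hc1, mul_zero] at hc; omega
          · rw [hc1, mul_one] at hc; omega
          · have : e * 2 ≤ e * c := Nat.mul_le_mul_left e hc1
            omega)
        have h2 := mul_geom_sum (ζ ^ (e - k + a i)) e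
        rw [show (ζ ^ (e - k + a i)) ^ e = 1 by
          rw [← pow_mul, mul_comm, pow_mul, hζ.pow_eq_one, one_pow], sub_self] at h2
        exact (mul_eq_zero.1 h2).resolve_left (sub_ne_zero.2 hne)
    have h1 : ∑ i, ∑ j ∈ Finset.range e, (ζ ^ (e - k)) ^ j * μ i ^ j =
        ((Finset.univ.filter fun i => a i = k).card : ℂ) * e := by
      simp only [hgeo, ← Finset.sum_filter, Finset.sum_const, nsmul_eq_mul]
    rw [Finset.sum_comm, Finset.sum_eq_single 0] at h1
    · simp only [pow_zero, mul_one, Finset.sum_const, Finset.card_univ, Fintype.card_fin,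
        nsmul_eq_mul, hn, Nat.cast_mul] at h1
      have : ((Finset.univ.filter fun i => a i = k).card : ℂ) = (t : ℂ) :=
        mul_right_cancel₀ (Nat.cast_ne_zero.2 he0) (h1.symm.trans (mul_comm _ _))
      exact_mod_cast this
    · intro j hj hj0
      rw [← Finset.mul_sum, hsum j (Nat.pos_of_ne_zero hj0) (Finset.mem_range.1 hj), mul_zero]
    · intro h; exact absurd (Finset.mem_range.2 (Nat.pos_of_ne_zero he0)) h
  rw [Finset.prod_congr rfl fun i _ => (haμ i).symm, Finset.prod_pow_eq_pow_sum]
  have hsa : ∑ i, a i = t * ∑ k ∈ Finset.range e, k := by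
    rw [← Finset.sum_fiberwise_of_maps_to (t := Finset.range e) (g := a)
      (fun i _ => Finset.mem_range.2 (hae i)), Finset.mul_sum]
    refine Finset.sum_congr rfl fun k hk => ?_
    rw [Finset.sum_congr rfl fun i hi => (Finset.mem_filter.1 hi).2, Finset.sum_const,
      hcount k (Finset.mem_range.1 hk), smul_eq_mul]
  obtain ⟨f, hf⟩ := he
  have hhalf : ζ ^ f = -1 := by
    have h2 : (ζ ^ f) ^ 2 = 1 := by rw [← pow_mul, show f * 2 = e by omega, hζ.pow_eq_one]
    exact (sq_eq_one_iff.1 h2).resolve_left (hζ.pow_ne_one_of_pos_of_lt (by omega) (by omega))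
  have hgauss : ∑ k ∈ Finset.range e, k = f * (e - 1) := by
    rw [Finset.sum_range_id, hf, show (f + f) * (f + f - 1) = f * (f + f - 1) * 2 by ring,
      Nat.mul_div_cancel _ Nat.zero_lt_two]
  rw [hsa, hgauss, mul_left_comm, pow_mul, hhalf]
  exact Odd.neg_one_pow (ht.mul (Nat.Even.sub_odd (by omega) ⟨f, hf⟩ odd_one))

open Classical in
/-- For an odd number of classes of order `p`, a character of degree `p - 1` has a determinant of
even order. -/
theorem exists_hom_neg_one (hx : orderOf x = p)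
    (hC : Subgroup.centralizer ({x} : Set G) = Subgroup.zpowers x) (hp2 : p ≠ 2) {t : ℕ}
    (ht : Nat.card {C : ConjClasses G // ∃ g ∈ C.carrier, orderOf g = p} = t) (htodd : Odd t)
    {χ : IrrCharacter G} (hχ : Cfsg.charDegree (χ : G → ℂ) + 1 = p) :
    ∃ (L : G →* ℂˣ) (y : G), (L y : ℂ) = -1 := by
  haveI := Fintype.ofFinite (ConjClasses G)
  have hP := card_zpow hx
  have hPN : (Subgroup.zpowers x) ≤ Subgroup.normalizer ((Subgroup.zpowers x) : Set G) := Subgroup.le_normalizer
  obtain ⟨e, he⟩ : p ∣ Nat.card (Subgroup.normalizer ((Subgroup.zpowers x) : Set G)) :=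
    hP ▸ Subgroup.card_dvd_of_le hPN
  have he0 : e ≠ 0 := by
    rintro rfl
    rw [mul_zero] at he
    exact Nat.card_pos.ne' he
  have hp1 := hp.out.one_lt
  -- the number of classes
  have hte : p - 1 = e * t := by
    obtain ⟨F, hF, h⟩ := sum_zpow_eq hx hC ht he (fun _ => (1 : ℂ)) (fun _ _ => rfl)
    have hcnt : (∑ u : Subgroup.zpowers x, if (u : G) = 1 then (0 : ℂ) else 1) =
        ((p - 1 : ℕ) : ℂ) := by
      simp only [OneMemClass.coe_eq_one]
      rw [Finset.sum_ite, Finset.sum_const_zero, zero_add, Finset.sum_const, nsmul_eq_mul, mul_one,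
        Finset.filter_ne', Finset.card_erase_of_mem (Finset.mem_univ _), Finset.card_univ,
        ← Nat.card_eq_fintype_card, hP]
    rw [Finset.sum_const, nsmul_eq_mul, mul_one, hF] at h
    rw [hcnt] at h
    exact_mod_cast h
  have heven : Even e := by
    have h1 : Even (e * t) := hte ▸ hp.out.even_sub_one hp2
    exact (Nat.even_mul.1 h1).resolve_right (Nat.not_even_iff_odd.2 htodd)
  have he2 : 2 ≤ e := by obtain ⟨f, rfl⟩ := heven; omega
  obtain ⟨n, ρ, hρ, hρχ⟩ := χ.2
  have hn : n = e * t := by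
    have h1 : (χ : G → ℂ) 1 = n := by rw [← hρχ, Representation.char_one]; simp
    rw [← Blocks.charDegree_cast] at h1
    have h2 : Cfsg.charDegree (χ : G → ℂ) = n := by exact_mod_cast h1
    omega
  have hdeg : (χ : G → ℂ) 1 = ((p - 1 : ℕ) : ℂ) := by
    rw [← Blocks.charDegree_cast]; congr 1; omega
  -- the multiplicity of the trivial character
  have hres := Characters.isCharacter_restrict (Subgroup.zpowers x) (Characters.isCharacter_of_isIrr χ.2)
  have hPG : ∀ u : (Subgroup.zpowers x), ((u : G) = 1) ↔ u = 1 := fun u => OneMemClass.coe_eq_one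
  obtain ⟨m0, hm0⟩ := Characters.classInner_characters hres Characters.isCharacter_one
  have hsum1 : ∑ u : (Subgroup.zpowers x), (χ : G → ℂ) u = (p : ℂ) * m0 := by
    rw [← hm0, Cfsg.classInner, hP, ← mul_assoc,
      mul_inv_cancel₀ (Nat.cast_ne_zero.2 hp.out.ne_zero), one_mul]
    simp only [map_one, mul_one]
  have hzero : m0 = 0 := by
    by_contra hm
    obtain ⟨F, hF, h⟩ := sum_zpow_eq hx hC ht he (χ : G → ℂ)
      (Characters.isClassFunction_of_isIrr χ.2)
    obtain ⟨F', hF', h'⟩ := sum_zpow_eq hx hC ht he (fun g => (χ : G → ℂ) g * conj ((χ : G → ℂ) g))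
      (fun g c => by simp only [Characters.isClassFunction_of_isIrr χ.2 g c])
    have hsplit : ∀ F : G → ℂ, ∑ u : (Subgroup.zpowers x), (if (u : G) = 1 then 0 else F u) =
        (∑ u : (Subgroup.zpowers x), F u) - F 1 := by
      intro F
      rw [eq_sub_iff_add_eq, ← Finset.add_sum_erase _ _ (Finset.mem_univ (1 : (Subgroup.zpowers x))),
        ← Finset.add_sum_erase (f := fun u : (Subgroup.zpowers x) => F u) _ (Finset.mem_univ (1 : (Subgroup.zpowers x))),
        Finset.sum_congr rfl fun (u : (Subgroup.zpowers x)) hu =>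
          if_neg fun h => (Finset.mem_erase.1 hu).1 ((hPG u).1 h), OneMemClass.coe_one, if_pos rfl]
      ring
    rw [hsplit (χ : G → ℂ), hsum1, hdeg] at h
    have hint : IsIntegral ℤ (∑ C ∈ F, (χ : G → ℂ) (Quotient.out C)) :=
      IsIntegral.sum _ fun C _ =>
        Characters.character_isIntegral (Characters.isCharacter_of_isIrr χ.2) _
    obtain ⟨k, hk⟩ := exists_int_of_mul he0 hint
      (m := (p : ℤ) * m0 - ((p - 1 : ℕ) : ℤ)) (by rw [← h]; push_cast; ring)
    have hdvd : (e : ℤ) ∣ (p : ℤ) * m0 := by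
      rw [hk] at h
      have h2 : (p : ℤ) * m0 - ((p - 1 : ℕ) : ℤ) = (e : ℤ) * k := by exact_mod_cast h
      have h3 : (p : ℤ) * m0 = (e : ℤ) * (k + t) := by
        rw [mul_add, ← h2, hte]; push_cast; ring
      exact Dvd.intro _ h3.symm
    have hcop : Nat.Coprime e p := by
      refine ((hp.out.coprime_iff_not_dvd).2 fun hpe => ?_).symm
      have := Nat.le_of_dvd (by omega) hpe
      have : e ≤ e * t := Nat.le_mul_of_pos_right e htodd.pos
      omega
    obtain ⟨k0, rfl⟩ : e ∣ m0 :=
      hcop.dvd_of_dvd_mul_left (Int.natCast_dvd_natCast.1 (by push_cast; exact hdvd))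
    -- the norm
    choose c hc using fun η : IrrCharacter (Subgroup.zpowers x) => Characters.classInner_character_irr hres η.2
    let one : IrrCharacter (Subgroup.zpowers x) := ⟨fun _ => 1, Characters.isIrr_one⟩
    have hc0 : c one = e * k0 := by
      have := hm0; rw [show (fun _ : (Subgroup.zpowers x) => (1 : ℂ)) = (one : (Subgroup.zpowers x) → ℂ) from rfl, hc one] at this
      exact_mod_cast this
    have hlin : ∀ η : IrrCharacter (Subgroup.zpowers x), (η : (Subgroup.zpowers x) → ℂ) 1 = 1 := by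
      intro η
      obtain ⟨k, σ, hσ, hη⟩ := η.2
      haveI := hσ
      have h1 := Characters.finrank_dvd_center_index σ
      rw [Subgroup.index_eq_one.2 ((Subgroup.eq_top_iff' _).2 fun a =>
        Subgroup.mem_center_iff.2 fun b => mul_comm' b a), Nat.dvd_one] at h1
      rw [← hη, Representation.char_one, h1, Nat.cast_one]
    have hexp := Characters.character_expansion hres
    have hN : ∑ η : IrrCharacter (Subgroup.zpowers x), c η = p - 1 := by
      have h1 := congrFun hexp 1
      simp only [Finset.sum_apply, Pi.smul_apply, smul_eq_mul, OneMemClass.coe_one, hdeg, hc,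
        hlin, mul_one] at h1
      exact_mod_cast h1.symm
    have hQ : ∑ u : (Subgroup.zpowers x), (χ : G → ℂ) u * conj ((χ : G → ℂ) u) =
        (p : ℂ) * ((∑ η : IrrCharacter (Subgroup.zpowers x), c η ^ 2 : ℕ) : ℂ) := by
      have h1 : Cfsg.classInner (fun u : (Subgroup.zpowers x) => (χ : G → ℂ) u) (fun u : (Subgroup.zpowers x) => (χ : G → ℂ) u) =
          ((∑ η : IrrCharacter (Subgroup.zpowers x), c η ^ 2 : ℕ) : ℂ) := by
        conv_lhs => arg 2; rw [hexp]
        rw [Characters.classInner_sum_right]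
        push_cast
        refine Finset.sum_congr rfl fun η _ => ?_
        rw [Characters.classInner_smul_right, hc, map_natCast, sq]
      rw [← h1, Cfsg.classInner, hP, ← mul_assoc,
        mul_inv_cancel₀ (Nat.cast_ne_zero.2 hp.out.ne_zero), one_mul]
    have hbound : (∑ u : (Subgroup.zpowers x), (if (u : G) = 1 then 0 else (χ : G → ℂ) u * conj ((χ : G → ℂ) u))).re
        < ((e * p : ℕ) : ℝ) := by
      have hall : ∑ g : G, (χ : G → ℂ) g * conj ((χ : G → ℂ) g) = Nat.card G := by
        have h1 := Characters.classInner_isIrr_self χ.2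
        rwa [Cfsg.classInner, inv_mul_eq_one₀ Characters.natCard_ne_zero, eq_comm] at h1
      have hlt : (∑ g : G, if orderOf g = p then (χ : G → ℂ) g * conj ((χ : G → ℂ) g) else 0).re
          < (Nat.card G : ℝ) := by
        rw [← Complex.natCast_re, ← hall, Complex.re_sum, Complex.re_sum]
        refine Finset.sum_lt_sum (fun g _ => ?_) ⟨1, Finset.mem_univ _, ?_⟩
        · split_ifs
          · exact le_rfl
          · rw [Complex.mul_conj, Complex.ofReal_re, Complex.zero_re]; exact Complex.normSq_nonneg _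
        · rw [orderOf_one, if_neg hp1.ne, hdeg, Complex.zero_re, map_natCast, ← Nat.cast_mul,
            Complex.natCast_re, Nat.cast_pos]
          exact Nat.mul_pos (by omega) (by omega)
      have h1 := congrArg Complex.re (sum_orderOf_eq hx hC
        (fun g => (χ : G → ℂ) g * conj ((χ : G → ℂ) g))
        (fun g c => by simp only [Characters.isClassFunction_of_isIrr χ.2 g c]))
      simp only [Complex.mul_re, Complex.natCast_re, Complex.natCast_im, zero_mul, sub_zero] at h1
      rw [he] at h1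
      have h2 : (0 : ℝ) < (Nat.card G : ℝ) := Nat.cast_pos.2 Nat.card_pos
      refine lt_of_mul_lt_mul_left ?_ h2.le
      rw [← h1, mul_comm e p, mul_comm (Nat.card G : ℝ)]
      exact mul_lt_mul_of_pos_left hlt (Nat.cast_pos.2 (Nat.mul_pos hp.out.pos (by omega)))
    rw [h', ] at hbound
    rw [hsplit (fun g => (χ : G → ℂ) g * conj ((χ : G → ℂ) g)), hQ, hdeg, map_natCast] at h'
    set S := ∑ C ∈ F', (χ : G → ℂ) (Quotient.out C) * conj ((χ : G → ℂ) (Quotient.out C))
    have hS : IsIntegral ℤ S := IsIntegral.sum _ fun C _ => by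
      refine (Characters.character_isIntegral (Characters.isCharacter_of_isIrr χ.2) _).mul ?_
      rw [← Characters.character_inv (Characters.isCharacter_of_isIrr χ.2)]
      exact Characters.character_isIntegral (Characters.isCharacter_of_isIrr χ.2) _
    set Q := ∑ η : IrrCharacter (Subgroup.zpowers x), c η ^ 2
    obtain ⟨l, hl⟩ := exists_int_of_mul he0 hS
      (m := (p : ℤ) * Q - ((p - 1 : ℕ) : ℤ) * ((p - 1 : ℕ) : ℤ)) (by rw [← h']; push_cast; ring)
    rw [hl] at h' hbound
    have hl2 : (p : ℤ) * Q - ((p - 1 : ℕ) : ℤ) * ((p - 1 : ℕ) : ℤ) = (e : ℤ) * l := by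
      exact_mod_cast h'
    have hl3 : (e : ℤ) * l < (e : ℤ) * p := by
      have h5 : (((e : ℤ) * l : ℤ) : ℝ) < (((e : ℤ) * p : ℤ) : ℝ) := by
        simpa [Complex.mul_re] using hbound
      exact_mod_cast h5
    have hlp : l ≤ (p : ℤ) - 1 := by
      have := lt_of_mul_lt_mul_left hl3 (by positivity)
      omega
    -- lower bound for the norm
    have hlow : (e * k0) ^ 2 + (p - 1 - e * k0) ≤ Q := by
      have h1 : c one ^ 2 + ∑ η ∈ Finset.univ.erase one, c η ≤ Q := by
        simp only [Q]
        rw [← Finset.add_sum_erase _ _ (Finset.mem_univ one)]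
        exact Nat.add_le_add_left (Finset.sum_le_sum fun η _ => Nat.le_self_pow two_ne_zero _) _
      rw [← Finset.add_sum_erase _ _ (Finset.mem_univ one), hc0] at hN
      rw [hc0] at h1
      omega
    have hle : e * k0 ≤ p - 1 := by
      rw [← hN, ← hc0]
      exact Finset.single_le_sum (fun η _ => Nat.zero_le _) (Finset.mem_univ one)
    have hp' : ((p - 1 : ℕ) : ℤ) = (p : ℤ) - 1 := by push_cast [Nat.one_le_iff_ne_zero.2 hp.out.ne_zero]; ring
    have hlow' : ((e : ℤ) * k0) ^ 2 + ((p : ℤ) - 1 - e * k0) ≤ Q := by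
      have : (((e * k0) ^ 2 + (p - 1 - e * k0) : ℕ) : ℤ) ≤ (Q : ℤ) := by exact_mod_cast hlow
      rw [Nat.cast_add, Nat.cast_sub hle, hp'] at this
      push_cast at this
      exact this
    rw [hp'] at hl2
    have hk0 : (1 : ℤ) ≤ k0 := by
      rcases Nat.eq_zero_or_pos k0 with h0 | h0
      · exact absurd (by rw [h0, mul_zero]) hm
      · exact_mod_cast h0
    have heI : (2 : ℤ) ≤ e := by exact_mod_cast he2
    have hpI : (2 : ℤ) ≤ p := by exact_mod_cast hp.out.two_le
    have h6 : (p : ℤ) * (((e : ℤ) * k0) ^ 2 - e * k0) ≤ ((e : ℤ) - 1) * ((p : ℤ) - 1) := by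
      have h7 : (e : ℤ) * l ≤ (e : ℤ) * ((p : ℤ) - 1) :=
        mul_le_mul_of_nonneg_left hlp (by omega)
      have h8 := mul_le_mul_of_nonneg_left hlow' (show (0 : ℤ) ≤ p by omega)
      nlinarith [h7, h8, hl2]
    have h9 : (e : ℤ) ≤ ((e : ℤ) * k0) ^ 2 - e * k0 := by
      have h11 : (e : ℤ) ≤ e * k0 := le_mul_of_one_le_right (by omega) hk0
      have h12 := mul_nonneg (show (0 : ℤ) ≤ e * k0 by omega) (show (0 : ℤ) ≤ e * k0 - 2 by omega)
      nlinarith
    have h10 := mul_le_mul_of_nonneg_left h9 (show (0 : ℤ) ≤ p by omega)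
    nlinarith
  subst hzero
  -- vanishing on the normalizer outside `(Subgroup.zpowers x)`
  have hvan : ∀ y, y ∈ Subgroup.normalizer ((Subgroup.zpowers x) : Set G) → y ∉ (Subgroup.zpowers x) → (χ : G → ℂ) y = 0 := by
    intro y hy hyP
    let σ : Representation ℂ (Subgroup.zpowers x) (Fin n → ℂ) := ρ.comp (Subgroup.zpowers x).subtype
    have hnP : ((Fintype.card (Subgroup.zpowers x) : ℕ) : ℂ) ≠ 0 := Nat.cast_ne_zero.2 Fintype.card_ne_zero
    haveI : Invertible (Fintype.card (Subgroup.zpowers x) : ℂ) := invertibleOfNonzero hnP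
    have hzero' : ∑ u : (Subgroup.zpowers x), ρ (u : G) = 0 := by
      have h1 := (Representation.isProj_averageMap σ).trace
      have h2 : σ.averageMap = (Fintype.card (Subgroup.zpowers x) : ℂ)⁻¹ • ∑ u : (Subgroup.zpowers x), ρ (u : G) := by
        rw [Representation.averageMap, GroupAlgebra.average]
        simp [σ, map_sum, invOf_eq_inv]
      rw [h2, map_smul, map_sum] at h1
      have h3 : ∑ u : (Subgroup.zpowers x), LinearMap.trace ℂ (Fin n → ℂ) (ρ (u : G)) = 0 := by
        have : ∀ u : (Subgroup.zpowers x), LinearMap.trace ℂ (Fin n → ℂ) (ρ (u : G)) = (χ : G → ℂ) u := fun u => by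
          rw [← hρχ]; rfl
        simp only [this, hsum1, Nat.cast_zero, mul_zero]
      rw [h3, smul_zero, eq_comm, Nat.cast_eq_zero, Submodule.finrank_eq_zero] at h1
      have h4 : σ.averageMap = 0 := LinearMap.ext fun v => by
        have := Representation.averageMap_invariant σ v
        rw [h1, Submodule.mem_bot] at this
        simpa using this
      rw [h2, smul_eq_zero] at h4
      exact h4.resolve_left (inv_ne_zero hnP)
    let g : (Subgroup.zpowers x) → (Subgroup.zpowers x) := fun u => ⟨(u : G) * (y * (u : G)⁻¹ * y⁻¹),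
      mul_mem u.2 ((Subgroup.mem_normalizer_iff.1 hy _).1 (inv_mem u.2))⟩
    have hg : Function.Injective g := by
      intro u v huv
      have h1 : (u : G) * (y * (u : G)⁻¹ * y⁻¹) = (v : G) * (y * (v : G)⁻¹ * y⁻¹) :=
        congrArg Subtype.val huv
      by_contra hne
      set w := (v : G)⁻¹ * (u : G) with hw
      have hw1 : w ≠ 1 := fun h => hne (Subtype.ext (inv_mul_eq_one.1 h).symm)
      have hwP : w ∈ (Subgroup.zpowers x) := mul_mem (inv_mem v.2) u.2
      have h2 : w * y = y * w := by
        calc w * y = (v : G)⁻¹ * ((u : G) * (y * (u : G)⁻¹ * y⁻¹)) * y * (u : G) := by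
              rw [hw]; group
          _ = (v : G)⁻¹ * ((v : G) * (y * (v : G)⁻¹ * y⁻¹)) * y * (u : G) := by rw [h1]
          _ = y * w := by rw [hw]; group
      refine hyP ?_
      rw [← centralizer_eq_of_mem hx hC hwP hw1]
      exact Subgroup.mem_centralizer_singleton_iff.2 h2.symm
    have h5 : (p : ℂ) * (χ : G → ℂ) y = ∑ u : (Subgroup.zpowers x), (χ : G → ℂ) ((u : G) * y) := by
      rw [← (Finite.injective_iff_bijective.1 hg).sum_comp (fun u : (Subgroup.zpowers x) => (χ : G → ℂ) ((u : G) * y))]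
      have : ∀ u : (Subgroup.zpowers x), (χ : G → ℂ) ((g u : G) * y) = (χ : G → ℂ) y := fun u => by
        rw [show ((g u : (Subgroup.zpowers x)) : G) * y = (u : G) * y * (u : G)⁻¹ by simp only [g]; group,
          Characters.isClassFunction_of_isIrr χ.2]
      rw [Finset.sum_congr rfl fun u _ => this u, Finset.sum_const, Finset.card_univ,
        ← Nat.card_eq_fintype_card, hP, nsmul_eq_mul]
    have h6 : ∑ u : (Subgroup.zpowers x), (χ : G → ℂ) ((u : G) * y) = 0 := by
      have : ∀ u : (Subgroup.zpowers x), (χ : G → ℂ) ((u : G) * y) =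
          LinearMap.trace ℂ (Fin n → ℂ) (ρ (u : G) * ρ y) := fun u => by
        rw [← hρχ, ← map_mul]; rfl
      rw [Finset.sum_congr rfl fun u _ => this u, ← map_sum, ← Finset.sum_mul, hzero', zero_mul,
        map_zero]
    rw [h6] at h5
    exact (mul_eq_zero.1 h5).resolve_left (Nat.cast_ne_zero.2 hp.out.ne_zero)
  -- a generator of the normalizer modulo `(Subgroup.zpowers x)`
  obtain ⟨y, hy, hord⟩ := exists_generator hx hC he he2
  obtain ⟨b, μ, hμ⟩ := Characters.exists_eigenbasis ρ y
  refine ⟨CharactersDeep.LinearChar.detHom ρ, y, ?_⟩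
  rw [CharactersDeep.LinearChar.detHom_apply, ← LinearMap.det_toMatrix b]
  have hdiag : LinearMap.toMatrix b b (ρ y) = Matrix.diagonal μ := by
    ext i j
    rw [LinearMap.toMatrix_apply, (hμ j).1, Matrix.diagonal_apply]
    rcases eq_or_ne i j with rfl | h
    · simp
    · simp [h, Ne.symm h]
  rw [hdiag, Matrix.det_diagonal]
  refine prod_eq_neg_one μ heven htodd he0 (by simp [hn]) (fun i => ?_) fun j hj hje => ?_
  · have := (hμ i).2
    rw [hord.1] at this
    exact this
  · have hpow : ∀ i, ρ (y ^ j) (b i) = μ i ^ j • b i := by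
      intro i
      clear hje hj
      induction j with
      | zero => simp
      | succ j ihj =>
        rw [pow_succ', map_mul, Module.End.mul_apply, ihj, map_smul, (hμ i).1, smul_smul,
          ← pow_succ]
    have h1 : (χ : G → ℂ) (y ^ j) = ∑ i, μ i ^ j := by
      rw [← hρχ, Representation.character, LinearMap.trace_eq_matrix_trace ℂ b, Matrix.trace]
      refine Finset.sum_congr rfl fun i _ => ?_
      rw [Matrix.diag, LinearMap.toMatrix_apply, hpow i]; simp
    rw [← h1]
    exact hvan _ (pow_mem hy j) (hord.2 j hj hje)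

end CfsgLib.SelfCentralPrime
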