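import Cfsg.Agent.BlockPairing.RegularInner
import Cfsg.Agent.Blocks.Sections
import Cfsg.Prelude.Def_BlockRank
import Mathlib.LinearAlgebra.Trace

/-!
# Counting the characters of a block by subsections

The p-regular rank of a union of blocks is the trace of the projection to it on the p-regular
elements, and on a p-section the squared values of the characters of a block are those of the
blocks of the centralizer inducing it.
-/

set_option autoImplicit false
set_option linter.unusedSectionVars false
set_option linter.style.haveILetI false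

namespace CfsgLib.BlockPairing

open CfsgLib.Blocks Cfsg
open scoped ComplexConjugate

universe u

variable {G : Type u} [Group G] [Fintype G] {M : Ideal AlgInt} [M.IsPrime] {p : ℕ}

theorem pRegularPart_apply (p : ℕ) (f : G → ℂ) (g : G) :
    Cfsg.pRegularPart p f g = if p ∣ orderOf g then 0 else f g := by
  unfold Cfsg.pRegularPart Cfsg.IsPRegular
  split_ifs with h
  · simp [h]
  · simp [h]

theorem classInner_pRegularPart (p : ℕ) (f h : G → ℂ) :
    Cfsg.classInner (Cfsg.pRegularPart p f) h = regInner p f h := by
  simp only [Cfsg.classInner, regInner, pRegularPart_apply]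
  congr 1
  exact Finset.sum_congr rfl fun g _ => by split_ifs <;> simp

theorem isClassFunction_pRegularPart (p : ℕ) {f : G → ℂ} (hf : Cfsg.IsClassFunction G f) :
    Cfsg.IsClassFunction G (Cfsg.pRegularPart p f) := fun g h => by
  rw [pRegularPart_apply, pRegularPart_apply, hf,
    show h * g * h⁻¹ = MulAut.conj h g from rfl, MulEquiv.orderOf_eq]

open Classical in
/-- The expansion of a regular restriction, projected to a union of blocks. -/
theorem sum_union_regInner_mul (hM : Cfsg.IsPModular p M) {A : Set (IrrCharacter G)}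
    (hA : IsBlockUnion M A) {f : G → ℂ} (hf : Cfsg.IsClassFunction G f) {y : G}
    (hy : ¬ p ∣ orderOf y) :
    ∑ ξ : IrrCharacter G, (if ξ ∈ A then regInner p f ξ * (ξ : G → ℂ) y else 0) =
      ∑ ξ : IrrCharacter G, (if ξ ∈ A then Cfsg.classInner f ξ * (ξ : G → ℂ) y else 0) := by
  rw [← sub_eq_zero, ← Finset.sum_sub_distrib]
  refine Eq.trans ?_ (sum_union_eq_zero hM hA
    (fun ξ => regInner p f ξ - Cfsg.classInner f (ξ : G → ℂ)) (fun z hz => ?_) hy)
  · exact Finset.sum_congr rfl fun ξ _ => by split_ifs <;> ring
  · have h1 := congrFun (Characters.classFunction_expansion hf) z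
    have h2 := congrFun (Characters.classFunction_expansion (isClassFunction_pRegularPart p hf)) z
    rw [pRegularPart_apply, if_neg hz] at h2
    simp only [Finset.sum_apply, Pi.smul_apply, smul_eq_mul, classInner_pRegularPart] at h1 h2
    simp only [sub_mul, Finset.sum_sub_distrib, ← h1, ← h2, sub_self]

open Classical in
/-- The p-regular rank of a union of blocks. -/
theorem blockRank_eq_sum (hM : Cfsg.IsPModular p M) {A : Set (IrrCharacter G)}
    (hA : IsBlockUnion M A) :
    ((Cfsg.blockRank p A : ℕ) : ℂ) =
      ∑ ξ : IrrCharacter G, if ξ ∈ A then regInner p (ξ : G → ℂ) ξ else 0 := by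
  set W := Submodule.span ℂ
    ((fun χ : IrrCharacter G => Cfsg.pRegularPart p (χ : G → ℂ)) '' A) with hW
  let T : (G → ℂ) →ₗ[ℂ] (G → ℂ) :=
    ∑ ξ : IrrCharacter G, if ξ ∈ A then
      LinearMap.smulRight
        ({ toFun := fun f => regInner p f ξ
           map_add' := fun a b => by
             simp only [regInner, ← mul_add, ← Finset.sum_add_distrib]
             congr 1
             exact Finset.sum_congr rfl fun g _ => by
               simp only [Pi.add_apply]; split_ifs <;> ring
           map_smul' := fun c a => by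
             simp only [regInner, RingHom.id_apply, smul_eq_mul, Finset.mul_sum]
             exact Finset.sum_congr rfl fun g _ => by
               simp only [Pi.smul_apply, smul_eq_mul]; split_ifs <;> ring } : (G → ℂ) →ₗ[ℂ] ℂ)
        (Cfsg.pRegularPart p (ξ : G → ℂ))
      else 0
  have hT : ∀ f, T f = ∑ ξ : IrrCharacter G,
      if ξ ∈ A then regInner p f ξ • Cfsg.pRegularPart p (ξ : G → ℂ) else 0 := by
    intro f
    simp only [T, LinearMap.sum_apply]
    exact Finset.sum_congr rfl fun ξ _ => by split_ifs <;> rfl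
  have hproj : LinearMap.IsProj W T := by
    refine ⟨fun f => ?_, ?_⟩
    · rw [hT]
      refine Submodule.sum_mem _ fun ξ _ => ?_
      split_ifs with h
      · exact Submodule.smul_mem _ _ (Submodule.subset_span ⟨ξ, h, rfl⟩)
      · exact Submodule.zero_mem _
    · intro f hf
      induction hf using Submodule.span_induction with
      | zero => exact map_zero T
      | add a b _ _ ha hb => rw [map_add, ha, hb]
      | smul c a _ ha => rw [map_smul, ha]
      | mem f hf =>
        obtain ⟨η, hη, rfl⟩ := hf
        rw [hT]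
        funext g
        show _ = Cfsg.pRegularPart p (η : G → ℂ) g
        simp only []
        rw [Finset.sum_apply, pRegularPart_apply]
        by_cases hg : p ∣ orderOf g
        · rw [if_pos hg]
          refine Finset.sum_eq_zero fun ξ _ => ?_
          split_ifs <;> simp [pRegularPart_apply, hg]
        · rw [if_neg hg]
          have e : ∀ ξ : IrrCharacter G,
              (if ξ ∈ A then regInner p (Cfsg.pRegularPart p (η : G → ℂ)) ξ •
                Cfsg.pRegularPart p (ξ : G → ℂ) else 0) g =
              if ξ ∈ A then regInner p (η : G → ℂ) ξ * (ξ : G → ℂ) g else 0 := by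
            intro ξ
            split_ifs with h
            · rw [Pi.smul_apply, pRegularPart_apply, if_neg hg, smul_eq_mul]
              congr 1
              simp only [regInner, pRegularPart_apply]
              congr 1
              exact Finset.sum_congr rfl fun x _ => by split_ifs <;> rfl
            · rfl
          simp only [e]
          rw [sum_union_regInner_mul hM hA (Characters.isClassFunction_of_isIrr η.2) hg,
            Finset.sum_eq_single η (fun ξ _ hne => by
              rw [Characters.classInner_irr, if_neg (Ne.symm hne)]; simp) (by simp),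
            if_pos hη, Characters.classInner_irr, if_pos rfl, one_mul]
  have htr := hproj.trace
  rw [Cfsg.blockRank, ← hW, ← htr, LinearMap.trace_eq_matrix_trace ℂ (Pi.basisFun ℂ G)]
  simp only [Matrix.trace, Matrix.diag, LinearMap.toMatrix_apply, Pi.basisFun_apply,
    Pi.basisFun_repr, hT, Finset.sum_apply]
  rw [Finset.sum_comm]
  refine Finset.sum_congr rfl fun ξ _ => ?_
  split_ifs with h
  · simp only [Pi.smul_apply, smul_eq_mul, pRegularPart_apply, regInner, Finset.mul_sum]
    refine Finset.sum_congr rfl fun g _ => ?_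
    rw [Finset.sum_eq_single g (fun x _ hx => by simp [hx]) (by simp)]
    simp only [Pi.single_eq_same]
    split_ifs <;> ring
  · simp

variable [Fact p.Prime]

open Classical in
/-- The squared values of a block on a p-section. -/
theorem sum_sq_section (hM : Cfsg.IsPModular p M) {x : G} (hx : ∃ k, orderOf x = p ^ k)
    [Fintype (Subgroup.centralizer ({x} : Set G))] {B : Set (IrrCharacter G)}
    (hB : Cfsg.IsPBlock M B) {y : Subgroup.centralizer ({x} : Set G)} (hy : ¬ p ∣ orderOf y) :
    ∑ χ : IrrCharacter G, (if χ ∈ B then (χ : G → ℂ) (x * (y : G)) *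
        conj ((χ : G → ℂ) (x * (y : G))) else 0) =
      ∑ ξ : IrrCharacter (Subgroup.centralizer ({x} : Set G)),
        if ξ ∈ overSet M _ B (isBlockUnion_of_isPBlock hB) then
          (ξ : _ → ℂ) y * conj ((ξ : _ → ℂ) y) else 0 := by
  let H := Subgroup.centralizer ({x} : Set G)
  set A := overSet M H B (isBlockUnion_of_isPBlock hB)
  have hA : IsBlockUnion M A := isBlockUnion_overSet H _
  let f : IrrCharacter G → H → ℂ := fun χ c => (χ : G → ℂ) (x * (c : G))
  have hval : ∀ χ : IrrCharacter G, (if χ ∈ B then (χ : G → ℂ) (x * (y : G)) else 0) =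
      ∑ ξ : IrrCharacter H, if ξ ∈ A then regInner p (f χ) ξ * (ξ : H → ℂ) y else 0 := by
    intro χ
    rw [sum_union_regInner_mul hM hA
      (isClassFunction_translate _ (Characters.isClassFunction_of_isIrr χ.2) x) hy,
      ← blockPart_overSet hM hx hB χ hy, Cfsg.blockPart, finsum_irr_mem,
      show (Fintype.ofFinite H) = ‹Fintype H› from Subsingleton.elim _ _]
  have hkey : ∀ h : H, ¬ p ∣ orderOf h →
      ∑ χ : IrrCharacter G, (χ : G → ℂ) (x * (h : G)) * conj ((χ : G → ℂ) (x * (y : G))) =
        ∑ η : IrrCharacter H, (η : H → ℂ) h * conj ((η : H → ℂ) y) := by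
    intro h hh
    have hcx : ∀ c : H, Commute x (c : G) := fun c =>
      (Subgroup.mem_centralizer_singleton_iff.1 c.2).symm
    by_cases hc : IsConj h y
    · obtain ⟨c, rfl⟩ := isConj_iff.1 hc
      have hG : IsConj (x * (h : G)) (x * ((c * h * c⁻¹ : H) : G)) := by
        refine isConj_iff.2 ⟨(c : G), ?_⟩
        push_cast
        rw [← mul_assoc (c : G) x, (hcx c).eq.symm]
        group
      rw [Characters.sum_irr_mul_conj_of_isConj hG, Characters.sum_irr_mul_conj_of_isConj hc]
      congr 1
      refine Nat.card_congr ⟨fun g => ⟨⟨g.1, ?_⟩, ?_⟩, fun g => ⟨(g.1 : G), ?_⟩,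
        fun g => rfl, fun g => rfl⟩
      · have hg := Subgroup.mem_centralizer_singleton_iff.1 g.2
        have h1 := isPPart_conj (isPPart_of_mul (hcx h) hx (by rwa [Subgroup.orderOf_coe])) (g.1 : G)
        rw [hg, mul_inv_cancel_right] at h1
        have h2 := isPPart_unique (Fact.out : p.Prime) h1
          (isPPart_of_mul (hcx h) hx (by rwa [Subgroup.orderOf_coe]))
        exact Subgroup.mem_centralizer_singleton_iff.2 (mul_inv_eq_iff_eq_mul.1 h2)
      · refine Subgroup.mem_centralizer_singleton_iff.2 (Subtype.ext ?_)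
        have hg := Subgroup.mem_centralizer_singleton_iff.1 g.2
        have hgx : (g.1 : G) * x = x * g.1 := by
          have h1 := isPPart_conj (isPPart_of_mul (hcx h) hx (by rwa [Subgroup.orderOf_coe])) (g.1 : G)
          rw [hg, mul_inv_cancel_right] at h1
          have h2 := isPPart_unique (Fact.out : p.Prime) h1
            (isPPart_of_mul (hcx h) hx (by rwa [Subgroup.orderOf_coe]))
          exact mul_inv_eq_iff_eq_mul.1 h2
        rw [← mul_assoc, hgx, mul_assoc, mul_assoc] at hg
        exact mul_left_cancel hg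
      · refine Subgroup.mem_centralizer_singleton_iff.2 ?_
        have hg := congrArg Subtype.val (Subgroup.mem_centralizer_singleton_iff.1 g.2)
        push_cast at hg
        rw [← mul_assoc, (hcx g.1).eq.symm, mul_assoc, hg, ← mul_assoc]
    · rw [Characters.sum_irr_mul_conj_of_not_isConj hc,
        Characters.sum_irr_mul_conj_of_not_isConj]
      intro hcj
      obtain ⟨c, hc'⟩ := isConj_iff.1 hcj
      have h1 := isPPart_conj (isPPart_of_mul (hcx h) hx (by rwa [Subgroup.orderOf_coe])) c
      rw [hc'] at h1
      have h2 := isPPart_unique (Fact.out : p.Prime) h1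
        (isPPart_of_mul (hcx y) hx (by rwa [Subgroup.orderOf_coe]))
      have hcm : c ∈ H := Subgroup.mem_centralizer_singleton_iff.2 (mul_inv_eq_iff_eq_mul.1 h2)
      refine hc (isConj_iff.2 ⟨⟨c, hcm⟩, Subtype.ext ?_⟩)
      push_cast
      have h3 : x * (c * (h : G) * c⁻¹) = x * (y : G) := by
        rw [← hc']
        conv_lhs => arg 1; rw [← h2]
        group
      exact mul_left_cancel h3
  calc ∑ χ : IrrCharacter G, (if χ ∈ B then (χ : G → ℂ) (x * (y : G)) *
        conj ((χ : G → ℂ) (x * (y : G))) else 0)
      = ∑ χ : IrrCharacter G, ∑ ξ : IrrCharacter H, (if ξ ∈ A then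
          regInner p (f χ) ξ * conj ((χ : G → ℂ) (x * (y : G))) * (ξ : H → ℂ) y else 0) := by
        refine Finset.sum_congr rfl fun χ _ => ?_
        rw [← mul_one (ite _ _ _), show (if χ ∈ B then (χ : G → ℂ) (x * (y : G)) *
          conj ((χ : G → ℂ) (x * (y : G))) else 0) * 1 = (if χ ∈ B then (χ : G → ℂ) (x * (y : G))
          else 0) * conj ((χ : G → ℂ) (x * (y : G))) by split_ifs <;> ring, hval, Finset.sum_mul]
        exact Finset.sum_congr rfl fun ξ _ => by split_ifs <;> ring
    _ = ∑ ξ : IrrCharacter H, if ξ ∈ A then (ξ : H → ℂ) y * conj ((ξ : H → ℂ) y) else 0 := by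
        rw [Finset.sum_comm]
        refine Finset.sum_congr rfl fun ξ _ => ?_
        split_ifs with hξ
        · rw [← Finset.sum_mul, mul_comm ((ξ : H → ℂ) y)]
          congr 1
          -- the coefficient collapses to the class of `y`
          set δ : H → ℂ := fun h => ∑ η : IrrCharacter H, (η : H → ℂ) h * conj ((η : H → ℂ) y)
          have hδ : ∀ h : H, p ∣ orderOf h → δ h = 0 := fun h hh =>
            Characters.sum_irr_mul_conj_of_not_isConj fun hc =>
              not_isConj_of_regular_singular hy hh hc.symm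
          simp only [regInner, Finset.mul_sum, Finset.sum_mul]
          rw [Finset.sum_comm]
          have hcl : ∀ η : IrrCharacter H, Cfsg.classInner (η : H → ℂ) (ξ : H → ℂ) =
              if η = ξ then 1 else 0 := fun η => Characters.classInner_irr η ξ
          have : Cfsg.classInner δ (ξ : H → ℂ) = conj ((ξ : H → ℂ) y) := by
            rw [show δ = ∑ η : IrrCharacter H, conj ((η : H → ℂ) y) • (η : H → ℂ) from
              funext fun h => by simp [δ, mul_comm]]
            exact Characters.classInner_irr_coeff _ ξ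
          rw [← this, Cfsg.classInner, Finset.mul_sum]
          refine Finset.sum_congr rfl fun h _ => ?_
          by_cases hh : p ∣ orderOf h
          · simp [hδ h hh, hh]
          · simp only [hh, if_false, f, δ]
            rw [← hkey h hh, Finset.sum_mul, Finset.mul_sum]
            exact Finset.sum_congr rfl fun χ _ => by ring
        · simp

open Classical in
/-- Brauer's count of a block by subsections. -/
theorem card_block_eq_sum (hM : Cfsg.IsPModular p M) {B : Set (IrrCharacter G)}
    (hB : Cfsg.IsPBlock M B) (X : Finset G) (hX : ∀ x ∈ X, ∃ k : ℕ, orderOf x = p ^ k)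
    (hrep : ∀ g : G, (∃ k : ℕ, orderOf g = p ^ k) → ∃! x, x ∈ X ∧ IsConj g x) :
    Nat.card B = ∑ x ∈ X,
      ∑ᶠ b ∈ {b : Set (IrrCharacter ↥(Subgroup.centralizer ({x} : Set G))) |
        Cfsg.IsInducedBlock M (Subgroup.centralizer ({x} : Set G)) b B},
        Cfsg.blockRank p b := by
  have hpp : p.Prime := Fact.out
  apply Nat.cast_injective (R := ℂ)
  set f : G → ℂ := fun g => ∑ χ : IrrCharacter G,
    if χ ∈ B then (χ : G → ℂ) g * conj ((χ : G → ℂ) g) else 0
  have hfc : ∀ g c : G, f (c * g * c⁻¹) = f g := fun g c =>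
    Finset.sum_congr rfl fun χ _ => by rw [Characters.isClassFunction_of_isIrr χ.2]
  have hk : ((Nat.card B : ℕ) : ℂ) = (Nat.card G : ℂ)⁻¹ * ∑ g, f g := by
    have h1 : ∀ χ : IrrCharacter G, (Nat.card G : ℂ)⁻¹ *
        ∑ g, (if χ ∈ B then (χ : G → ℂ) g * conj ((χ : G → ℂ) g) else 0) =
        if χ ∈ B then 1 else 0 := by
      intro χ
      by_cases h : χ ∈ B
      · simp only [if_pos h]; exact Characters.classInner_isIrr_self χ.2
      · simp [h]
    simp only [f]
    rw [Finset.sum_comm, Finset.mul_sum, Finset.sum_congr rfl fun χ _ => h1 χ, Finset.sum_boole,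
      Nat.card_eq_fintype_card, Fintype.card_subtype]
  choose pp hpp' using fun g : G => exists_isPPart (p := p) hpp g
  set S : G → ℂ := fun z => ∑ g ∈ Finset.univ.filter (fun g => pp g = z), f g with hS
  have hSc : ∀ z c : G, S (c * z * c⁻¹) = S z := by
    intro z c
    refine (Finset.sum_equiv (MulAut.conj c).toEquiv (fun g => ?_) fun g _ => ?_).symm
    · simp only [Finset.mem_filter, Finset.mem_univ, true_and, MulEquiv.toEquiv_eq_coe,
        MulEquiv.coe_toEquiv, MulAut.conj_apply]
      rw [isPPart_unique hpp (hpp' (c * g * c⁻¹)) (isPPart_conj (hpp' g) c), mul_left_inj,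
        mul_right_inj]
    · simp [hfc]
  have hsplit : ∑ g, f g = ∑ x ∈ X, ((Subgroup.centralizer ({x} : Set G)).index : ℂ) * S x := by
    rw [← Finset.sum_fiberwise Finset.univ pp f]
    have h1 : ∀ z : G, S z = ∑ x ∈ X, if IsConj z x then S x else 0 := by
      intro z
      by_cases hz : ∃ k, orderOf z = p ^ k
      · obtain ⟨x, ⟨hx, hzx⟩, huni⟩ := hrep z hz
        rw [Finset.sum_eq_single x (fun x' hx' hne => if_neg fun h => hne (huni x' ⟨hx', h⟩))
          (fun h => absurd hx h), if_pos hzx]
        obtain ⟨c, rfl⟩ := isConj_iff.1 hzx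
        rw [hSc]
      · rw [Finset.sum_eq_zero fun x hx => if_neg fun h => hz ?_]
        · refine Finset.sum_eq_zero fun g hg => absurd ?_ hz
          obtain ⟨y, -, -, hk, -⟩ := hpp' g
          rwa [(Finset.mem_filter.1 hg).2] at hk
        · obtain ⟨c, hc⟩ := isConj_iff.1 h
          obtain ⟨k, hk⟩ := hX x hx
          exact ⟨k, by rw [← hk, ← hc, show c * z * c⁻¹ = MulAut.conj c z from rfl,
            MulEquiv.orderOf_eq]⟩
    refine Eq.trans (Finset.sum_congr rfl fun z _ => h1 z) ?_
    rw [Finset.sum_comm]
    refine Finset.sum_congr rfl fun x _ => ?_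
    rw [← Finset.sum_filter, Finset.sum_const, nsmul_eq_mul, ← natCard_class x,
      Nat.card_eq_fintype_card, Fintype.card_subtype]
    congr 3
    ext z
    simp [ConjClasses.mk_eq_mk_iff_isConj]
  rw [hk, hsplit, Finset.mul_sum, Nat.cast_sum]
  refine Finset.sum_congr rfl fun x hxX => ?_
  have hx := hX x hxX
  let H := Subgroup.centralizer ({x} : Set G)
  haveI : Fintype H := Fintype.ofFinite H
  set A := overSet M H B (isBlockUnion_of_isPBlock hB)
  have hcx : ∀ c : H, Commute x (c : G) := fun c =>
    (Subgroup.mem_centralizer_singleton_iff.1 c.2).symm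
  have hSx : S x = ∑ y : H, if p ∣ orderOf y then 0 else f (x * (y : G)) := by
    have hite : ∀ y : H, (if p ∣ orderOf y then 0 else f (x * (y : G))) =
        if ¬ p ∣ orderOf y then f (x * (y : G)) else 0 := fun y => by split_ifs <;> rfl
    simp only [hite, ← Finset.sum_filter]
    refine (Finset.sum_bij (fun (y : H) _ => x * (y : G)) (fun y hy => ?_) (fun y _ y' _ h =>
      Subtype.ext (mul_left_cancel h)) (fun g hg => ?_) (fun y _ => rfl)).symm
    · refine Finset.mem_filter.2 ⟨Finset.mem_univ _, isPPart_unique hpp (hpp' _)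
        (isPPart_of_mul (hcx y) hx ?_)⟩
      rw [Subgroup.orderOf_coe]
      exact (Finset.mem_filter.1 hy).2
    · obtain ⟨y, hxy, hc, -, hy⟩ := hpp' g
      rw [(Finset.mem_filter.1 hg).2] at hxy hc
      exact ⟨⟨y, Subgroup.mem_centralizer_singleton_iff.2 hc.eq.symm⟩,
        Finset.mem_filter.2 ⟨Finset.mem_univ _, by rwa [← Subgroup.orderOf_coe]⟩, hxy⟩
  have hidx : (Nat.card G : ℂ)⁻¹ * ((H.index : ℕ) : ℂ) = (Nat.card H : ℂ)⁻¹ := by
    rw [← H.index_mul_card]
    push_cast
    rw [mul_inv, mul_right_comm, inv_mul_cancel₀ (Nat.cast_ne_zero.2 Subgroup.index_ne_zero_of_finite),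
      one_mul]
  rw [← mul_assoc, hidx, hSx]
  have hA : (Nat.card H : ℂ)⁻¹ * ∑ y : H, (if p ∣ orderOf y then 0 else f (x * (y : G))) =
      ∑ ξ : IrrCharacter H, if ξ ∈ A then regInner p (ξ : H → ℂ) ξ else 0 := by
    have hstep : ∀ y : H, (if p ∣ orderOf y then 0 else f (x * (y : G))) =
        ∑ ξ : IrrCharacter H, if ξ ∈ A then
          (if p ∣ orderOf y then 0 else (ξ : H → ℂ) y * conj ((ξ : H → ℂ) y)) else 0 := by
      intro y
      by_cases hy : p ∣ orderOf y
      · simp [hy]
      · simp only [if_neg hy, f]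
        exact sum_sq_section hM hx hB hy
    simp only [hstep]
    rw [Finset.sum_comm, Finset.mul_sum]
    refine Finset.sum_congr rfl fun ξ _ => ?_
    split_ifs with h
    · rfl
    · simp
  rw [hA]
  -- group the characters of `A` by blocks
  set I := {b : Set (IrrCharacter H) | Cfsg.IsInducedBlock M H b B}
  have hmemA : ∀ b ∈ I, ∀ ξ ∈ b, ξ ∈ A := by
    intro b hb ξ hξ
    obtain ⟨χ, hχ⟩ := isPBlock_nonempty hB
    have h := (isInducedBlock_iff H hb.1 hB hξ hχ).1 hb (idemBar M B (isBlockUnion_of_isPBlock hB))
    rw [omegaBar_idemBar, if_pos hχ] at h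
    show omegaBar M ξ (resCtr H (idemBar M B _)) ≠ 0
    rw [h]
    exact one_ne_zero
  rw [finsum_mem_eq_toFinset_sum, Nat.cast_sum,
    Finset.sum_congr rfl fun b hb => blockRank_eq_sum hM
      (isBlockUnion_of_isPBlock (Set.mem_toFinset.1 hb).1), Finset.sum_comm]
  refine Finset.sum_congr rfl fun ξ _ => ?_
  by_cases hξ : ξ ∈ A
  · rw [if_pos hξ, Finset.sum_eq_single (Cfsg.blockOf M (ξ : H → ℂ))]
    · rw [if_pos (mem_blockOf_self ξ)]
    · intro b hb hne
      rw [if_neg]
      exact fun h => hne (eq_blockOf_of_mem (Set.mem_toFinset.1 hb).1 h)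
    · intro h
      refine absurd ?_ h
      rw [Set.mem_toFinset]
      exact isInducedBlock_of_mem_overSet hM hx hB hξ
  · rw [if_neg hξ, eq_comm]
    exact Finset.sum_eq_zero fun b hb =>
      if_neg fun h => hξ (hmemA b (Set.mem_toFinset.1 hb) ξ h)

end CfsgLib.BlockPairing
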