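import Cfsg.Agent.Blocks.Idempotent
import Cfsg.Agent.Characters.Linear

/-!
# Inversion pairing in the centre of the group algebra in characteristic 2

A 2-block of full defect whose reduced central character is inversion invariant is principal.
-/

set_option autoImplicit false
set_option linter.all false

namespace CfsgLib.BlockPairing

open CfsgLib.Blocks

section Abstract

variable {R : Type*} [CommRing R] [IsDomain R] [CharP R 2] {G : Type*} [Group G] [Fintype G]

/-- The class of inverses. -/
noncomputable def invClass (C : ConjClasses G) : ConjClasses G := ConjClasses.mk (C.out)⁻¹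

theorem invClass_mk (g : G) : invClass (ConjClasses.mk g) = ConjClasses.mk g⁻¹ := by
  apply ConjClasses.mk_eq_mk_iff_isConj.2
  obtain ⟨c, hc⟩ := isConj_iff.1 (ConjClasses.mk_eq_mk_iff_isConj.1
    (Quotient.out_eq (ConjClasses.mk g)) : IsConj (ConjClasses.mk g).out g)
  refine isConj_iff.2 ⟨c, ?_⟩
  generalize (ConjClasses.mk g).out = o at hc ⊢
  subst hc
  group

theorem invClass_invClass (C : ConjClasses G) : invClass (invClass C) = C := by
  obtain ⟨g, rfl⟩ := ConjClasses.mk_surjective C
  rw [invClass_mk, invClass_mk, inv_inv]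

theorem mk_inv_eq_iff (x : G) (C : ConjClasses G) :
    ConjClasses.mk x⁻¹ = C ↔ ConjClasses.mk x = invClass C := by
  rw [← invClass_mk]
  exact ⟨fun h => by rw [← h, invClass_invClass], fun h => by rw [h, invClass_invClass]⟩

/-- Two inversion-invariant algebra maps on the centre that agree on real classes are equal. -/
theorem eq_of_eq_on_real {Φ Ψ : Ctr R G →+* R} (hΦs : ∀ r, Φ (scalar r) = r)
    (hΨs : ∀ r, Ψ (scalar r) = r)
    (hΦi : ∀ C, Φ (classSum R (invClass C)) = Φ (classSum R C))
    (hΨi : ∀ C, Ψ (classSum R (invClass C)) = Ψ (classSum R C))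
    (hreal : ∀ C, invClass C = C → Φ (classSum R C) = Ψ (classSum R C)) (C : ConjClasses G) :
    Φ (classSum R C) = Ψ (classSum R C) := by
  classical
  haveI := Fintype.ofFinite (ConjClasses G)
  set z : Ctr R G := classSum R C * classSum R (invClass C) with hz
  have hcoeff : ∀ D, classCoeff z (invClass D) = classCoeff z D := by
    intro D
    obtain ⟨g, rfl⟩ := ConjClasses.mk_surjective D
    rw [invClass_mk, classCoeff_mk, classCoeff_mk]
    have hc : ∀ y : G, (z : MonoidAlgebra R G).coeff y = ∑ x : G,
        (classSum R C : MonoidAlgebra R G).coeff x *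
          (classSum R C : MonoidAlgebra R G).coeff (y⁻¹ * x) := by
      intro y
      rw [hz, Subring.coe_mul, coeff_mul_eq_sum]
      refine Finset.sum_congr rfl fun x _ => ?_
      congr 1
      rw [coeff_classSum, coeff_classSum]
      have e : ConjClasses.mk (x⁻¹ * y) = invClass C ↔ ConjClasses.mk (y⁻¹ * x) = C := by
        rw [← mk_inv_eq_iff, mul_inv_rev, inv_inv]
      by_cases he : ConjClasses.mk (y⁻¹ * x) = C
      · rw [if_pos (e.2 he), if_pos he]
      · rw [if_neg (mt e.1 he), if_neg he]
    rw [hc, hc, inv_inv]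
    refine Fintype.sum_equiv (Equiv.mulLeft g) _ _ fun x => ?_
    simp only [Equiv.coe_mulLeft, inv_mul_cancel_left]
    exact mul_comm _ _
  have hval : ∀ F : Ctr R G →+* R, (∀ r, F (scalar r) = r) →
      (∀ D, F (classSum R (invClass D)) = F (classSum R D)) →
      F z = ∑ D ∈ Finset.univ.filter (fun D => invClass D = D), classCoeff z D * F (classSum R D) := by
    intro F hs hi
    conv_lhs => rw [eq_sum_classSum z]
    rw [map_sum, Finset.sum_congr rfl (fun D _ => by rw [map_mul, hs]),
      ← Finset.sum_filter_add_sum_filter_not Finset.univ (fun D => invClass D = D)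
        (fun D => classCoeff z D * F (classSum R D))]
    rw [add_eq_left]
    refine Finset.sum_involution (fun D _ => invClass D) ?_ ?_ ?_ ?_
    · intro D _
      rw [hcoeff, hi, CharTwo.add_self_eq_zero]
    · intro D hD _
      exact (Finset.mem_filter.1 hD).2
    · intro D hD
      rw [Finset.mem_filter] at hD ⊢
      exact ⟨Finset.mem_univ _, fun h => hD.2 (by rw [invClass_invClass] at h; exact h.symm)⟩
    · intro D _
      exact invClass_invClass D
  have hsq : Φ z = Ψ z := by
    rw [hval Φ hΦs hΦi, hval Ψ hΨs hΨi]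
    refine Finset.sum_congr rfl fun D hD => ?_
    rw [hreal D (Finset.mem_filter.1 hD).2]
  rw [hz, map_mul, map_mul, hΦi, hΨi] at hsq
  exact CharTwo.sq_injective (by simpa only [sq] using hsq)

end Abstract

section Chars

variable {G : Type*} [Group G] [Fintype G] {M : Ideal Cfsg.AlgInt} [M.IsPrime]

/-- The reduction of a character value. -/
noncomputable def redVal (M : Ideal Cfsg.AlgInt) [M.IsPrime] (χ : Cfsg.IrrCharacter G) (g : G) :
    Res M :=
  red M ⟨(χ : G → ℂ) g, memLocalRing_of_isIntegral
    (Characters.character_isIntegral (Characters.isCharacter_of_isIrr χ.2) g)⟩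

theorem redVal_one {χ : Cfsg.IrrCharacter G} (hM : Cfsg.IsPModular 2 M)
    (hodd : Odd (Cfsg.charDegree (χ : G → ℂ))) : redVal M χ 1 = 1 := by
  haveI := charP_res hM
  obtain ⟨n, hn⟩ := Characters.exists_degree (Characters.isCharacter_of_isIrr χ.2)
  have hn' : Odd n := by rw [Cfsg.charDegree, hn] at hodd; simpa using hodd
  have : redVal M χ 1 = (n : Res M) := by
    rw [redVal, ← map_natCast (red M)]
    congr 1
    exact Subtype.ext (by simpa using hn)
  rw [this]
  obtain ⟨m, rfl⟩ := hn'
  push_cast
  rw [CharTwo.two_eq_zero, zero_mul, zero_add]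

theorem redVal_pow (hM : Cfsg.IsPModular 2 M) (χ : Cfsg.IrrCharacter G) (g : G) (N : ℕ) :
    redVal M χ g ^ (2 ^ N) = redVal M χ (g ^ (2 ^ N)) := by
  haveI := charP_res hM
  haveI : Fact (Nat.Prime 2) := ⟨Nat.prime_two⟩
  obtain ⟨n, ρ, hρ, he⟩ := χ.2
  obtain ⟨μ, hμ, hj, -⟩ := Characters.exists_eigenvalues ρ g
  let w : Fin (Module.finrank ℂ (Fin n → ℂ)) → localRing M := fun i =>
    ⟨μ i, memLocalRing_of_isIntegral
      (IsIntegral.of_pow (orderOf_pos g) (by rw [hμ i]; exact isIntegral_one))⟩
  have h : ∀ j, redVal M χ (g ^ j) = ∑ i, red M (w i) ^ j := by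
    intro j
    simp only [← map_pow, ← map_sum]
    rw [redVal]
    congr 1
    apply Subtype.ext
    rw [AddSubmonoidClass.coe_finsetSum]
    simp only [← he, hj j, SubmonoidClass.coe_pow, w]
  have h1 := h 1
  simp only [pow_one] at h1
  rw [h, h1, sum_pow_char_pow]

theorem omegaBar_classSum_mul (χ : Cfsg.IrrCharacter G) (g : G) :
    omegaBar M χ (classSum _ (ConjClasses.mk g)) * redVal M χ 1 =
      ((Subgroup.centralizer ({g} : Set G)).index : Res M) * redVal M χ g := by
  rw [omegaBar_classSum, redVal, redVal, ← map_natCast (red M), ← map_mul, ← map_mul]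
  congr 1
  apply Subtype.ext
  simp only [MulMemClass.coe_mul, SubringClass.coe_natCast, Cfsg.centralChar]
  rw [div_mul_cancel₀ _ (Characters.irr_one_ne_zero χ.2)]

theorem index_centralizer_inv (g : G) :
    (Subgroup.centralizer ({g⁻¹} : Set G)).index = (Subgroup.centralizer ({g} : Set G)).index := by
  congr 1
  ext x
  simp only [Subgroup.mem_centralizer_singleton_iff]
  exact ⟨fun h => Commute.eq (by simpa using Commute.inv_right (h : Commute x g⁻¹)),
    fun h => Commute.inv_right (h : Commute x g)⟩

/-- For odd degree, inversion invariance of values on odd classes makes the block principal. -/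
theorem mem_principalBlock_of_inv (hM : Cfsg.IsPModular 2 M) (χ : Cfsg.IrrCharacter G)
    (hodd : Odd (Cfsg.charDegree (χ : G → ℂ)))
    (hinv : ∀ g : G, Odd ((Subgroup.centralizer ({g} : Set G)).index) → Odd (orderOf g) →
      redVal M χ g⁻¹ = redVal M χ g) :
    χ ∈ Cfsg.principalBlock M G := by
  classical
  haveI := charP_res hM
  haveI : Fact (Nat.Prime 2) := ⟨Nat.prime_two⟩
  let one : Cfsg.IrrCharacter G := ⟨fun _ => 1, Characters.isIrr_one⟩
  have hone : ∀ g : G, redVal M one g = 1 := by
    intro g
    rw [redVal, ← map_one (red M)]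
    rfl
  have hΦ : ∀ g : G, omegaBar M χ (classSum _ (ConjClasses.mk g)) =
      ((Subgroup.centralizer ({g} : Set G)).index : Res M) * redVal M χ g := by
    intro g
    rw [← omegaBar_classSum_mul, redVal_one hM hodd, mul_one]
  have hΨ : ∀ g : G, omegaBar M one (classSum _ (ConjClasses.mk g)) =
      ((Subgroup.centralizer ({g} : Set G)).index : Res M) := by
    intro g
    have := omegaBar_classSum_mul (M := M) one g
    rwa [hone, hone, mul_one, mul_one] at this
  -- the odd part of an element with odd class
  set a := (Nat.card G).factorization 2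
  have hodd_part : ∀ g : G, Odd ((Subgroup.centralizer ({g} : Set G)).index) →
      Odd ((Subgroup.centralizer ({g ^ (2 ^ a)} : Set G)).index) ∧ Odd (orderOf (g ^ (2 ^ a))) := by
    intro g hg
    constructor
    · refine hg.of_dvd_nat (Subgroup.index_dvd_of_le fun x hx => ?_)
      rw [Subgroup.mem_centralizer_singleton_iff] at hx ⊢
      exact Commute.pow_right (hx : Commute x g) _
    · rw [Nat.odd_iff, ← Nat.two_dvd_ne_zero]
      intro hd
      have h1 : (g ^ (2 ^ a)) ^ (Nat.card G / 2 ^ a) = 1 := by
        rw [← pow_mul, Nat.mul_div_cancel' (Nat.ordProj_dvd _ _), pow_card_eq_one']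
      exact Nat.not_dvd_ordCompl Nat.prime_two Nat.card_pos.ne'
        (hd.trans (orderOf_dvd_of_pow_eq_one h1))
  have hinv' : ∀ g : G, Odd ((Subgroup.centralizer ({g} : Set G)).index) →
      redVal M χ g⁻¹ = redVal M χ g := by
    intro g hg
    apply iterateFrobenius_inj (Res M) 2 a
    simp only [iterateFrobenius_def]
    rw [redVal_pow hM, redVal_pow hM, inv_pow, hinv _ (hodd_part g hg).1 (hodd_part g hg).2]
  have hvanish : ∀ g : G, ¬ Odd ((Subgroup.centralizer ({g} : Set G)).index) →
      ((Subgroup.centralizer ({g} : Set G)).index : Res M) = 0 := by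
    intro g hg
    rw [Nat.not_odd_iff_even, even_iff_two_dvd] at hg
    exact (CharP.cast_eq_zero_iff (Res M) 2 _).2 hg
  have hreal : ∀ g : G, Odd ((Subgroup.centralizer ({g} : Set G)).index) → IsConj g g⁻¹ →
      redVal M χ g = 1 := by
    intro g hg hc
    obtain ⟨hh, hho⟩ := hodd_part g hg
    set h := g ^ (2 ^ a)
    have hch : IsConj h h⁻¹ := by
      obtain ⟨c, hc⟩ := isConj_iff.1 hc
      exact isConj_iff.2 ⟨c, by rw [← conj_pow, hc, inv_pow]⟩
    -- inversion is an involution of the odd class of `h`, hence has a fixed point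
    have h1 : h = 1 := by
      let S := {x : G // ConjClasses.mk x = ConjClasses.mk h}
      have hS : ¬ 2 ∣ Fintype.card S := by
        rw [← Nat.card_eq_fintype_card, natCard_class]
        exact Nat.two_dvd_ne_zero.2 (Nat.odd_iff.1 hh)
      have hinvS : ∀ x : S, ConjClasses.mk (x : G)⁻¹ = ConjClasses.mk h := by
        intro x
        rw [← invClass_mk, x.2, invClass_mk]
        exact ConjClasses.mk_eq_mk_iff_isConj.2 hch.symm
      let σ : Equiv.Perm S :=
        { toFun := fun x => ⟨(x : G)⁻¹, hinvS x⟩
          invFun := fun x => ⟨(x : G)⁻¹, hinvS x⟩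
          left_inv := fun x => Subtype.ext (inv_inv _)
          right_inv := fun x => Subtype.ext (inv_inv _) }
      obtain ⟨x, hx⟩ := Equiv.Perm.exists_fixed_point_of_prime (p := 2) (n := 1) hS (σ := σ)
        (by rw [pow_one, sq]; exact Equiv.ext fun x => Subtype.ext (inv_inv _))
      have hx' : (x : G)⁻¹ = x := congrArg Subtype.val hx
      obtain ⟨c, hc⟩ := isConj_iff.1 (ConjClasses.mk_eq_mk_iff_isConj.1 x.2)
      have ho : orderOf (x : G) = orderOf h := by
        refine Eq.trans ?_ (congrArg orderOf hc)
        rw [show c * (x : G) * c⁻¹ = MulAut.conj c (x : G) from rfl, MulEquiv.orderOf_eq]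
      have hd : orderOf (x : G) ∣ 2 := orderOf_dvd_of_pow_eq_one (by
        rw [sq]; conv_lhs => arg 1; rw [← hx']
        exact inv_mul_cancel _)
      rcases (Nat.dvd_prime Nat.prime_two).1 hd with h2 | h2
      · rw [ho, orderOf_eq_one_iff] at h2; exact h2
      · rw [ho] at h2; rw [h2] at hho; exact absurd hho (by decide)
    apply iterateFrobenius_inj (Res M) 2 a
    simp only [iterateFrobenius_def]
    rw [redVal_pow hM, one_pow]
    show redVal M χ h = 1
    rw [h1, redVal_one hM hodd]
  have key : omegaBar M one = omegaBar M χ := by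
    refine omegaBar_ext (omegaBar_scalar one) (omegaBar_scalar χ) fun C => ?_
    symm
    refine eq_of_eq_on_real (omegaBar_scalar χ) (omegaBar_scalar one) ?_ ?_ ?_ C
    · intro C
      obtain ⟨g, rfl⟩ := ConjClasses.mk_surjective C
      rw [invClass_mk, hΦ, hΦ, index_centralizer_inv]
      by_cases hg : Odd ((Subgroup.centralizer ({g} : Set G)).index)
      · rw [hinv' g hg]
      · rw [hvanish g hg, zero_mul, zero_mul]
    · intro C
      obtain ⟨g, rfl⟩ := ConjClasses.mk_surjective C
      rw [invClass_mk, hΨ, hΨ, index_centralizer_inv]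
    · intro C hC
      obtain ⟨g, rfl⟩ := ConjClasses.mk_surjective C
      rw [invClass_mk] at hC
      rw [hΦ, hΨ]
      by_cases hg : Odd ((Subgroup.centralizer ({g} : Set G)).index)
      · rw [hreal g hg (ConjClasses.mk_eq_mk_iff_isConj.1 hC).symm, mul_one]
      · rw [hvanish g hg, zero_mul]
  exact (sameBlock_iff one χ).2 key

end Chars

end CfsgLib.BlockPairing
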